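import Groth.Agent.ProjBundleLib.Canon
import Groth.Agent.SubLib.ExtendWO

/-! A submodule of finite type of the direct image of a very ample module already gives an immersion. -/

set_option autoImplicit false
set_option linter.style.haveILetI false
set_option backward.isDefEq.respectTransparency false

universe u

open CategoryTheory CategoryTheory.Limits AlgebraicGeometry TopologicalSpace Opposite
open Groth.Agent.ParaFLib Groth.Agent.PullbackMod

noncomputable section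

namespace Groth.Agent.ProjBundleLib

/-- An element of a generated subring is generated by finitely many. -/
theorem exists_finset_closure {A : Type*} [Ring A] {s : Set A} {a : A} (ha : a ∈ Subring.closure s) :
    ∃ t : Finset A, (t : Set A) ⊆ s ∧ a ∈ Subring.closure (t : Set A) := by
  classical
  induction ha using Subring.closure_induction with
  | mem z hz => exact ⟨{z}, by simpa using hz, Subring.subset_closure (by simp)⟩
  | zero => exact ⟨∅, by simp, zero_mem _⟩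
  | one => exact ⟨∅, by simp, one_mem _⟩
  | add a b _ _ ha hb =>
    obtain ⟨t, ht, h⟩ := ha
    obtain ⟨t', ht', h'⟩ := hb
    exact ⟨t ∪ t', by simp [ht, ht'], add_mem (Subring.closure_mono (by simp) h) (Subring.closure_mono (by simp) h')⟩
  | neg a _ ha =>
    obtain ⟨t, ht, h⟩ := ha
    exact ⟨t, ht, neg_mem h⟩
  | mul a b _ _ ha hb =>
    obtain ⟨t, ht, h⟩ := ha
    obtain ⟨t', ht', h'⟩ := hb
    exact ⟨t ∪ t', by simp [ht, ht'], mul_mem (Subring.closure_mono (by simp) h) (Subring.closure_mono (by simp) h')⟩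

section sub

variable {X : Scheme.{u}} {M : X.Modules}

theorem good_sup {N N' : SubLib.StalkSub M} {V : X.Opens} (h : SubLib.Good N V) (h' : SubLib.Good N' V) :
    SubLib.Good (fun z => N z ⊔ N' z) V := by
  classical
  intro x hx
  obtain ⟨W, hW, hxW, hWV, hG⟩ := h x hx
  obtain ⟨W', hW', hxW', hWV', hG'⟩ := h' x hx
  obtain ⟨_, ⟨W'', hW'', rfl⟩, hxW'', hle⟩ :=
    X.isBasis_affineOpens.exists_subset_of_mem_open (show x ∈ W ⊓ W' from ⟨hxW, hxW'⟩) (W ⊓ W').2
  obtain ⟨S, hS⟩ := hG.mono (hle.trans fun _ h => h.1 : W'' ≤ W)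
  obtain ⟨S', hS'⟩ := hG'.mono (hle.trans fun _ h => h.2 : W'' ≤ W')
  refine ⟨W'', hW'', hxW'', fun z hz => hWV (hle hz).1, S ∪ S', fun y hy => ?_⟩
  show N y ⊔ N' y = _
  rw [Finset.coe_union, Set.image_union, Submodule.span_union, ← hS y hy, ← hS' y hy]

theorem good_bot (V : X.Opens) : SubLib.Good (fun _ => ⊥ : SubLib.StalkSub M) V := by
  intro x hx
  obtain ⟨_, ⟨W, hW, rfl⟩, hxW, hle⟩ := X.isBasis_affineOpens.exists_subset_of_mem_open hx V.2
  exact ⟨W, hW, hxW, hle, ∅, fun y hy => by simp⟩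

/-- Finitely many sections lie in a submodule of finite type. -/
theorem exists_ft_through [CompactSpace X] [QuasiSeparatedSpace X] [Coh.IsQCoh M] {ι : Type*} [Finite ι]
    (U : ι → X.Opens) (hU : ∀ a, IsAffineOpen (U a)) (s : ∀ a, Γ(M, U a)) :
    ∃ (G : X.Modules) (i : G ⟶ M), Coh.IsQCoh G ∧ CohB1.IsFT G ∧
      (∀ V : X.Opens, Function.Injective (i.app V)) ∧ ∀ a, ∃ g : Γ(G, U a), i.app (U a) g = s a := by
  classical
  have key : ∀ a, ∃ N : SubLib.StalkSub M, SubLib.Good N ⊤ ∧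
      ∀ (z : X) (hz : z ∈ U a), M.presheaf.germ (U a) z hz (s a) ∈ N z := fun a => by
    obtain ⟨N₀, h₀, hs⟩ := SubLib.exists_good_section (hU a) (s a)
    obtain ⟨N, hN, hgood⟩ := SubLib.exists_good_qcqs (hU a).isCompact h₀
    exact ⟨N, hgood, fun z hz => hN z hz ▸ hs z hz⟩
  choose N hN hs using key
  haveI := Fintype.ofFinite ι
  have hsup : ∀ t : Finset ι, ∃ N' : SubLib.StalkSub M, SubLib.Good N' ⊤ ∧ ∀ a ∈ t, ∀ z, N a z ≤ N' z := by
    intro t
    induction t using Finset.induction with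
    | empty => exact ⟨_, good_bot ⊤, by simp⟩
    | insert a t _ ih =>
      obtain ⟨N', h1, h2⟩ := ih
      refine ⟨_, good_sup (hN a) h1, fun b hb z => ?_⟩
      rcases Finset.mem_insert.1 hb with rfl | hb
      · exact le_sup_left
      · exact (h2 b hb z).trans le_sup_right
  obtain ⟨N', hgood, hle⟩ := hsup Finset.univ
  have hG' : ∀ x : X, ∃ W : X.Opens, IsAffineOpen W ∧ x ∈ W ∧ SubLib.GenOn N' W := fun x => by
    obtain ⟨W, hW, hx, -, h⟩ := hgood x trivial
    exact ⟨W, hW, hx, h⟩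
  exact ⟨SubLib.subMod N', SubLib.subι N', SubLib.isQCoh_subMod N' hG', SubLib.isFT_subMod N' hG',
    SubLib.subι_app_injective N', fun a => ⟨(⟨s a, fun z hz => hle a (Finset.mem_univ a) z (hs a z hz)⟩ :
      SubLib.sec N' (U a)), rfl⟩⟩

end sub

variable {X Y : Scheme.{u}} {q : X ⟶ Y} {L : X.Modules}

theorem coe_app_germ {E : Y.Modules} {σ : E ⟶ (Scheme.Modules.pushforward q).obj L} {U : Y.Opens} {z : X}
    (hz : q z ∈ U) (e : Γ(E, U)) (s : Γ((Scheme.Modules.pushforward q).obj L, U)) (h : σ.app U e = s) :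
    germφ σ z hz e = germφ (𝟙 ((Scheme.Modules.pushforward q).obj L)) z hz s := by
  subst h
  rfl

/-- The coordinates of a compatible morphism are the ratios of the sections. -/
theorem appLE_coord_smul {E : Y.Modules} {P : Scheme.{u}} {p : P ⟶ Y} {O1 : P.Modules}
    {φ : E ⟶ (Scheme.Modules.pushforward p).obj O1} (D : PData p E O1 φ)
    {σ : E ⟶ (Scheme.Modules.pushforward q).obj L} {k : X ⟶ P} (hc : Compat φ σ (𝟙 X) k)
    {U : Y.Opens} (hU : IsAffineOpen U) (e e' : Γ(E, U)) {V : X.Opens} (hV : V ≤ k ⁻¹ᵁ D.DPl hU e)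
    (hVU : V ≤ q ⁻¹ᵁ U) :
    (k.appLE (D.DPl hU e) V hV).hom (D.coord hU e e') • L.presheaf.map (homOfLE hVU).op (σ.app U e) =
      L.presheaf.map (homOfLE hVU).op (σ.app U e') := by
  refine TopCat.Presheaf.section_ext (⟨L.presheaf, L.isSheaf⟩ : TopCat.Sheaf Ab X) V _ _ fun z hz => ?_
  have hb := (hc.2 U e z (D.DPl_le hU e (hV hz)) (hVU hz)).1.1 (D.bijective_germφ hU e (hV hz))
  obtain ⟨lam', hlam⟩ := hb.2 (germφ σ z (hVU hz) e')
  have e1 := (hc.2 U e z (D.DPl_le hU e (hV hz)) (hVU hz)).2 e' _ lam' hb (D.germφ_eq hU e e' (hV hz)).symm hlam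
  rw [germ_stalkMap_congr k hV z hz, Scheme.Hom.stalkMap_id] at e1
  show L.presheaf.germ V z hz (_ • _) = L.presheaf.germ V z hz _
  rw [germ_smul' z hz, e1]
  erw [TopCat.Presheaf.germ_res_apply L.presheaf (homOfLE hVU) z hz,
    TopCat.Presheaf.germ_res_apply L.presheaf (homOfLE hVU) z hz]
  exact hlam

/-- A very ample module gives an immersion into the bundle of a submodule of finite type of its direct image. -/
theorem exists_ft_sub [CompactSpace Y] [QuasiSeparatedSpace Y] [QuasiCompact q] [LocallyOfFiniteType q]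
    (hL : PicF.IsInvertible L) (h : RelProj.IsRelVeryAmple q L) :
    ∃ (E : Y.Modules) (ι : E ⟶ (Scheme.Modules.pushforward q).obj L), Coh.IsQCoh E ∧ CohB1.IsFT E ∧
      (∀ U : Y.Opens, Function.Injective (ι.app U)) ∧ Gens ι ∧
      ∀ {P : Scheme.{u}} {p : P ⟶ Y} {O1 : P.Modules} {φ : E ⟶ (Scheme.Modules.pushforward p).obj O1}
        (_ : PData p E O1 φ) (k : X ⟶ P), Compat φ ι (𝟙 X) k → IsImmersion k := by
  classical
  haveI := InvExt.isQCoh_of_isInvertible hL
  haveI := isSeparated_of_isRelVeryAmple h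
  haveI : Coh.IsQCoh ((Scheme.Modules.pushforward q).obj L) := QCohLib.isQCoh_pushforward L q
  haveI : CompactSpace X := QuasiCompact.compactSpace_of_compactSpace q
  obtain ⟨P₀, p₀, O₀, φ₀, D₀, r, hr, hri, -⟩ := isRelVeryAmple_of_locally hL fun x => locally_of_isRelVeryAmple h x
  haveI := hri
  have hrp : r ≫ p₀ = q := hr.1.trans (Category.id_comp q)
  have loc : ∀ x : X, ∃ (U : Y.Opens) (hU : IsAffineOpen U) (e : Γ((Scheme.Modules.pushforward q).obj L, U))
      (S : Finset Γ((Scheme.Modules.pushforward q).obj L, U)) (f : Γ(P₀, D₀.DPl hU e)),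
      x ∈ r ⁻¹ᵁ P₀.basicOpen f ∧ IsAffineOpen (r ⁻¹ᵁ P₀.basicOpen f) ∧ f ∈ Subring.closure (D₀.coord hU e '' S) ∧
      ∃ hVU : r ⁻¹ᵁ P₀.basicOpen f ≤ q ⁻¹ᵁ U,
      ∃ G : Finset Γ(X, r ⁻¹ᵁ P₀.basicOpen f),
        Subring.closure (Set.range (q.appLE U _ hVU).hom ∪ (G : Set _)) = ⊤ ∧
        ∀ g ∈ G, ∃ (m : ℕ) (a : Γ(P₀, D₀.DPl hU e)), a ∈ Subring.closure (D₀.coord hU e '' S) ∧
          g * ((r.appLE (D₀.DPl hU e) _ (r.preimage_mono (P₀.basicOpen_le f))).hom f) ^ m =
            (r.appLE (D₀.DPl hU e) _ (r.preimage_mono (P₀.basicOpen_le f))).hom a := fun x => by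
    obtain ⟨_, ⟨U, hU, rfl⟩, hxU, -⟩ :=
      Y.isBasis_affineOpens.exists_subset_of_mem_open (Set.mem_univ (q x)) isOpen_univ
    have hy : p₀ (r x) ∈ U := (congrArg (fun k : X ⟶ Y => k x) hrp).symm ▸ hxU
    obtain ⟨e, he⟩ := D₀.cover hU hy
    obtain ⟨f, hf, hxf⟩ := (D₀.isAffineOpen_DPl hU e).exists_basicOpen_le
      (V := r.coborderRange) ⟨r x, subset_coborder ⟨x, rfl⟩⟩ he
    let O := P₀.basicOpen f
    have hO : IsAffineOpen O := (D₀.isAffineOpen_DPl hU e).basicOpen f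
    haveI : IsAffine (O : Scheme.{u}) := hO
    haveI : IsImmersion (r ∣_ O) := IsZariskiLocalAtTarget.restrict (P := @IsImmersion) hri O
    haveI : IsClosedImmersion (r ∣_ O) := by
      refine IsClosedImmersion.of_isPreimmersion _ ?_
      have : Set.range (r ∣_ O) = O.ι ⁻¹' closure (Set.range r) := by
        refine Set.ext fun y => ⟨?_, fun hy => ?_⟩
        · rintro ⟨z, rfl⟩
          refine subset_closure ⟨(r ⁻¹ᵁ O).ι z, ?_⟩
          exact (congrArg (fun k : (r ⁻¹ᵁ O : X.Opens).toScheme ⟶ P₀ => k z) (morphismRestrict_ι r O)).symm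
        · have h2 : y.1 ∈ Set.range r := by
            rw [← closure_inter_coborder (s := Set.range r)]
            exact ⟨hy, hf y.2⟩
          obtain ⟨z, hz⟩ := h2
          refine ⟨⟨z, show r z ∈ O from hz ▸ y.2⟩, O.ι.isOpenEmbedding.injective ?_⟩
          refine (congrArg (fun k : (r ⁻¹ᵁ O : X.Opens).toScheme ⟶ P₀ => k ⟨z, show r z ∈ O from hz ▸ y.2⟩)
            (morphismRestrict_ι r O)).trans ?_
          exact hz
      rw [this]
      exact isClosed_closure.preimage O.ι.continuous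
    obtain ⟨hVa, hsurj⟩ := (HasAffineProperty.iff_of_isAffine (P := @IsClosedImmersion)).1 ‹IsClosedImmersion (r ∣_ O)›
    have hV : IsAffineOpen (r ⁻¹ᵁ O) := hVa
    have hsurj' : Function.Surjective (r.app O).hom := by
      rw [morphismRestrict_appTop] at hsurj
      have h2 : Function.Surjective (r.app (O.ι ''ᵁ ⊤)).hom := fun b => by
        obtain ⟨a, ha⟩ := hsurj ((X.presheaf.map (eqToHom (image_morphismRestrict_preimage r O ⊤)).op).hom b)
        exact ⟨a, (ConcreteCategory.bijective_of_isIso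
          (X.presheaf.map (eqToHom (image_morphismRestrict_preimage r O ⊤)).op)).1 ha⟩
      rwa [O.ι_image_top] at h2
    have hVU : r ⁻¹ᵁ O ≤ q ⁻¹ᵁ U := fun z hz => by
      show q z ∈ U
      rw [← congrArg (fun k : X ⟶ Y => k z) hrp]
      exact D₀.DPl_le hU e (P₀.basicOpen_le f hz)
    have hft := q.finiteType_appLE hU hV hVU
    letI := (q.appLE U (r ⁻¹ᵁ O) hVU).hom.toAlgebra
    haveI : Algebra.FiniteType Γ(Y, U) Γ(X, r ⁻¹ᵁ O) := hft
    obtain ⟨G, hG⟩ := Algebra.FiniteType.out (R := Γ(Y, U)) (A := Γ(X, r ⁻¹ᵁ O))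
    have hGt : Subring.closure (Set.range (q.appLE U (r ⁻¹ᵁ O) hVU).hom ∪ (G : Set _)) = ⊤ := by
      rw [eq_top_iff]
      intro z _
      have hz : z ∈ Algebra.adjoin Γ(Y, U) (G : Set Γ(X, r ⁻¹ᵁ O)) := by rw [hG]; trivial
      exact (Algebra.mem_adjoin_iff).1 hz
    letI := (P₀.presheaf.map (homOfLE (P₀.basicOpen_le f)).op).hom.toAlgebra
    haveI : IsLocalization.Away f Γ(P₀, O) := (D₀.isAffineOpen_DPl hU e).isLocalization_basicOpen f
    have hnum : ∀ g : Γ(X, r ⁻¹ᵁ O), ∃ (m : ℕ) (a : Γ(P₀, D₀.DPl hU e)),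
        g * ((r.appLE (D₀.DPl hU e) _ (r.preimage_mono (P₀.basicOpen_le f))).hom f) ^ m =
          (r.appLE (D₀.DPl hU e) _ (r.preimage_mono (P₀.basicOpen_le f))).hom a := fun g => by
      obtain ⟨b, rfl⟩ := hsurj' g
      obtain ⟨m, a, ha⟩ := IsLocalization.Away.surj (S := Γ(P₀, O)) f b
      have hfac : r.appLE (D₀.DPl hU e) (r ⁻¹ᵁ O) (r.preimage_mono (P₀.basicOpen_le f)) =
          P₀.presheaf.map (homOfLE (P₀.basicOpen_le f)).op ≫ r.app O := by
        rw [Scheme.Hom.app_eq_appLE, Scheme.Hom.map_appLE]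
      refine ⟨m, a, ?_⟩
      rw [hfac, CommRingCat.comp_apply, CommRingCat.comp_apply, ← map_pow, ← map_mul]
      exact congrArg (r.app O).hom ha
    choose m a ha using hnum
    have hfin : ∀ c : Γ(P₀, D₀.DPl hU e), ∃ S : Finset Γ((Scheme.Modules.pushforward q).obj L, U),
        c ∈ Subring.closure (D₀.coord hU e '' S) := fun c => by
      obtain ⟨t, ht, hc⟩ := exists_finset_closure
        (show c ∈ Subring.closure (Set.range (D₀.coord hU e)) by rw [D₀.closure_coord hU e]; trivial)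
      choose pre hpre using fun z : t => ht z.2
      refine ⟨Finset.univ.image pre, Subring.closure_mono ?_ hc⟩
      intro z hz
      exact ⟨pre ⟨z, hz⟩, by simp, hpre ⟨z, hz⟩⟩
    choose Sof hSof using hfin
    refine ⟨U, hU, e, insert e (Sof f ∪ G.biUnion fun g => Sof (a g)), f, hxf, hV, ?_, hVU, G, hGt, fun g hg => ?_⟩
    · refine Subring.closure_mono (Set.image_mono ?_) (hSof f)
      intro z hz; simp [Finset.mem_coe.1 hz]
    · refine ⟨m g, a g, Subring.closure_mono (Set.image_mono ?_) (hSof (a g)), ha g⟩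
      intro z hz
      simp only [Finset.coe_insert, Finset.coe_union, Finset.coe_biUnion, Set.mem_insert_iff, Set.mem_union,
        Set.mem_iUnion]
      exact Or.inr (Or.inr ⟨g, hg, hz⟩)
  choose U hU e S f hx hV hfS hVU G hG ha using loc
  obtain ⟨t, ht⟩ := isCompact_univ.elim_finite_subcover (fun x : X => ((r ⁻¹ᵁ P₀.basicOpen (f x) : X.Opens) : Set X))
    (fun x => (r ⁻¹ᵁ P₀.basicOpen (f x)).2) fun x _ => Set.mem_iUnion.2 ⟨x, hx x⟩
  obtain ⟨E, ι, hE, hft, hinj, hpre⟩ := exists_ft_through (M := (Scheme.Modules.pushforward q).obj L)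
    (ι := Σ x : t, Option (S x.1)) (fun a => U a.1.1) (fun a => hU a.1.1)
    (fun a => a.2.elim (e a.1.1) fun s => s.1)
  choose e' he' using fun x : t => hpre ⟨x, none⟩
  choose s' hs' using fun (x : t) (s : S x.1) => hpre ⟨x, some s⟩
  have hmem : ∀ z : X, ∃ x : t, z ∈ r ⁻¹ᵁ P₀.basicOpen (f x.1) := fun z => by
    obtain ⟨x, hxt, hz⟩ := Set.mem_iUnion₂.1 (ht (Set.mem_univ z))
    exact ⟨⟨x, hxt⟩, hz⟩
  have hgen : ∀ (x : t) (z : X) (hz : z ∈ r ⁻¹ᵁ D₀.DPl (hU x.1) (e x.1)),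
      ∃ hzU : q z ∈ U x.1, Function.Bijective fun c : X.presheaf.stalk z => c • germφ ι z hzU (e' x) := fun x z hz => by
    have hzU : q z ∈ U x.1 := by
      rw [← congrArg (fun k : X ⟶ Y => k z) hrp]
      exact D₀.DPl_le (hU x.1) (e x.1) hz
    refine ⟨hzU, ?_⟩
    rw [coe_app_germ hzU (e' x) (e x.1) (he' x)]
    exact (hr.2 (U x.1) (e x.1) z (D₀.DPl_le _ _ hz) hzU).1.1 (D₀.bijective_germφ (hU x.1) (e x.1) hz)
  refine ⟨E, ι, hE, hft, hinj, fun z => ?_, fun {P p O1 φ} D k hk => ?_⟩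
  · obtain ⟨x, hz⟩ := hmem z
    obtain ⟨hzU, hb⟩ := hgen x z (P₀.basicOpen_le _ hz)
    exact ⟨U x.1, hzU, e' x, hb⟩
  have hkp : k ≫ p = q := hk.1.trans (Category.id_comp q)
  have hkU : ∀ z, p (k z) = q z := fun z => congrArg (fun g : X ⟶ Y => g z) hkp
  have hpreX : ∀ x : t, k ⁻¹ᵁ D.DPl (hU x.1) (e' x) = r ⁻¹ᵁ D₀.DPl (hU x.1) (e x.1) := fun x => by
    ext z
    refine ⟨fun hz => ?_, fun hz => ?_⟩
    · have hzU : q z ∈ U x.1 := (hkU z) ▸ D.DPl_le (hU x.1) (e' x) hz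
      have hy : p₀ (r z) ∈ U x.1 := (congrArg (fun g : X ⟶ Y => g z) hrp).symm ▸ hzU
      have hb : Function.Bijective fun c : X.presheaf.stalk z => c • germφ ι z hzU (e' x) :=
        (hk.2 (U x.1) (e' x) z (D.DPl_le _ _ hz) hzU).1.1 (D.bijective_germφ (hU x.1) (e' x) hz)
      rw [coe_app_germ hzU (e' x) (e x.1) (he' x)] at hb
      exact (D₀.mem_DPl_iff (hU x.1) (e x.1) hy).2 ((hr.2 (U x.1) (e x.1) z hy hzU).1.2 hb)
    · obtain ⟨hzU, hb⟩ := hgen x z hz
      have hy : p (k z) ∈ U x.1 := (hkU z).symm ▸ hzU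
      exact (D.mem_DPl_iff (hU x.1) (e' x) hy).2 ((hk.2 (U x.1) (e' x) z hy hzU).1.2 hb)
  have key : ∀ x : t, ∀ c ∈ Subring.closure (D₀.coord (hU x.1) (e x.1) '' S x.1),
      ∃ c' : Γ(P, D.DPl (hU x.1) (e' x)), (k.appLE (D.DPl (hU x.1) (e' x)) (r ⁻¹ᵁ D₀.DPl (hU x.1) (e x.1))
        (hpreX x).ge).hom c' = (r.app (D₀.DPl (hU x.1) (e x.1))).hom c := by
    intro x c hc
    let Xe := r ⁻¹ᵁ D₀.DPl (hU x.1) (e x.1)
    have hXU : Xe ≤ q ⁻¹ᵁ U x.1 := fun z hz => (hgen x z hz).1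
    suffices Subring.closure (D₀.coord (hU x.1) (e x.1) '' S x.1) ≤
        ((k.appLE (D.DPl (hU x.1) (e' x)) Xe (hpreX x).ge).hom.range).comap (r.app (D₀.DPl (hU x.1) (e x.1))).hom from
      this hc
    refine Subring.closure_le.2 ?_
    rintro _ ⟨s, hs, rfl⟩
    refine ⟨D.coord (hU x.1) (e' x) (s' x ⟨s, hs⟩), ?_⟩
    have hgenX : Gen Xe (L.presheaf.map (homOfLE hXU).op (ι.app (U x.1) (e' x))) := AmpleLib.gen_of_germ fun z hz => by
      erw [TopCat.Presheaf.germ_res_apply L.presheaf (homOfLE hXU) z hz]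
      exact (hgen x z hz).2
    refine (show Function.Injective fun a : Γ(X, Xe) => a • L.presheaf.map (homOfLE hXU).op (ι.app (U x.1) (e' x)) from ?_) ?_
    · intro a b hab
      have h2 := (hgenX Xe le_rfl).1
      simp only [ParaFLib.res_self] at h2
      exact h2 hab
    · show _ • _ = _ • _
      rw [appLE_coord_smul D hk (hU x.1) (e' x) (s' x ⟨s, hs⟩) (hpreX x).ge hXU, Scheme.Hom.app_eq_appLE,
        he' x, hs' x ⟨s, hs⟩]
      exact (appLE_coord_smul D₀ hr (hU x.1) (e x.1) s le_rfl hXU).symm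
  choose f' hf' using fun x : t => key x (f x.1) (hfS x.1)
  have hV' : ∀ x : t, k ⁻¹ᵁ P.basicOpen (f' x) = r ⁻¹ᵁ P₀.basicOpen (f x.1) := fun x => by
    rw [Scheme.Hom.preimage_basicOpen, Scheme.Hom.preimage_basicOpen, ← hf' x, Scheme.Hom.appLE,
      CommRingCat.comp_apply, Scheme.basicOpen_res, inf_eq_right.2]
    exact (X.basicOpen_le _).trans (hpreX x).le
  refine isImmersion_of_cover k (fun x : t => P.basicOpen (f' x)) (fun z => ?_) fun x => ?_
  · obtain ⟨x, hz⟩ := hmem z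
    exact ⟨x, (hV' x).ge hz⟩
  let O := P.basicOpen (f' x)
  have hO : IsAffineOpen O := (D.isAffineOpen_DPl (hU x.1) (e' x)).basicOpen (f' x)
  haveI : IsAffine (O : Scheme.{u}) := hO
  haveI : IsAffine ((k ⁻¹ᵁ O : X.Opens) : Scheme.{u}) := by rw [hV' x]; exact hV x.1
  let V := r ⁻¹ᵁ P₀.basicOpen (f x.1)
  let R := (k.appLE O V (hV' x).ge).hom.range
  have hR : R = ⊤ := by
    rw [eq_top_iff, ← hG x.1]
    refine Subring.closure_le.2 ?_
    have hVX : V ≤ r ⁻¹ᵁ D₀.DPl (hU x.1) (e x.1) := r.preimage_mono (P₀.basicOpen_le _)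
    have hres : ∀ c, c ∈ Subring.closure (D₀.coord (hU x.1) (e x.1) '' S x.1) →
        (r.appLE (D₀.DPl (hU x.1) (e x.1)) V hVX).hom c ∈ R := by
      intro c hc
      obtain ⟨c', hc'⟩ := key x c hc
      refine ⟨(P.presheaf.map (homOfLE (P.basicOpen_le (f' x))).op).hom c', ?_⟩
      rw [← CommRingCat.comp_apply, Scheme.Hom.map_appLE]
      have e1 := congrArg (X.presheaf.map (homOfLE hVX).op).hom hc'
      rw [← CommRingCat.comp_apply, ← CommRingCat.comp_apply, Scheme.Hom.appLE_map, Scheme.Hom.app_eq_appLE,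
        Scheme.Hom.appLE_map] at e1
      exact e1
    rintro z (⟨c, rfl⟩ | hz)
    · have hOU : O ≤ p ⁻¹ᵁ U x.1 := (P.basicOpen_le _).trans (D.DPl_le _ _)
      refine ⟨(p.appLE (U x.1) O hOU).hom c, ?_⟩
      rw [← CommRingCat.comp_apply, Scheme.Hom.appLE_comp_appLE]
      simp only [hkp]
      rfl
    · obtain ⟨m, a, haS, hga⟩ := ha x.1 z hz
      let φf := (k.appLE (D.DPl (hU x.1) (e' x)) V ((hV' x).ge.trans (k.preimage_mono (P.basicOpen_le _)))).hom
      have hu : IsUnit ((P.presheaf.map (homOfLE (P.basicOpen_le (f' x))).op).hom (f' x)) :=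
        RingedSpace.isUnit_res_basicOpen P.toRingedSpace (f' x)
      obtain ⟨w, hw⟩ := hu
      have hwf : (k.appLE O V (hV' x).ge).hom w.1 = (r.appLE (D₀.DPl (hU x.1) (e x.1)) V hVX).hom (f x.1) := by
        rw [hw, ← CommRingCat.comp_apply, Scheme.Hom.map_appLE]
        have e1 := congrArg (X.presheaf.map (homOfLE hVX).op).hom (hf' x)
        rw [← CommRingCat.comp_apply, ← CommRingCat.comp_apply, Scheme.Hom.appLE_map, Scheme.Hom.app_eq_appLE,
          Scheme.Hom.appLE_map] at e1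
        exact e1
      have hz' : z = (r.appLE (D₀.DPl (hU x.1) (e x.1)) V hVX).hom a * (k.appLE O V (hV' x).ge).hom (w⁻¹).1 ^ m := by
        rw [← hga, ← hwf, mul_assoc, ← mul_pow, ← map_mul, Units.mul_inv, map_one, one_pow, mul_one]
      rw [hz']
      exact Subring.mul_mem _ (hres a haS) (Subring.pow_mem R (show (k.appLE O V (hV' x).ge).hom (w⁻¹).1 ∈ R from ⟨_, rfl⟩) m)
  haveI : IsClosedImmersion (k ∣_ O) := IsClosedImmersion.of_surjective_of_isAffine _ (by
    rw [morphismRestrict_appTop]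
    show Function.Surjective ((X.presheaf.map (eqToHom (image_morphismRestrict_preimage k O ⊤)).op).hom ∘
      (k.app (O.ι ''ᵁ ⊤)).hom)
    refine Function.Surjective.comp (ConcreteCategory.bijective_of_isIso
      (X.presheaf.map (eqToHom (image_morphismRestrict_preimage k O ⊤)).op)).2 ?_
    rw [O.ι_image_top]
    intro b
    obtain ⟨a, ha⟩ : (X.presheaf.map (homOfLE (hV' x).ge).op).hom b ∈ R := by rw [hR]; trivial
    refine ⟨a, ?_⟩
    have e1 := congrArg (X.presheaf.map (homOfLE (hV' x).le).op).hom ha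
    rw [← CommRingCat.comp_apply, Scheme.Hom.appLE_map, ← Scheme.Hom.app_eq_appLE, ← CommRingCat.comp_apply,
      ← Functor.map_comp, show (homOfLE (hV' x).ge).op ≫ (homOfLE (hV' x).le).op = 𝟙 _ from Subsingleton.elim _ _,
      X.presheaf.map_id] at e1
    exact e1)
  infer_instance

end Groth.Agent.ProjBundleLib
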