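import Groth.Agent.ProjBundleLib.Tensor
import Groth.Agent.QCohLib.Exact
import Groth.Agent.AmpleEmb.Immersion

/-! An epimorphism of quasi-coherent modules gives a closed immersion of projective bundles. -/

set_option autoImplicit false
set_option linter.style.haveILetI false
set_option backward.isDefEq.respectTransparency false

universe u

open CategoryTheory CategoryTheory.Limits AlgebraicGeometry TopologicalSpace Opposite
open Groth.Agent.ParaFLib Groth.Agent.RelSpecLib Groth.Agent.PullbackMod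

noncomputable section

namespace Groth.Agent.ProjBundleLib

variable {Y P P' : Scheme.{u}} {p : P ⟶ Y} {p' : P' ⟶ Y} {E E' : Y.Modules} {O1 : P.Modules} {O1' : P'.Modules}
  {φ : E ⟶ (Scheme.Modules.pushforward p).obj O1} {φ' : E' ⟶ (Scheme.Modules.pushforward p').obj O1'}

/-- An epimorphism of quasi-coherent modules is surjective over affine opens. -/
theorem surjective_app_of_epi (hE : Coh.IsQCoh E) (hE' : Coh.IsQCoh E') (π : E ⟶ E') [Epi π] {U : Y.Opens}
    (hU : IsAffineOpen U) : Function.Surjective (π.app U) := by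
  have hS : (ShortComplex.mk (kernel.ι π) π (kernel.condition π)).ShortExact :=
    { exact := ShortComplex.exact_kernel π }
  exact QCohLib.app_surjective hS (QCohLib.isQCoh_X₁ hS hE hE') hU

/-- An epimorphism gives a closed immersion of bundles, carrying `O(1)` to `O(1)`. -/
theorem exists_closed_of_epi (D : PData p E O1 φ) (D' : PData p' E' O1' φ') (π : E ⟶ E') [Epi π] :
    ∃ k : P' ⟶ P, IsClosedImmersion k ∧ k ≫ p = p' ∧ Compat φ (π ≫ φ') (𝟙 P') k ∧
      Nonempty ((Scheme.Modules.pullback k).obj O1 ≅ O1') := by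
  have hs : ∀ {U : Y.Opens}, IsAffineOpen U → Function.Surjective (π.app U) :=
    fun hU => surjective_app_of_epi D.hE D'.hE π hU
  have hG : Gens (π ≫ φ') := fun y => by
    obtain ⟨U, hU, e', hy, he'⟩ := D'.exists_chart_gen y
    obtain ⟨e, rfl⟩ := hs hU e'
    exact ⟨U, hy, e, D'.bijective_germφ hU _ he'⟩
  obtain ⟨k, hk, -⟩ := D.existsUnique_compat_of_gens D'.isInvertible_O1 hG
  obtain ⟨hkp, τ, -⟩ := D.exists_iso_of_compat
    (((Scheme.Modules.pullbackPushforwardAdjunction p').homEquiv _ _).symm (π ≫ φ')) (r := k)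
    (by simpa only [sigma, Equiv.apply_symm_apply] using hk)
  refine ⟨k, ?_, hkp, hk, ⟨τ⟩⟩
  have hpk : ∀ y, p (k y) = p' y := fun y => congrArg (fun t => t y) hkp
  have hpre : ∀ {U : Y.Opens} (hU : IsAffineOpen U) (e : Γ(E, U)),
      k ⁻¹ᵁ D.DPl hU e = D'.DPl hU (π.app U e) := fun {U} hU e => by
    refine Opens.ext (Set.ext fun y => ?_)
    show k y ∈ D.DPl hU e ↔ y ∈ D'.DPl hU (π.app U e)
    constructor
    · intro hy
      have hyU : p' y ∈ U := hpk y ▸ D.DPl_le hU e hy
      exact (D'.mem_DPl_iff hU _ hyU).2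
        ((hk.2 U e y (D.DPl_le hU e hy) hyU).1.1 (D.bijective_germφ hU e hy))
    · intro hy
      have hyU : p' y ∈ U := D'.DPl_le hU _ hy
      have hyU' : p (k y) ∈ U := (hpk y).symm ▸ hyU
      exact (D.mem_DPl_iff hU e hyU').2 ((hk.2 U e y hyU' hyU).1.2 (D'.bijective_germφ hU _ hy))
  let ι := Σ U : Y.affineOpens, Γ(E, U.1)
  refine (IsZariskiLocalAtTarget.iff_of_iSup_eq_top (P := @IsClosedImmersion) (fun i : ι => D.DPl i.1.2 i.2) ?_).2
    fun i => ?_
  · refine eq_top_iff.2 fun z _ => ?_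
    obtain ⟨U, hU, e, -, he⟩ := D.exists_chart_gen z
    exact Opens.mem_iSup.2 ⟨⟨⟨U, hU⟩, e⟩, he⟩
  · obtain ⟨⟨U, hU⟩, e⟩ := i
    let te := π.app U e
    refine AmpleEmb.isClosedImmersion_morphismRestrict_of_surjective k (hpre hU e) (D.isAffineOpen_DPl hU e)
      (D'.isAffineOpen_DPl hU te) ?_
    let r := (k.appLE (D.DPl hU e) (D'.DPl hU te) (hpre hU e).ge).hom
    suffices ∀ c, c ∈ r.range from fun c => this c
    intro c
    refine (Subring.closure_le (t := r.range)).2 ?_ ((D'.closure_coord hU te).ge (Subring.mem_top c))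
    rintro _ ⟨e', rfl⟩
    obtain ⟨f, rfl⟩ := hs hU e'
    refine ⟨D.coord hU e f, ?_⟩
    refine TopCat.Presheaf.section_ext P'.sheaf _ _ _ fun y hy => ?_
    have hky : k y ∈ D.DPl hU e := (hpre hU e).ge hy
    have h2 := (hk.2 U e y (D.DPl_le hU e hky) (D'.DPl_le hU te hy)).2 f _ _ (D'.bijective_germφ hU te hy)
      (D.germφ_eq hU e f hky).symm (D'.germφ_eq hU te (π.app U f) hy).symm
    rw [germ_stalkMap_congr k (hpre hU e).ge y hy, Scheme.Hom.stalkMap_id] at h2
    exact h2

end Groth.Agent.ProjBundleLib
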