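import Groth.Agent.ProjBundleLib.CompVA
import Groth.Agent.AmpleLib.FinProd
import Groth.Agent.AmpleLib.ExtendMod

/-! Quotients of inverse images of modules of finite type. -/

set_option autoImplicit false
set_option linter.style.haveILetI false
set_option backward.isDefEq.respectTransparency false

universe u

open CategoryTheory CategoryTheory.Limits AlgebraicGeometry TopologicalSpace Opposite
open Groth.Agent.ParaFLib Groth.Agent.RelSpecLib Groth.Agent.PullbackMod Groth.Agent.DCohLib Groth.Agent.AmpleLib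

noncomputable section

namespace Groth.Agent.ProjBundleLib

variable {X Y Z : Scheme.{u}}

/-- Global sections of a globally generated module span the stalks. -/
theorem span_germ_of_isGloballyGenerated {M : X.Modules} (h : Curv2.IsGloballyGenerated M) (x : X) :
    Submodule.span (X.presheaf.stalk x) (Set.range fun σ : Γ(M, ⊤) => M.presheaf.germ ⊤ x (Opens.mem_top x) σ) = ⊤ := by
  obtain ⟨ι, p, hp⟩ := h
  set S := Submodule.span (X.presheaf.stalk x) (Set.range fun σ : Γ(M, ⊤) => M.presheaf.germ ⊤ x (Opens.mem_top x) σ)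
  let ψ : M ⟶ sky x (M.presheaf.stalk x ⧸ S) := toSky S.mkQ
  haveI := hp
  have hψ : ψ = 0 := by
    refine (@cancel_epi X.Modules _ _ _ _ p hp ψ 0).1 ?_
    refine Eq.trans ?_ (comp_zero (C := X.Modules) (f := p)).symm
    refine Cofan.IsColimit.hom_ext (SheafOfModules.isColimitFreeCofan ι) _ _ fun i => ?_
    let t : Coh.structureModule X ⟶ M := SheafOfModules.ιFree i ≫ p
    refine Eq.trans ?_ (comp_zero (C := X.Modules) (f := SheafOfModules.ιFree i)).symm
    refine (Category.assoc (obj := X.Modules) (SheafOfModules.ιFree i) p ψ).symm.trans ?_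
    show t ≫ ψ = 0
    refine DCohLib.hom_unit_ext ?_
    refine funext fun hx => ?_
    show S.mkQ (M.presheaf.germ ⊤ x hx.down (sec t)) = 0
    rw [Submodule.mkQ_apply, Submodule.Quotient.mk_eq_zero]
    exact Submodule.subset_span ⟨sec t, rfl⟩
  refine eq_top_iff.2 fun z _ => ?_
  obtain ⟨U, hxU, m, rfl⟩ := TopCat.Presheaf.exists_germ_eq M.presheaf z
  rw [← Submodule.Quotient.mk_eq_zero, ← Submodule.mkQ_apply, ← toSky_app S.mkQ U m ⟨hxU⟩]
  have h0 : (toSky S.mkQ).app U m = 0 := by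
    show ψ.app U m = 0
    rw [hψ]
    rfl
  exact congrFun h0 ⟨hxU⟩

/-- A germ in the span of germs is a combination near the point. -/
theorem exists_comb {M : X.Modules} {U : X.Opens} {x : X} (hx : x ∈ U) {ι : Type*} (s : ι → Γ(M, U))
    {z : M.presheaf.stalk x}
    (hz : z ∈ Submodule.span (X.presheaf.stalk x) (Set.range fun i => M.presheaf.germ U x hx (s i))) :
    ∃ (O : X.Opens) (hOU : O ≤ U) (hxO : x ∈ O) (T : Finset ι) (c : ι → Γ(X, O)),
      M.presheaf.germ O x hxO (∑ i ∈ T, c i • M.presheaf.map (homOfLE hOU).op (s i)) = z := by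
  classical
  obtain ⟨l, rfl⟩ := Finsupp.mem_span_range_iff_exists_finsupp.1 hz
  have hrep : ∀ i, ∃ (O : X.Opens) (hxO : x ∈ O) (c : Γ(X, O)), X.presheaf.germ O x hxO c = l i := fun i =>
    TopCat.Presheaf.exists_germ_eq X.presheaf (l i)
  choose O hxO c hc using hrep
  let W : X.Opens := U ⊓ l.support.inf O
  have hxW : x ∈ W := ⟨hx, by
    show x ∈ ((l.support.inf O : X.Opens) : Set X)
    rw [Opens.coe_finset_inf]
    exact Finset.inf_induction (f := fun i => (O i : Set X)) (p := fun A => x ∈ A) trivial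
      (fun a ha b hb => ⟨ha, hb⟩) fun i _ => hxO i⟩
  refine ⟨W, inf_le_left, hxW, l.support,
    fun i => if h : i ∈ l.support then X.presheaf.map (homOfLE (inf_le_right.trans (Finset.inf_le h) : W ≤ O i)).op (c i) else 0, ?_⟩
  rw [map_sum]
  refine Finset.sum_congr rfl fun i hi => ?_
  dsimp only
  rw [dif_pos hi, germ_smul' x hxW, TopCat.Presheaf.germ_res_apply, TopCat.Presheaf.germ_res_apply, hc]

/-- Where the restriction is globally generated, the sections over the open span the stalks. -/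
theorem span_germ_of_restrict {M : X.Modules} {U : X.Opens} (h : Curv2.IsGloballyGenerated (M.restrict U.ι))
    {x : X} (hx : x ∈ U) :
    Submodule.span (X.presheaf.stalk x) (Set.range fun σ : Γ(M, U) => M.presheaf.germ U x hx σ) = ⊤ := by
  classical
  refine eq_top_iff.2 fun z _ => ?_
  obtain ⟨O, hxO, m, rfl⟩ := TopCat.Presheaf.exists_germ_eq M.presheaf z
  let j := U.ι
  let y : (U : Scheme.{u}) := ⟨x, hx⟩
  let B := j ⁻¹ᵁ O
  have hBO : j ''ᵁ B ≤ O := by rintro _ ⟨w, hw, rfl⟩; exact hw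
  have hB : y ∈ B := hxO
  let mB : Γ(M.restrict j, B) := M.presheaf.map (homOfLE hBO).op m
  obtain ⟨A, _, hyA, T, c, hc⟩ := exists_comb (M := M.restrict j) (U := ⊤) (x := y) trivial
    (fun σ : Γ(M.restrict j, ⊤) => σ) (z := (M.restrict j).presheaf.germ B y hB mB)
    (by rw [span_germ_of_isGloballyGenerated h y]; trivial)
  obtain ⟨C, hyC, hCA, hCB, he⟩ := TopCat.Presheaf.germ_eq (M.restrict j).presheaf y hyA hB _ _ hc
  have he' : (M.restrict j).presheaf.map hCB.op mB =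
      ∑ i ∈ T, (U : Scheme.{u}).presheaf.map hCA.op (c i) • (M.restrict j).presheaf.map
        (homOfLE (le_top : C ≤ ⊤)).op i := by
    rw [← he, map_sum]
    refine Finset.sum_congr rfl fun i _ => ?_
    rw [(M.restrict j).map_smul]
    exact congrArg _ (ParaFLib.res_res _ _ _)
  have hxC : x ∈ j ''ᵁ C := ⟨y, hyC, rfl⟩
  have e1 := congrArg (fun t : Γ(M.restrict j, C) => M.presheaf.germ (j ''ᵁ C) x hxC t) he'
  have e2 : M.presheaf.germ O x hxO m = M.presheaf.germ (j ''ᵁ C) x hxC ((M.restrict j).presheaf.map hCB.op mB) :=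
    ((TopCat.Presheaf.germ_res_apply M.presheaf (homOfLE (j.image_mono hCB.le)) x hxC mB).trans
      (TopCat.Presheaf.germ_res_apply M.presheaf (homOfLE hBO) x _ m)).symm
  rw [e2]
  refine (congrArg (· ∈ _) e1).mpr ?_
  show M.presheaf.germ (j ''ᵁ C) x hxC (∑ i ∈ T, (show Γ(M, j ''ᵁ C) from _)) ∈ _
  rw [map_sum]
  refine Submodule.sum_mem _ fun i _ => ?_
  show M.presheaf.germ (j ''ᵁ C) x hxC ((j.appIso C).inv ((U : Scheme.{u}).presheaf.map hCA.op (c i)) •
    M.presheaf.map (homOfLE (j.image_mono le_top : j ''ᵁ C ≤ j ''ᵁ ⊤)).op (show Γ(M, j ''ᵁ ⊤) from i)) ∈ _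
  rw [germ_smul' x hxC, TopCat.Presheaf.germ_res_apply]
  refine Submodule.smul_mem _ _ (Submodule.subset_span ⟨M.presheaf.map (homOfLE U.ι_image_top.ge).op i, ?_⟩)
  exact TopCat.Presheaf.germ_res_apply M.presheaf _ x hx _

/-- A module of finite type generated by sections over preimages of opens is a quotient of the inverse image of
a module of finite type. -/
theorem exists_ft_quotient [CompactSpace Z] [QuasiSeparatedSpace Z] (g : Y ⟶ Z) [QuasiCompact g] [QuasiSeparated g]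
    (M : Y.Modules) [Coh.IsQCoh M] (hM : CohB1.IsFT M)
    (hspan : ∀ y : Y, ∃ (V : Z.Opens) (_ : IsAffineOpen V) (hy : g y ∈ V), ∀ y' (hy' : g y' ∈ V),
      Submodule.span (Y.presheaf.stalk y') (Set.range fun σ : Γ(M, g ⁻¹ᵁ V) => M.presheaf.germ (g ⁻¹ᵁ V) y' hy' σ) = ⊤) :
    ∃ (F : Z.Modules) (φ : (Scheme.Modules.pullback g).obj F ⟶ M), Coh.IsQCoh F ∧ CohB1.IsFT F ∧ Epi φ := by
  classical
  haveI : CompactSpace Y := QuasiCompact.compactSpace_of_compactSpace g
  choose V hV hyV hsp using hspan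
  have loc : ∀ y : Y, ∃ (S : Finset Γ(M, g ⁻¹ᵁ V y)) (O : Y.Opens) (hOV : O ≤ g ⁻¹ᵁ V y), y ∈ O ∧ ∀ y' (hy' : y' ∈ O),
      Submodule.span (Y.presheaf.stalk y')
        ((fun σ : Γ(M, g ⁻¹ᵁ V y) => M.presheaf.germ (g ⁻¹ᵁ V y) y' (hOV hy') σ) '' (S : Set _)) = ⊤ := fun y => by
    obtain ⟨_, ⟨W, hW, rfl⟩, hyW, hWV⟩ :=
      Y.isBasis_affineOpens.exists_subset_of_mem_open (show y ∈ g ⁻¹ᵁ V y from hyV y) (g ⁻¹ᵁ V y).2
    obtain ⟨G, hG⟩ := (QCohLib.finite_sections M hM hW).fg_top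
    have hcomb := fun t : G => exists_comb (M := M) (show y ∈ g ⁻¹ᵁ V y from hyV y) (fun σ => σ)
      (z := M.presheaf.germ W y hyW t.1) (by rw [hsp y y (hyV y)]; trivial)
    choose O hOU hyO T c hc using hcomb
    have heq := fun t : G => TopCat.Presheaf.germ_eq M.presheaf y (hyO t) hyW _ _ (hc t)
    choose C hyC hCO hCW he using heq
    let O' : Y.Opens := W ⊓ Finset.univ.inf C
    have hyO' : y ∈ O' := ⟨hyW, by
      show y ∈ ((Finset.univ.inf C : Y.Opens) : Set Y)
      rw [Opens.coe_finset_inf]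
      exact Finset.inf_induction (f := fun t => (C t : Set Y)) (p := fun A => y ∈ A) trivial
        (fun a ha b hb => ⟨ha, hb⟩) fun t _ => hyC t⟩
    refine ⟨Finset.univ.biUnion T, O', inf_le_left.trans hWV, hyO', fun y' hy' => eq_top_iff.2 ?_⟩
    rw [← AmpleEmb.span_germ_eq_top M hW (show y' ∈ W from hy'.1) hG, Submodule.span_le]
    rintro _ ⟨t, ht, rfl⟩
    have hy't : y' ∈ C ⟨t, ht⟩ := (inf_le_right.trans (Finset.inf_le (Finset.mem_univ _)) : O' ≤ C ⟨t, ht⟩) hy'
    have e1 := congrArg (M.presheaf.germ (C ⟨t, ht⟩) y' hy't) (he ⟨t, ht⟩)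
    rw [TopCat.Presheaf.germ_res_apply, TopCat.Presheaf.germ_res_apply, map_sum] at e1
    show M.presheaf.germ W y' _ t ∈ _
    rw [← e1]
    refine Submodule.sum_mem _ fun σ hσ => ?_
    rw [germ_smul' y', TopCat.Presheaf.germ_res_apply]
    exact Submodule.smul_mem _ _ (Submodule.subset_span ⟨σ, Finset.mem_biUnion.2 ⟨_, Finset.mem_univ _, hσ⟩, rfl⟩)
  choose S O hOV hyO hspO using loc
  obtain ⟨t, ht⟩ := isCompact_univ.elim_finite_subcover (fun y : Y => (O y : Set Y)) (fun y => (O y).2)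
    fun y _ => Set.mem_iUnion.2 ⟨y, hyO y⟩
  haveI : Coh.IsQCoh ((Scheme.Modules.pushforward g).obj M) := QCohLib.isQCoh_pushforward M g
  obtain ⟨F, i, hF, hFft, -, hpre⟩ := exists_ft_through (M := (Scheme.Modules.pushforward g).obj M)
    (ι := Σ y : t, S y.1) (fun a => V a.1.1) (fun a => hV a.1.1) fun a => a.2.1
  refine ⟨F, ((Scheme.Modules.pullbackPushforwardAdjunction g).homEquiv F M).symm i, hF, hFft,
    (PullbackMod.epi_iff_stalk _).2 fun y => ?_⟩
  rw [← LinearMap.range_eq_top, eq_top_iff]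
  obtain ⟨x, hxt, hyx⟩ := Set.mem_iUnion₂.1 (ht (Set.mem_univ y))
  rw [← hspO x y hyx, Submodule.span_le]
  rintro _ ⟨σ, hσ, rfl⟩
  obtain ⟨e, he⟩ := hpre ⟨⟨x, hxt⟩, ⟨σ, hσ⟩⟩
  refine ⟨pullStalk g F y (F.presheaf.germ (V x) (g y) (hOV x hyx) e), ?_⟩
  rw [stalkLin_adjunct g i y (hOV x hyx) e]
  exact congrArg (M.presheaf.germ (g ⁻¹ᵁ V x) y (hOV x hyx)) he

theorem isCoh_restrict_open {E : Y.Modules} (hE : Coh.IsQCoh E) (hEft : CohB1.IsFT E) (U : Y.Opens) :
    Coh.IsCoh (E.restrict U.ι) := by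
  haveI := hE
  refine QCohLib.isCoh_of_finite (E.restrict U.ι) fun W hW => ?_
  obtain ⟨S, hS⟩ := (QCohLib.finite_sections E hEft (hW.image_of_isOpenImmersion U.ι)).fg_top
  refine ⟨⟨S, eq_top_iff.2 fun v _ => ?_⟩⟩
  have hv : (show Γ(E, U.ι ''ᵁ W) from v) ∈ Submodule.span Γ(Y, U.ι ''ᵁ W) (S : Set Γ(E, U.ι ''ᵁ W)) :=
    hS.ge Submodule.mem_top
  suffices ∀ w : Γ(E, U.ι ''ᵁ W), w ∈ Submodule.span Γ(Y, U.ι ''ᵁ W) (S : Set Γ(E, U.ι ''ᵁ W)) →
      (show Γ(E.restrict U.ι, W) from w) ∈ Submodule.span Γ((U : Scheme.{u}), W) (show Set Γ(E.restrict U.ι, W) from (S : Set Γ(E, U.ι ''ᵁ W))) from this _ hv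
  intro w hw
  induction hw using Submodule.span_induction with
  | mem x h => exact Submodule.subset_span h
  | zero => exact Submodule.zero_mem _
  | add a b _ _ ha hb => exact Submodule.add_mem _ ha hb
  | smul c a _ ha =>
    have h1 : c = (U.ι.appIso W).inv ((U.ι.appIso W).hom c) :=
      (ConcreteCategory.congr_hom (U.ι.appIso W).hom_inv_id c).symm
    rw [h1]
    exact Submodule.smul_mem _ ((U.ι.appIso W).hom c) ha

/-- Twists by high powers of a very ample module are quotients of inverse images of modules of finite type. -/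
theorem eventually_ft_quotient [CompactSpace Z] [QuasiSeparatedSpace Z] {g : Y ⟶ Z} [QuasiCompact g] {K : Y.Modules}
    (hK : PicF.IsInvertible K) (hKva : RelProj.IsRelVeryAmple g K) {E : Y.Modules} (hE : Coh.IsQCoh E)
    (hEft : CohB1.IsFT E) :
    ∃ N, ∀ m, N ≤ m → ∃ (F : Z.Modules) (φ : (Scheme.Modules.pullback g).obj F ⟶ CohB1.tensorMod E (CohB1.tensorPow K m)),
      Coh.IsQCoh F ∧ CohB1.IsFT F ∧ Epi φ := by
  haveI := isSeparated_of_isRelVeryAmple hKva
  have hA := isRelAmple_of_isRelVeryAmple hKva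
  obtain ⟨t, N, hcov, hN⟩ := exists_affine_cover_bound
    (fun V n => Curv2.IsGloballyGenerated ((CohB1.tensorMod E (CohB1.tensorPow K n)).restrict (g ⁻¹ᵁ (V.1 : Z.Opens)).ι))
    fun V => by
      let j := (g ⁻¹ᵁ (V.1 : Z.Opens)).ι
      haveI := hE
      have hcoh : Coh.IsCoh (E.restrict j) :=
        isCoh_restrict_open hE hEft _
      obtain ⟨M, hM⟩ := AmpleEmb.eventually_isGloballyGenerated (hA.2 V) hcoh
      exact ⟨M, fun n hn => AmpleLib.isGloballyGenerated_of_iso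
        (AmpleLib.restrictTensor j _ _ ≪≫ AmpleLib.tIso (Iso.refl _) (AmpleLib.restrictPow j K n)).symm (hM n hn)⟩
  refine ⟨N, fun m hm => ?_⟩
  haveI := hE
  have hKm := AmpleLib.isInvertible_tensorPow hK m
  haveI := InvExt.isQCoh_of_isInvertible hKm
  haveI : Coh.IsQCoh (CohB1.tensorMod E (CohB1.tensorPow K m)) := BCLib.isQCoh_tmod E _
  refine exists_ft_quotient g _ (BCLib.isFT_tensorMod E _ hEft (DCohLib.isFT_of_flf (CurveLib.isFinLocFree_of_isInvertible hKm)))
    fun y => ?_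
  obtain ⟨V, hy⟩ := Opens.mem_iSup.1 (hcov.ge (Set.mem_univ (g y)))
  exact ⟨V.1.1, V.1.2, hy, fun y' hy' => span_germ_of_restrict (hN V.1 V.2 m hm) hy'⟩

end Groth.Agent.ProjBundleLib
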