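import Groth.Agent.ProjBundleLib.Exist
import Groth.Agent.QCohLib.Exact
import Groth.Agent.QCohLib.FiniteType

/-! The degree-one part of a graded algebra as a module. -/

set_option autoImplicit false
set_option linter.style.haveILetI false
set_option backward.isDefEq.respectTransparency false

universe u

open CategoryTheory CategoryTheory.Limits AlgebraicGeometry TopologicalSpace Opposite
open Groth.Agent.QCohLib

noncomputable section

namespace Groth.Agent.ProjBundleLib

variable {S : Scheme.{u}}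

/-- A quasi-coherent algebra is a quasi-coherent module. -/
theorem isQCoh_toModule (A : RelSpec.QCAlg S) : Coh.IsQCoh A.toModule := by
  rw [QCohLib.isQCoh_iff]
  intro W hW
  constructor
  · intro f t
    letI := (A.presheaf.map (homOfLE (S.basicOpen_le f)).op).hom.toAlgebra
    haveI : IsLocalization.Away ((A.str.app (op W)).hom f) (A.presheaf.obj (op (S.basicOpen f))) := A.isQC W hW f
    obtain ⟨n, a, ha⟩ := IsLocalization.Away.surj ((A.str.app (op W)).hom f) (show A.presheaf.obj (op (S.basicOpen f)) from t)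
    refine ⟨n, a, ?_⟩
    rw [CohBase.sc_apply]
    refine ha.symm.trans ?_
    show _ * (A.presheaf.map (homOfLE (S.basicOpen_le f)).op).hom ((A.str.app (op W)).hom f) ^ n =
      (A.str.app (op (S.basicOpen f))).hom (S.presheaf.map (homOfLE (S.basicOpen_le f)).op (f ^ n)) * _
    rw [← RelSpecLib.res_str, map_pow, map_pow, mul_comm]
  · intro f s hs
    letI := (A.presheaf.map (homOfLE (S.basicOpen_le f)).op).hom.toAlgebra
    haveI : IsLocalization.Away ((A.str.app (op W)).hom f) (A.presheaf.obj (op (S.basicOpen f))) := A.isQC W hW f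
    obtain ⟨⟨_, n, rfl⟩, hn⟩ := (IsLocalization.map_eq_zero_iff (Submonoid.powers ((A.str.app (op W)).hom f))
      (A.presheaf.obj (op (S.basicOpen f))) (show A.presheaf.obj (op W) from s)).1 hs
    refine ⟨n, ?_⟩
    rw [CohBase.sc_apply]
    show (A.str.app (op W)).hom (S.presheaf.map (homOfLE (le_refl W)).op (f ^ n)) * _ = (0 : A.presheaf.obj (op W))
    rw [show (homOfLE (le_refl W)).op = 𝟙 (op W) from Subsingleton.elim _ _, S.presheaf.map_id]
    show (A.str.app (op W)).hom (f ^ n) * _ = _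
    rw [map_pow]
    exact hn

variable (𝒮 : RelProj.QCGrAlg S)

theorem exists_pr1 : ∃ π : 𝒮.toModule ⟶ 𝒮.toModule, ∀ (U : S.Opens) (hU : IsAffineOpen U) (a : 𝒮.presheaf.obj (op U)),
    (π.app U) a = (DirectSum.decompose (𝒮.deg U hU) a 1 : 𝒮.presheaf.obj (op U)) := by
  classical
  refine exists_hom_of_affine (E := 𝒮.toModule) (N := 𝒮.toModule)
    (fun U => ((GradedRing.proj (𝒮.deg U.1 U.2) 1 : 𝒮.presheaf.obj (op U.1) →+ _) :
      Γ(𝒮.toModule, U.1) →+ Γ(𝒮.toModule, U.1))) (fun U hU r e => ?_) fun U a e => ?_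
  · exact GradedRingHom.map_directSumDecompose (𝒮.res hU (hU.basicOpen r) (S.basicOpen_le r))
      (𝒜 := 𝒮.deg U hU) (ℬ := 𝒮.deg (S.basicOpen r) (hU.basicOpen r)) (x := (show 𝒮.presheaf.obj (op U) from e)) (i := 1)
  · show (DirectSum.decompose (𝒮.deg U.1 U.2) ((𝒮.str.app (op U.1)).hom a * (show 𝒮.presheaf.obj (op U.1) from e)) 1 : 𝒮.presheaf.obj (op U.1)) =
      (𝒮.str.app (op U.1)).hom a * (DirectSum.decompose (𝒮.deg U.1 U.2) (show 𝒮.presheaf.obj (op U.1) from e) 1 : 𝒮.presheaf.obj (op U.1))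
    exact DirectSum.coe_decompose_mul_of_left_mem_of_le (𝒮.deg U.1 U.2) (𝒮.str_mem U.1 U.2 a) (Nat.zero_le 1)

/-- The degree-one part, with its inclusion. -/
theorem exists_degOne : ∃ (M : S.Modules) (u : M ⟶ 𝒮.toModule), Coh.IsQCoh M ∧
    (∀ U : S.Opens, Function.Injective (u.app U)) ∧
    (∀ (U : S.Opens) (hU : IsAffineOpen U) (x : Γ(M, U)), (u.app U) x ∈ 𝒮.deg U hU 1) ∧
    (∀ (U : S.Opens) (hU : IsAffineOpen U) (s : 𝒮.presheaf.obj (op U)), s ∈ 𝒮.deg U hU 1 → ∃ x : Γ(M, U), (u.app U) x = s) ∧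
    (𝒮.IsFTDeg 1 → CohB1.IsFT M) := by
  classical
  obtain ⟨π, hπ⟩ := exists_pr1 𝒮
  let f := 𝟙 𝒮.toModule - π
  let u := kernel.ι f
  haveI hM : Coh.IsQCoh (kernel f) :=
    (QCohLib.isQCoh_image f (isQCoh_toModule 𝒮.toQCAlg) (isQCoh_toModule 𝒮.toQCAlg)).1
  have hinj : ∀ U : S.Opens, Function.Injective (u.app U) := fun U =>
    QCohLib.app_injective (S := ShortComplex.mk u (cokernel.π u) (cokernel.condition _))
      (ShortComplex.ShortExact.mk' (ShortComplex.exact_of_g_is_cokernel _ (cokernelIsCokernel _)) inferInstance inferInstance) U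
  have hmem : ∀ (U : S.Opens) (hU : IsAffineOpen U) (x : Γ(kernel f, U)), (u.app U) x ∈ 𝒮.deg U hU 1 := fun U hU x => by
    have h : f.app U (u.app U x) = 0 := congr($(kernel.condition f).app U x)
    have h' : (show 𝒮.presheaf.obj (op U) from u.app U x) - (show 𝒮.presheaf.obj (op U) from π.app U (u.app U x)) = 0 := h
    rw [sub_eq_zero] at h'
    have h2 := h'.trans (hπ U hU (u.app U x))
    show (show 𝒮.presheaf.obj (op U) from u.app U x) ∈ 𝒮.deg U hU 1
    rw [h2]
    exact SetLike.coe_mem _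
  have hsurj : ∀ (U : S.Opens) (hU : IsAffineOpen U) (s : 𝒮.presheaf.obj (op U)), s ∈ 𝒮.deg U hU 1 →
      ∃ x : Γ(kernel f, U), (u.app U) x = s := fun U hU s hs => by
    refine QCohLib.kernel_app_exact f U s ?_
    show (show 𝒮.presheaf.obj (op U) from s) - (show 𝒮.presheaf.obj (op U) from π.app U s) = 0
    rw [sub_eq_zero]
    exact ((hπ U hU s).trans (DirectSum.decompose_of_mem_same (𝒮.deg U hU) (x := (show 𝒮.presheaf.obj (op U) from s)) hs)).symm
  refine ⟨kernel f, u, hM, hinj, hmem, hsurj, fun hft => ?_⟩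
  refine QCohLib.isFiniteType_of_finite (kernel f) (fun W : S.affineOpens => W.1) (fun W => W.2)
    (eq_top_iff.2 fun x _ => ?_) fun W => ?_
  · obtain ⟨_, ⟨V, hV, rfl⟩, hx, -⟩ := S.isBasis_affineOpens.exists_subset_of_mem_open (Set.mem_univ x) isOpen_univ
    exact Opens.mem_iSup.2 ⟨⟨V, hV⟩, hx⟩
  · obtain ⟨T, hT, hgen⟩ := hft W.1 W.2
    choose g hg using fun t : T => hsurj W.1 W.2 t.1 (hT t.2)
    rw [Module.finite_def, Submodule.fg_def]
    refine ⟨Set.range g, Set.finite_range g, eq_top_iff.2 fun x _ => ?_⟩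
    obtain ⟨c, hc⟩ := hgen _ (hmem W.1 W.2 x)
    have hx : x = ∑ t : T, c t.1 • g t := hinj W.1 (by
      rw [map_sum]
      refine hc.trans ?_
      rw [← Finset.sum_coe_sort T]
      refine Finset.sum_congr rfl fun t _ => ?_
      rw [Scheme.Modules.Hom.app_smul]
      erw [hg t]
      rfl)
    rw [hx]
    exact Submodule.sum_mem _ fun t _ => Submodule.smul_mem _ _ (Submodule.subset_span ⟨t, rfl⟩)

end Groth.Agent.ProjBundleLib
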