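import Groth.Agent.ProjBundleLib.Factor
import Groth.Agent.S8284
import Groth.Agent.RelProjLib.QMap

/-! The canonical map of a projective bundle exists. -/

set_option autoImplicit false
set_option linter.style.haveILetI false
set_option backward.isDefEq.respectTransparency false

universe u

open CategoryTheory CategoryTheory.Limits AlgebraicGeometry TopologicalSpace Opposite
open Groth.Agent.ParaFLib Groth.Agent.RelSpecLib

noncomputable section

namespace Groth.Agent.ProjBundleLib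

/-- A map of modules given on affine opens, natural for basic opens. -/
theorem exists_hom_of_affine {S : Scheme.{u}} {E N : S.Modules} (f : ∀ U : S.AffineZariskiSite, Γ(E, U.1) →+ Γ(N, U.1))
    (hres : ∀ (U : S.Opens) (hU : IsAffineOpen U) (r : Γ(S, U)) (e : Γ(E, U)),
      N.presheaf.map (homOfLE (S.basicOpen_le r)).op (f ⟨U, hU⟩ e) =
        f ⟨S.basicOpen r, hU.basicOpen r⟩ (E.presheaf.map (homOfLE (S.basicOpen_le r)).op e))
    (hsmul : ∀ (U : S.AffineZariskiSite) (a : Γ(S, U.1)) (e : Γ(E, U.1)), f U (a • e) = a • f U e) :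
    ∃ F : E ⟶ N, ∀ (U : S.Opens) (hU : IsAffineOpen U) (e : Γ(E, U)), F.app U e = f ⟨U, hU⟩ e := by
  let F' : TopCat.Sheaf Ab.{u} S.carrier := ⟨N.presheaf, N.isSheaf⟩
  let α : (Scheme.AffineZariskiSite.toOpensFunctor S).op ⋙ E.presheaf ⟶
      (Scheme.AffineZariskiSite.toOpensFunctor S).op ⋙ F'.obj :=
    { app := fun U => AddCommGrpCat.ofHom (f U.unop)
      naturality := fun U V i => AddCommGrpCat.hom_ext (AddMonoidHom.ext fun e => by
        obtain ⟨⟨U, hU⟩⟩ := U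
        obtain ⟨⟨V, hV⟩⟩ := V
        obtain ⟨r, hr⟩ : ∃ r : Γ(S, U), S.basicOpen r = V := i.unop.le
        subst hr
        exact (hres U hU r e).symm) }
  let e := Functor.IsCoverDense.restrictHomEquivHom (G := Scheme.AffineZariskiSite.toOpensFunctor S)
    (K := Opens.grothendieckTopology S) (ℱ := E.presheaf) (ℱ' := F')
  let Fp : E.presheaf ⟶ N.presheaf := e α
  have happ : ∀ (U : S.AffineZariskiSite) (m : Γ(E, U.1)), Fp.app (op U.1) m = f U m := fun U m =>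
    ConcreteCategory.congr_hom (NatTrans.congr_app (e.symm_apply_apply α) (op U)) m
  have hlin : ∀ (W : S.Opens) (r : Γ(S, W)) (x : Γ(E, W)),
      (Fp.app (op W) (r • x) : Γ(N, W)) = r • (Fp.app (op W) x : Γ(N, W)) := by
    intro W r x
    refine TopCat.Sheaf.eq_of_locally_eq' F'
      (fun a : {U : S.Opens // IsAffineOpen U ∧ U ≤ W} => a.1) W (fun a => homOfLE a.2.2) (fun y hy => ?_) _ _
      fun a => ?_
    · obtain ⟨_, ⟨V, hV, rfl⟩, hyV, hVW⟩ := S.isBasis_affineOpens.exists_subset_of_mem_open hy W.2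
      exact Opens.mem_iSup.2 ⟨⟨V, hV, hVW⟩, hyV⟩
    · have hn : ∀ z : Γ(E, W), N.presheaf.map (homOfLE a.2.2).op (Fp.app (op W) z) =
          Fp.app (op a.1) (E.presheaf.map (homOfLE a.2.2).op z) := fun z =>
        (ConcreteCategory.congr_hom (Fp.naturality (homOfLE a.2.2).op) z).symm
      show N.presheaf.map (homOfLE a.2.2).op (Fp.app (op W) (r • x)) =
        N.presheaf.map (homOfLE a.2.2).op (r • (Fp.app (op W) x : Γ(N, W)))
      rw [hn, E.map_smul (homOfLE a.2.2), N.map_smul (homOfLE a.2.2), hn, happ ⟨a.1, a.2.1⟩, happ ⟨a.1, a.2.1⟩]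
      exact hsmul ⟨a.1, a.2.1⟩ _ _
  exact ⟨⟨PresheafOfModules.homMk Fp fun W r x => hlin W.unop r x⟩, fun U hU m => happ ⟨U, hU⟩ m⟩

theorem emb_app_val {Y P : Scheme.{u}} {p : P ⟶ Y} {S : RelProj.QCGrAlg Y}
    {chart : ∀ (U : Y.Opens) (hU : IsAffineOpen U), ((p ⁻¹ᵁ U : P.Opens) : Scheme.{u}) ≅ Proj (S.deg U hU)}
    (hP : RelProj.IsRelProj S p chart) {U : Y.Opens} (hU : IsAffineOpen U) (a : Γ(Y, U))
    (y : ↥(RelProj.emb p chart U hU ⁻¹ᵁ (p ⁻¹ᵁ U))) :
    ((((RelProj.emb p chart U hU).app (p ⁻¹ᵁ U) (p.app U a) : GrTwist.O (𝒜 := S.deg U hU) (op _)).1 y).val :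
      GrTwist.Loc (S.deg U hU) y.1) = Localization.mk ((S.str.app (op U)).hom a) 1 := by
  obtain ⟨d, f, hd, hf, hfy⟩ := GrModLib.exists_mem_pos_notMem y.1
  let h := RelProj.emb p chart U hU ≫ p
  let V := Proj.basicOpen (S.deg U hU) f
  have hV : V ≤ h ⁻¹ᵁ U := fun z _ =>
    (RelTildeLib.opensRange_emb (chart := chart) U hU).le ⟨z, rfl⟩
  have hι : V.ι = (Proj.basicOpenIsoSpec (S.deg U hU) f hf hd).hom ≫ Proj.awayι (S.deg U hU) f hf hd :=
    ((Proj.basicOpenIsoSpec (S.deg U hU) f hf hd).hom_inv_id_assoc V.ι).symm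
  have e : h.appLE U V hV = S.strZero U hU ≫
      CommRingCat.ofHom (HomogeneousLocalization.fromZeroRingHom (S.deg U hU) _) ≫
        Proj.awayToSection (S.deg U hU) f := by
    refine toSpecΓ_map_injective V ((cancel_mono hU.fromSpec).1 ?_)
    rw [Category.assoc, Category.assoc, ← ι_comp_eq h hU hV, hι, Category.assoc,
      RelProjLib.QMap.awayι_emb hP U hU hd f hf, Proj.basicOpenIsoSpec_hom]
    simp [Proj.basicOpenToSpec, V, Spec.map_comp]
  have e' := congrArg (fun k => (((k.hom a : Γ(Proj (S.deg U hU), V)) : GrTwist.O (𝒜 := S.deg U hU) (op V)).1 ⟨y.1, hfy⟩).val) e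
  refine Eq.trans ?_ (e'.trans ?_)
  · rfl
  · refine (ProjectiveSpectrum.Proj.awayToSection_apply (𝒜 := S.deg U hU) f _ ⟨y.1, hfy⟩).trans ?_
    show IsLocalization.map _ (RingHom.id _) _ (Localization.mk ((S.str.app (op U)).hom a) 1) = _
    rw [Localization.mk_eq_mk', IsLocalization.map_mk', ← Localization.mk_eq_mk']
    rfl

variable {Y P : Scheme.{u}} {p : P ⟶ Y} {E : Y.Modules} (hE : Coh.IsQCoh E)
  {S : RelProj.QCGrAlg Y} {j : E ⟶ S.toModule} (hj : RelProj.IsGrSymAlg E S j)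
  {chart : ∀ (U : Y.Opens) (hU : IsAffineOpen U), ((p ⁻¹ᵁ U : P.Opens) : Scheme.{u}) ≅ Proj (S.deg U hU)}
  (hP : RelProj.IsRelProj S p chart) {O1 : P.Modules}
  {lam : ∀ (U : Y.Opens) (hU : IsAffineOpen U),
    O1 ⟶ (Scheme.Modules.pushforward (RelProj.emb p chart U hU)).obj (GrTwist.twist (S.deg U hU) 1)}
  (hO1 : RelProj.IsRelTwist S p chart 1 O1 lam)

include hE hj hP hO1 in
theorem exists_φ_val : ∃ φ : E ⟶ (Scheme.Modules.pushforward p).obj O1,
    ∀ (U : Y.Opens) (hU : IsAffineOpen U) (e : Γ(E, U)) (y : ↥(RelProj.emb p chart U hU ⁻¹ᵁ (p ⁻¹ᵁ U))),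
      GrTwist.val (V := RelProj.emb p chart U hU ⁻¹ᵁ (p ⁻¹ᵁ U)) ((lam U hU).app (p ⁻¹ᵁ U) (φ.app U e)) y =
        algebraMap (S.presheaf.obj (op U)) (GrTwist.Loc (S.deg U hU) y.1) (j.app U e : S.presheaf.obj (op U)) := by
  let T : ∀ (U : Y.AffineZariskiSite) (e : Γ(E, U.1)),
      Γ(GrTwist.twist (S.deg U.1 U.2) 1, RelProj.emb p chart U.1 U.2 ⁻¹ᵁ (p ⁻¹ᵁ U.1)) := fun U e =>
    GrModLib.fracT (S.deg U.1 U.2) (⟨jsec S.toQCAlg j e, hj.2 U.1 U.2 e⟩ : S.deg U.1 U.2 1)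
      (⟨1, SetLike.GradedOne.one_mem⟩ : S.deg U.1 U.2 0) 1 (by simp)
      (fun z _ h => z.isPrime.ne_top ((Ideal.eq_top_iff_one _).2 h))
  have hb := fun U : Y.AffineZariskiSite => hO1.bijective U.1 U.2 (p ⁻¹ᵁ U.1) le_rfl
  choose f hf using fun (U : Y.AffineZariskiSite) (e : Γ(E, U.1)) => (hb U).2 (T U e)
  have hT : ∀ (U : Y.AffineZariskiSite) (e : Γ(E, U.1)) (y : ↥(RelProj.emb p chart U.1 U.2 ⁻¹ᵁ (p ⁻¹ᵁ U.1))),
      GrTwist.val (V := RelProj.emb p chart U.1 U.2 ⁻¹ᵁ (p ⁻¹ᵁ U.1)) ((lam U.1 U.2).app (p ⁻¹ᵁ U.1) (f U e)) y =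
        algebraMap (S.presheaf.obj (op U.1)) (GrTwist.Loc (S.deg U.1 U.2) y.1) (jsec S.toQCAlg j e) := fun U e y => by
    rw [hf, ← Localization.mk_one_eq_algebraMap]
    rfl
  let fA : ∀ U : Y.AffineZariskiSite, Γ(E, U.1) →+ Γ((Scheme.Modules.pushforward p).obj O1, U.1) := fun U =>
    { toFun := f U
      map_zero' := (hb U).1 (by
        rw [hf]
        refine Eq.trans ?_ (map_zero _).symm
        refine Subtype.ext (funext fun y => Subtype.ext ?_)
        show Localization.mk (jsec S.toQCAlg j (0 : Γ(E, U.1))) _ = 0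
        rw [show jsec S.toQCAlg j (0 : Γ(E, U.1)) = 0 from map_zero (j.app U.1).hom, Localization.mk_zero])
      map_add' := fun e e' => (hb U).1 (by
        rw [hf]
        refine Eq.trans ?_ (map_add _ _ _).symm
        erw [hf, hf]
        refine Subtype.ext (funext fun y => Subtype.ext ?_)
        show Localization.mk (jsec S.toQCAlg j (e + e')) _ =
          Localization.mk (jsec S.toQCAlg j e) _ + Localization.mk (jsec S.toQCAlg j e') _
        rw [show jsec S.toQCAlg j (e + e') = jsec S.toQCAlg j e + jsec S.toQCAlg j e' from map_add (j.app U.1).hom e e',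
          Localization.add_mk, Localization.mk_eq_mk_iff, Localization.r_iff_exists]
        exact ⟨1, by simp [add_comm]⟩) }
  have hres : ∀ (U : Y.Opens) (hU : IsAffineOpen U) (r : Γ(Y, U)) (e : Γ(E, U)),
      ((Scheme.Modules.pushforward p).obj O1).presheaf.map (homOfLE (Y.basicOpen_le r)).op (fA ⟨U, hU⟩ e) =
        fA ⟨Y.basicOpen r, hU.basicOpen r⟩ (E.presheaf.map (homOfLE (Y.basicOpen_le r)).op e) := fun U hU r e => by
    refine (hb ⟨Y.basicOpen r, hU.basicOpen r⟩).1 ?_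
    refine Subtype.ext (funext fun y => Subtype.ext ?_)
    refine Eq.trans ?_ (hT ⟨Y.basicOpen r, hU.basicOpen r⟩ _ y).symm
    have hy : (RelProj.emb p chart (Y.basicOpen r) (hU.basicOpen r)).base y.1 ∈ p ⁻¹ᵁ U :=
      Y.basicOpen_le r y.2
    have hy' : (RelProj.emb p chart U hU).base (ProjectiveSpectrum.comap
        (S.res hU (hU.basicOpen r) (Y.basicOpen_le r)) (S.irrelevant_le_map U hU r) y.1) ∈ p ⁻¹ᵁ U := by
      rw [RelTildeLib.emb_comap hP U hU r y.1]; exact hy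
    have hc := hO1.compat U hU r (p ⁻¹ᵁ U) (f ⟨U, hU⟩ e) y.1 hy hy'
    rw [hT ⟨U, hU⟩ e ⟨_, hy'⟩, ← Localization.mk_one_eq_algebraMap, GrTwist.locMap_mk] at hc
    have hn := ConcreteCategory.congr_hom ((lam (Y.basicOpen r) (hU.basicOpen r)).mapPresheaf.naturality
      (homOfLE (p.preimage_mono (Y.basicOpen_le r))).op) (f ⟨U, hU⟩ e)
    refine (congrArg (fun t => GrTwist.val
      (V := RelProj.emb p chart (Y.basicOpen r) (hU.basicOpen r) ⁻¹ᵁ (p ⁻¹ᵁ Y.basicOpen r)) t y) hn).trans ?_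
    refine hc.trans ?_
    rw [← Localization.mk_one_eq_algebraMap, ← res_jsec S.toQCAlg j (Y.basicOpen_le r) e]
    refine Localization.mk_eq_mk_iff.2 (Localization.r_iff_exists.2 ⟨1, ?_⟩)
    simp only [OneMemClass.coe_one, one_mul, mul_one, map_one]
    rfl
  have hsmul : ∀ (U : Y.AffineZariskiSite) (a : Γ(Y, U.1)) (e : Γ(E, U.1)), fA U (a • e) = a • fA U e := fun U a e => by
    refine (hb U).1 ?_
    refine (hf U _).trans ?_
    refine Eq.trans ?_ (Scheme.Modules.Hom.app_smul (lam U.1 U.2) (p.app U.1 a) (f U e)).symm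
    erw [hf]
    refine Subtype.ext (funext fun y => Subtype.ext ?_)
    refine Eq.trans ?_ (GrTwist.coe_smul_val 1 y.1
      (((RelProj.emb p chart U.1 U.2).app (p ⁻¹ᵁ U.1) (p.app U.1 a) :
        GrTwist.O (𝒜 := S.deg U.1 U.2) (op _)).1 y) _).symm
    show Localization.mk (jsec S.toQCAlg j (a • e)) _ = _ * Localization.mk (jsec S.toQCAlg j e) _
    rw [emb_app_val hP U.2 a y, Localization.mk_mul, jsec_smul, Localization.mk_eq_mk_iff, Localization.r_iff_exists]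
    exact ⟨1, by simp⟩
  obtain ⟨F, hF⟩ := exists_hom_of_affine fA hres hsmul
  refine ⟨F, fun U hU e y => ?_⟩
  rw [hF U hU e]
  exact hT ⟨U, hU⟩ e y

include hE hj hP hO1 in
theorem exists_φ : ∃ φ : E ⟶ (Scheme.Modules.pushforward p).obj O1, Nonempty (PData p E O1 φ) :=
  let ⟨φ, hφ⟩ := exists_φ_val hE hj hP hO1
  ⟨φ, ⟨⟨hE, S, j, hj, chart, hP, lam, hO1, hφ⟩⟩⟩

end Groth.Agent.ProjBundleLib
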