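import Groth.Agent.PullbackMod.Stalk
import Groth.Agent.PullbackMod.Hom
import Groth.Agent.ParaFLib.Stalk

/-! Adjuncts along a composite; comparison of invertible quotients. -/

set_option autoImplicit false
set_option linter.style.haveILetI false
set_option backward.isDefEq.respectTransparency false

universe u

open CategoryTheory CategoryTheory.Limits AlgebraicGeometry TopologicalSpace Opposite
open Groth.Agent.ParaFLib Groth.Agent.PullbackMod

noncomputable section

namespace Groth.Agent.ProjBundleLib

variable {X P Y : Scheme.{u}}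

theorem stalkLin_adjunct (g : X ⟶ Y) {M : Y.Modules} {N : X.Modules}
    (θ : M ⟶ (Scheme.Modules.pushforward g).obj N) {W : Y.Opens} (x : X) (hx : g x ∈ W) (e : Γ(M, W)) :
    stalkLin (((Scheme.Modules.pullbackPushforwardAdjunction g).homEquiv M N).symm θ) x
        (pullStalk g M x (M.presheaf.germ W (g x) hx e)) =
      N.presheaf.germ (g ⁻¹ᵁ W) x hx (θ.app W e) := by
  rw [pullStalk_germ]
  refine (stalkLin_germ _ (U := g ⁻¹ᵁ W) x hx _).trans (congrArg (N.presheaf.germ (g ⁻¹ᵁ W) x hx) ?_)
  have h1 : (Scheme.Modules.pullbackPushforwardAdjunction g).unit.app M ≫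
      (Scheme.Modules.pushforward g).map
        (((Scheme.Modules.pullbackPushforwardAdjunction g).homEquiv M N).symm θ) = θ :=
    (Adjunction.homEquiv_unit _ _ _ _).symm.trans (Equiv.apply_symm_apply _ _)
  exact congrArg (fun χ : M ⟶ (Scheme.Modules.pushforward g).obj N => χ.app W e) h1

theorem homEquiv_comp (r : X ⟶ P) (p : P ⟶ Y) {E : Y.Modules} {N : P.Modules}
    (φ : E ⟶ (Scheme.Modules.pushforward p).obj N) :
    (Scheme.Modules.pullbackPushforwardAdjunction (r ≫ p)).homEquiv E ((Scheme.Modules.pullback r).obj N)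
        ((Scheme.Modules.pullbackComp r p).inv.app E ≫ (Scheme.Modules.pullback r).map
          (((Scheme.Modules.pullbackPushforwardAdjunction p).homEquiv E N).symm φ)) =
      φ ≫ (Scheme.Modules.pushforward p).map ((Scheme.Modules.pullbackPushforwardAdjunction r).unit.app N) ≫
        (Scheme.Modules.pushforwardComp r p).hom.app ((Scheme.Modules.pullback r).obj N) := by
  set a := ((Scheme.Modules.pullbackPushforwardAdjunction p).homEquiv E N).symm φ with ha
  have hφ : φ = (Scheme.Modules.pullbackPushforwardAdjunction p).unit.app E ≫ (Scheme.Modules.pushforward p).map a :=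
    ((Equiv.apply_symm_apply _ φ).symm.trans (Adjunction.homEquiv_unit _ _ _ _))
  have h := unit_conjugateEquiv
    ((Scheme.Modules.pullbackPushforwardAdjunction p).comp (Scheme.Modules.pullbackPushforwardAdjunction r))
    (Scheme.Modules.pullbackPushforwardAdjunction (r ≫ p)) (Scheme.Modules.pullbackComp r p).inv E
  rw [Scheme.Modules.conjugateEquiv_pullbackComp_inv] at h
  rw [Adjunction.homEquiv_unit, Functor.map_comp, ← Category.assoc, ← h, Category.assoc]
  refine (congrArg (_ ≫ ·)
    ((Scheme.Modules.pushforwardComp r p).hom.naturality ((Scheme.Modules.pullback r).map a)).symm).trans ?_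
  rw [hφ]
  simp only [Adjunction.comp_unit_app, Functor.comp_map, Category.assoc]
  refine congrArg ((Scheme.Modules.pullbackPushforwardAdjunction p).unit.app E ≫ ·) ?_
  rw [← Category.assoc, ← Category.assoc, ← Functor.map_comp, ← Functor.map_comp]
  exact congrArg (fun z => (Scheme.Modules.pushforward p).map z ≫ _)
    ((Scheme.Modules.pullbackPushforwardAdjunction r).unit.naturality a).symm

/-- Pulling a map out of an inverse image back once more. -/
abbrev pullAdj {g : X ⟶ Y} {r : X ⟶ P} {p : P ⟶ Y} (hr : r ≫ p = g) {E : Y.Modules} {N : P.Modules}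
    (φ : E ⟶ (Scheme.Modules.pushforward p).obj N) :
    (Scheme.Modules.pullback g).obj E ⟶ (Scheme.Modules.pullback r).obj N :=
  (Scheme.Modules.pullbackCongr hr).inv.app E ≫ (Scheme.Modules.pullbackComp r p).inv.app E ≫
    (Scheme.Modules.pullback r).map (((Scheme.Modules.pullbackPushforwardAdjunction p).homEquiv E N).symm φ)

theorem stalkLin_pullAdj {g : X ⟶ Y} {r : X ⟶ P} {p : P ⟶ Y} (hr : r ≫ p = g) {E : Y.Modules} {N : P.Modules}
    (φ : E ⟶ (Scheme.Modules.pushforward p).obj N) {W : Y.Opens} (x : X) (hx : g x ∈ W) (e : Γ(E, W)) :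
    stalkLin (pullAdj hr φ) x (pullStalk g E x (E.presheaf.germ W (g x) hx e)) =
      pullStalk r N x (N.presheaf.germ (p ⁻¹ᵁ W) (r x) (by subst hr; exact hx) (φ.app W e)) := by
  subst hr
  have e1 : pullAdj rfl φ = ((Scheme.Modules.pullbackPushforwardAdjunction (r ≫ p)).homEquiv E _).symm
      (φ ≫ (Scheme.Modules.pushforward p).map ((Scheme.Modules.pullbackPushforwardAdjunction r).unit.app N) ≫
        (Scheme.Modules.pushforwardComp r p).hom.app ((Scheme.Modules.pullback r).obj N)) := by
    rw [← homEquiv_comp, Equiv.symm_apply_apply, pullAdj]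
    exact Category.id_comp _
  rw [e1, stalkLin_adjunct, pullStalk_germ]
  rfl

/-- A map killing the kernel of an epimorphism, stalk by stalk, factors through it. -/
theorem exists_iso_of_stalk {M L L' : X.Modules} (a : M ⟶ L) [Epi a] (s : M ⟶ L')
    (hker : ∀ (x : X) (z : M.presheaf.stalk x), stalkLin a x z = 0 → stalkLin s x z = 0)
    (hgen : ∀ x : X, ∃ z : M.presheaf.stalk x,
      (Function.Bijective fun c : X.presheaf.stalk x => c • stalkLin a x z) ∧
      Function.Bijective fun c : X.presheaf.stalk x => c • stalkLin s x z) :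
    ∃ τ : L ≅ L', a ≫ τ.hom = s := by
  have h0 : kernel.ι a ≫ s = 0 := by
    refine Scheme.Modules.hom_ext _ _ fun O => AddCommGrpCat.hom_ext (AddMonoidHom.ext fun m => ?_)
    refine TopCat.Presheaf.section_ext (⟨L'.presheaf, L'.isSheaf⟩ : TopCat.Sheaf Ab X) O _ _ fun x hx => ?_
    show L'.presheaf.germ O x hx (s.app O ((kernel.ι a).app O m)) = L'.presheaf.germ O x hx 0
    rw [map_zero, ← stalkLin_germ s x hx]
    refine hker x _ ?_
    rw [stalkLin_germ a x hx]
    have := congrArg (fun k => k.app O m) (kernel.condition a)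
    rw [show a.app O ((kernel.ι a).app O m) = (0 : Γ(L, O)) from this, map_zero]
  let τ : L ⟶ L' := Abelian.epiDesc a s h0
  have hτ : a ≫ τ = s := Abelian.comp_epiDesc a s h0
  haveI : IsIso τ := by
    refine (isIso_iff_stalk τ).2 fun x => ?_
    obtain ⟨z, h1, h2⟩ := hgen x
    have hc : stalkLin τ x (stalkLin a x z) = stalkLin s x z := by
      obtain ⟨U, hxU, z, rfl⟩ := TopCat.Presheaf.exists_germ_eq M.presheaf z
      rw [stalkLin_germ a x hxU, stalkLin_germ τ x hxU, stalkLin_germ s x hxU, ← hτ]
      rfl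
    refine ⟨(injective_iff_map_eq_zero _).2 fun y hy => ?_, fun y => ?_⟩
    · obtain ⟨c, rfl⟩ := h1.2 y
      rw [LinearMap.map_smul, hc] at hy
      rw [h2.1 (show c • stalkLin s x z = (0 : X.presheaf.stalk x) • stalkLin s x z by rw [hy, zero_smul])]
      exact zero_smul _ _
    · obtain ⟨c, rfl⟩ := h2.2 y
      exact ⟨c • stalkLin a x z, by rw [LinearMap.map_smul, hc]⟩
  exact ⟨asIso τ, hτ⟩

end Groth.Agent.ProjBundleLib
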