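import Groth.Agent.ProjBundleLib.VeryAmple
import Groth.Agent.AmpleLib.RelLocal

/-! Relative ampleness of the tautological sheaf on quasi-compact parts of a projective bundle. -/

set_option autoImplicit false
set_option linter.style.haveILetI false
set_option backward.isDefEq.respectTransparency false

universe u

open CategoryTheory CategoryTheory.Limits AlgebraicGeometry TopologicalSpace Opposite
open Groth.Agent.ParaFLib Groth.Agent.AmpleLib

noncomputable section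

namespace Groth.Agent.ProjBundleLib

variable {X Y P : Scheme.{u}} {p : P ⟶ Y} {E : Y.Modules} {O1 : P.Modules}
  {φ : E ⟶ (Scheme.Modules.pushforward p).obj O1}

namespace PData

variable (D : PData p E O1 φ) {U : Y.Opens} (hU : IsAffineOpen U)

include D in
theorem ampleOn_biUnion (t : Finset Γ(E, U)) : AmpleOn O1 (⨆ e ∈ t, D.DPl hU e) := by
  set Ω : P.Opens := ⨆ e ∈ t, D.DPl hU e with hΩ
  have hΩU : Ω ≤ p ⁻¹ᵁ U := iSup₂_le fun e _ => D.DPl_le hU e
  have hc : IsCompact (Ω : Set P) := by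
    rw [hΩ]
    simp only [Opens.coe_iSup]
    exact t.isCompact_biUnion fun e _ => (D.isAffineOpen_DPl hU e).isCompact
  have hL : PicF.IsInvertible (O1.restrict Ω.ι) := ParaFLib.isInvertible_restrict Ω.ι D.isInvertible_O1
  refine ⟨hL, isCompact_iff_compactSpace.1 hc, fun x => ?_⟩
  obtain ⟨e, het, hxe⟩ : ∃ e ∈ t, x.1 ∈ D.DPl hU e := by simpa [hΩ] using x.2
  have himg : Ω.ι ''ᵁ ⊤ ≤ p ⁻¹ᵁ U := Ω.ι_image_top.le.trans hΩU
  let σ : Γ(O1.restrict Ω.ι, ⊤) := O1.presheaf.map (homOfLE himg).op (φ.app U e)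
  have hDΩ : D.DPl hU e ≤ Ω := le_iSup₂ (f := fun e _ => D.DPl hU e) e het
  have heq : CohB1.genLocus _ (DCohLib.secHom (O1.restrict Ω.ι) σ) = Ω.ι ⁻¹ᵁ D.DPl hU e := by
    refine le_antisymm (fun y hy => ?_) (fun y hy => ?_)
    · obtain ⟨W, hyW, hW⟩ := mem_genLocus_iff'.1 hy
      rw [sec_secHom] at hW
      have h1 := ((gen_restrict_iff Ω.ι O1 W _).1 hW).bijective_germ y.1 ⟨y, hyW, rfl⟩
      refine (D.mem_DPl_iff hU e (hΩU y.2)).2 ?_
      change Function.Bijective fun c : P.presheaf.stalk y.1 => c • O1.presheaf.germ (Ω.ι ''ᵁ W) y.1 ⟨y, hyW, rfl⟩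
        (O1.presheaf.map (homOfLE (Ω.ι.image_mono le_top)).op σ) at h1
      rw [TopCat.Presheaf.germ_res_apply O1.presheaf (homOfLE (Ω.ι.image_mono le_top)) y.1 ⟨y, hyW, rfl⟩ σ] at h1
      erw [TopCat.Presheaf.germ_res_apply O1.presheaf (homOfLE himg) y.1] at h1
      exact h1
    · refine mem_genLocus_iff'.2 ⟨Ω.ι ⁻¹ᵁ D.DPl hU e, hy, ?_⟩
      rw [sec_secHom]
      refine (gen_restrict_iff Ω.ι O1 _ _).2 ?_
      have hle : Ω.ι ''ᵁ Ω.ι ⁻¹ᵁ D.DPl hU e ≤ D.DPl hU e := by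
        rintro _ ⟨z, hz, rfl⟩; exact hz
      have h2 := (D.gen_sec hU e).res hle
      unfold PData.sec at h2
      rw [res_res] at h2
      refine Eq.mp (congrArg (Gen _) ?_) h2
      exact (res_res himg (Ω.ι.image_mono le_top) _).symm
  refine ⟨0, DCohLib.secHom _ σ ≫ (AmpleLib.powOne _).inv, ?_⟩
  rw [show (AmpleLib.powOne (O1.restrict Ω.ι)).inv = (AmpleLib.powOne (O1.restrict Ω.ι)).symm.hom from rfl,
    genLocus_comp_iso, heq]
  refine ⟨hxe, ?_⟩
  rw [← Scheme.Hom.isAffineOpen_iff_of_isOpenImmersion Ω.ι, Scheme.Hom.image_preimage_eq_opensRange_inf,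
    Scheme.Opens.opensRange_ι, inf_eq_right.2 hDΩ]
  exact D.isAffineOpen_DPl hU e

include D in
/-- The inverse image of `O(1)` along an embedding is relatively ample. -/
theorem isRelAmple_pullback {f : X ⟶ Y} [QuasiCompact f] (g : X ⟶ P) (hg : g ≫ p = f)
    (hemb : Topology.IsInducing g.base) : RelAmple.IsRelAmple f ((Scheme.Modules.pullback g).obj O1) := by
  refine ⟨inferInstance, fun V => ?_⟩
  have hc : IsCompact ((f ⁻¹ᵁ V.1 : X.Opens) : Set X) := f.isCompact_preimage V.2.isCompact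
  obtain ⟨t, ht⟩ := hc.elim_finite_subcover (fun e => ((g ⁻¹ᵁ D.DPl V.2 e : X.Opens) : Set X))
    (fun e => (g ⁻¹ᵁ D.DPl V.2 e).isOpen) (fun x hx => by
      have hp : p (g x) ∈ V.1 := (congrArg (fun k => k x) hg).symm ▸ hx
      obtain ⟨e, he⟩ := D.cover V.2 hp
      exact Set.mem_iUnion.2 ⟨e, he⟩)
  have hΩ : g ⁻¹ᵁ (⨆ e ∈ t, D.DPl V.2 e) = f ⁻¹ᵁ V.1 := by
    refine le_antisymm (fun x hx => ?_) fun x hx => ?_
    · have h1 : g x ∈ p ⁻¹ᵁ V.1 := (iSup₂_le fun e _ => D.DPl_le V.2 e : (⨆ e ∈ t, D.DPl V.2 e) ≤ p ⁻¹ᵁ V.1) hx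
      show f x ∈ V.1
      rw [← congrArg (fun k => k x) hg]
      exact h1
    · obtain ⟨e, het, he⟩ := Set.mem_iUnion₂.1 (ht hx)
      exact Opens.mem_iSup.2 ⟨e, Opens.mem_iSup.2 ⟨het, he⟩⟩
  have := ampleOn_pullback_of_isInducing (L := O1) g hemb (W := ⨆ e ∈ t, D.DPl V.2 e) (hΩ ▸ hc) (D.ampleOn_biUnion V.2 t)
  rw [hΩ] at this
  exact this

end PData

theorem isRelAmple_of_isRelVeryAmple {f : X ⟶ Y} [QuasiCompact f] {L : X.Modules}
    (h : RelProj.IsRelVeryAmple f L) : RelAmple.IsRelAmple f L := by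
  obtain ⟨E, P, p, O1, φ, D, i, hi, hip, ⟨e⟩⟩ := exists_pdata h
  have hA := D.isRelAmple_pullback i hip i.isEmbedding.isInducing
  refine ⟨inferInstance, fun V => ?_⟩
  exact isAmple_of_iso ((Scheme.Modules.restrictFunctor _).mapIso e.symm) (hA.2 V)

end Groth.Agent.ProjBundleLib
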