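import Groth.Agent.ProjBundleLib.Tensor
import Groth.Agent.AmpleLib.RelLocal
import Groth.Agent.QCohLib.Push
import Groth.Agent.S8259

/-! The morphism to the bundle of a large module is an immersion when this holds locally for smaller ones. -/

set_option autoImplicit false
set_option linter.style.haveILetI false
set_option backward.isDefEq.respectTransparency false

universe u

open CategoryTheory CategoryTheory.Limits AlgebraicGeometry TopologicalSpace Opposite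
open Groth.Agent.ParaFLib Groth.Agent.PullbackMod

noncomputable section

namespace Groth.Agent.ProjBundleLib

variable {X Y P X₁ Y₁ P₁ : Scheme.{u}} {g : X ⟶ Y} {L : X.Modules} {p : P ⟶ Y} {E : Y.Modules} {O1 : P.Modules}
  {φ : E ⟶ (Scheme.Modules.pushforward p).obj O1} {g₁ : X₁ ⟶ Y₁} {p₁ : P₁ ⟶ Y₁} {E₁ : Y₁.Modules} {O₁ : P₁.Modules}
  {φ₁ : E₁ ⟶ (Scheme.Modules.pushforward p₁).obj O₁}

/-- On a standard open of the large bundle, the morphism is an immersion if the small one is. -/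
theorem isImmersion_morphismRestrict (D : PData p E O1 φ) (D₁ : PData p₁ E₁ O₁ φ₁)
    {σ : E ⟶ (Scheme.Modules.pushforward g).obj L} {r : X ⟶ P} (hr : Compat φ σ (𝟙 X) r)
    (j : X₁ ⟶ X) [IsOpenImmersion j] {σ₁ : E₁ ⟶ (Scheme.Modules.pushforward g₁).obj (L.restrict j)}
    {r₁ : X₁ ⟶ P₁} (hr₁ : Compat φ₁ σ₁ (𝟙 X₁) r₁) [IsImmersion r₁]
    {U : Y.Opens} (hU : IsAffineOpen U) {U₁ : Y₁.Opens} (hU₁ : IsAffineOpen U₁)
    (hj1 : j ''ᵁ (g₁ ⁻¹ᵁ U₁) ≤ g ⁻¹ᵁ U)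
    (ρb : Γ(Y₁, U₁) →+* Γ(Y, U)) (μ : Γ(E₁, U₁) →+ Γ(E, U)) (hμs : ∀ a f, μ (a • f) = ρb a • μ f)
    (hrel : ∀ f, L.presheaf.map (homOfLE hj1).op (σ.app U (μ f)) =
      (show Γ(L, j ''ᵁ (g₁ ⁻¹ᵁ U₁)) from σ₁.app U₁ f))
    (e₀ : Γ(E₁, U₁)) (hj2 : r ⁻¹ᵁ D.DPl hU (μ e₀) ≤ j ''ᵁ (g₁ ⁻¹ᵁ U₁)) :
    IsImmersion (r ∣_ D.DPl hU (μ e₀)) := by
  let O := D.DPl hU (μ e₀)
  let V := r ⁻¹ᵁ O
  let V₁ := j ⁻¹ᵁ V
  have hO : O ≤ p ⁻¹ᵁ U := D.DPl_le hU _
  have hp : ∀ x, p (r x) = g x := fun x => congrArg (fun f => f x) (hr.1.trans (Category.id_comp g))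
  have hVU : V ≤ g ⁻¹ᵁ U := fun x hx => by show g x ∈ U; rw [← hp]; exact hO hx
  have hV₁U : V₁ ≤ g₁ ⁻¹ᵁ U₁ := fun x hx => by
    obtain ⟨y, hy, e⟩ := hj2 hx
    exact j.isOpenEmbedding.injective e ▸ hy
  have hjV : j ''ᵁ V₁ ≤ V := by rintro _ ⟨x, hx, rfl⟩; exact hx
  -- `σ(μ e₀)` generates on `V`
  have hb : ∀ x (hx : x ∈ V), Function.Bijective fun c : X.presheaf.stalk x => c • germφ σ x (hVU hx) (μ e₀) :=
    fun x hx => (hr.2 U (μ e₀) x (hO hx) (hVU hx)).1.1 (D.bijective_germφ hU (μ e₀) hx)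
  have hgen : Gen V (L.presheaf.map (homOfLE hVU).op (σ.app U (μ e₀))) := AmpleLib.gen_of_germ fun x hx => by
    erw [TopCat.Presheaf.germ_res_apply L.presheaf (homOfLE hVU) x hx]
    exact hb x hx
  -- restricted to `V₁`
  have hres : ∀ f, (L.restrict j).presheaf.map (homOfLE hV₁U).op (σ₁.app U₁ f) =
      (show Γ(L.restrict j, V₁) from L.presheaf.map (homOfLE hjV).op (L.presheaf.map (homOfLE hVU).op (σ.app U (μ f)))) := fun f => by
    show L.presheaf.map (homOfLE (j.image_mono hV₁U)).op (show Γ(L, j ''ᵁ (g₁ ⁻¹ᵁ U₁)) from σ₁.app U₁ f) = _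
    rw [← hrel, res_res, res_res]
  have hgen₁ : Gen V₁ ((L.restrict j).presheaf.map (homOfLE hV₁U).op (σ₁.app U₁ e₀)) := by
    rw [hres]
    exact (AmpleLib.gen_restrict_iff j L V₁ _).2 (hgen.res hjV)
  have hb₁ : ∀ x (hx : x ∈ V₁),
      Function.Bijective fun c : X₁.presheaf.stalk x => c • germφ σ₁ x (hV₁U hx) e₀ := fun x hx => by
    have := hgen₁.bijective_germ x hx
    erw [TopCat.Presheaf.germ_res_apply] at this
    exact this
  have hp₁ : ∀ x, p₁ (r₁ x) = g₁ x := fun x => congrArg (fun f => f x) (hr₁.1.trans (Category.id_comp g₁))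
  have hle : V₁ ≤ r₁ ⁻¹ᵁ D₁.DPl hU₁ e₀ := fun x hx => by
    have hy : p₁ (r₁ x) ∈ U₁ := (hp₁ x).symm ▸ hV₁U hx
    exact (D₁.mem_DPl_iff hU₁ e₀ hy).2 ((hr₁.2 U₁ e₀ x hy (hV₁U hx)).1.2 (hb₁ x hx))
  -- the projection of the standard open
  let c : Γ(E₁, U₁) →+ Γ(P, O) :=
    { toFun := fun f => D.coord hU (μ e₀) (μ f)
      map_zero' := by
        have h := D.coord_add hU (μ e₀) 0 0
        rw [add_zero] at h
        rw [map_zero]
        simpa using h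
      map_add' := fun a b => by rw [map_add, PData.coord_add] }
  obtain ⟨θ, hθ⟩ := D₁.exists_hom hU₁ e₀ ((p.appLE U O hO).hom.comp ρb) c
    (fun a f => by show D.coord hU _ _ = _; rw [hμs, PData.coord_smul]; rfl)
    (D.coord_self hU _)
  let A : Γ(P₁, D₁.DPl hU₁ e₀) ⟶ Γ(P, O) := CommRingCat.ofHom θ
  let π := O.toSpecΓ ≫ Spec.map A ≫ (D₁.isAffineOpen_DPl hU₁ e₀).fromSpec
  have key : (j ∣_ V) ≫ (r ∣_ O) ≫ π = V₁.ι ≫ r₁ := by
    rw [ι_comp_eq r₁ (D₁.isAffineOpen_DPl hU₁ e₀) hle, ← reassoc_of% (Scheme.Opens.toSpecΓ_naturality r O),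
      ← reassoc_of% (Scheme.Opens.toSpecΓ_naturality j V), ← Spec.map_comp_assoc, ← Spec.map_comp_assoc]
    congr 3
    refine CommRingCat.hom_ext (RingHom.eq_of_eqOn_set_dense (D₁.closure_coord hU₁ e₀) (Set.eqOn_range.2 (funext fun f => ?_)))
    show j.app V (r.app O (θ (D₁.coord hU₁ e₀ f))) = r₁.appLE (D₁.DPl hU₁ e₀) V₁ hle (D₁.coord hU₁ e₀ f)
    rw [hθ]
    show j.app V (r.app O (D.coord hU (μ e₀) (μ f))) = _
    -- the equation on `X`
    have eqX : r.app O (D.coord hU (μ e₀) (μ f)) • L.presheaf.map (homOfLE hVU).op (σ.app U (μ e₀)) =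
        L.presheaf.map (homOfLE hVU).op (σ.app U (μ f)) := by
      refine TopCat.Presheaf.section_ext (⟨L.presheaf, L.isSheaf⟩ : TopCat.Sheaf Ab X) V _ _ fun x hx => ?_
      obtain ⟨lam, hlam⟩ := (hb x hx).2 (germφ σ x (hVU hx) (μ f))
      have e1 := (hr.2 U (μ e₀) x (hO hx) (hVU hx)).2 (μ f) _ lam (hb x hx) (D.germφ_eq hU (μ e₀) (μ f) hx).symm hlam
      rw [germ_stalkMap_congr r (le_refl V) x hx, Scheme.Hom.appLE_eq_app, Scheme.Hom.stalkMap_id] at e1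
      show L.presheaf.germ V x hx (_ • _) = L.presheaf.germ V x hx _
      rw [germ_smul' x hx, e1]
      erw [TopCat.Presheaf.germ_res_apply L.presheaf (homOfLE hVU) x hx,
        TopCat.Presheaf.germ_res_apply L.presheaf (homOfLE hVU) x hx]
      exact hlam
    refine (hgen₁ V₁ le_rfl).1 ?_
    simp only [ParaFLib.res_self]
    refine (?_ : _ = (L.restrict j).presheaf.map (homOfLE hV₁U).op (σ₁.app U₁ f)).trans ?_
    · rw [hres, hres, ← eqX, L.map_smul]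
      refine congrArg (fun a : Γ(X, j ''ᵁ V₁) => a • L.presheaf.map (homOfLE hjV).op
        (L.presheaf.map (homOfLE hVU).op (σ.app U (μ e₀)))) ?_
      exact congr(($(Scheme.Hom.app_appIso_inv j V)).hom (r.app O (D.coord hU (μ e₀) (μ f))))
    · refine TopCat.Presheaf.section_ext (⟨(L.restrict j).presheaf, (L.restrict j).isSheaf⟩ : TopCat.Sheaf Ab X₁) V₁ _ _ fun x hx => ?_
      obtain ⟨lam, hlam⟩ := (hb₁ x hx).2 (germφ σ₁ x (hV₁U hx) f)
      have e2 := (hr₁.2 U₁ e₀ x (D₁.DPl_le hU₁ e₀ (hle hx)) (hV₁U hx)).2 f _ lam (hb₁ x hx)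
        (D₁.germφ_eq hU₁ e₀ f (hle hx)).symm hlam
      rw [germ_stalkMap_congr r₁ hle x hx, Scheme.Hom.stalkMap_id] at e2
      show (L.restrict j).presheaf.germ V₁ x hx _ = (L.restrict j).presheaf.germ V₁ x hx (_ • _)
      rw [germ_smul' x hx, e2]
      erw [TopCat.Presheaf.germ_res_apply (L.restrict j).presheaf (homOfLE hV₁U) x hx,
        TopCat.Presheaf.germ_res_apply (L.restrict j).presheaf (homOfLE hV₁U) x hx]
      exact hlam.symm
  haveI : IsIso (j ∣_ V) := by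
    haveI : Surjective (j ∣_ V) := ⟨fun x => by
      obtain ⟨y, hy, e⟩ := hj2 x.2
      refine ⟨⟨y, Eq.mpr (congrArg (· ∈ V) e) x.2⟩, V.ι.isOpenEmbedding.injective ?_⟩
      show ((j ∣_ V) ≫ V.ι) _ = x.1
      rw [morphismRestrict_ι]
      exact e⟩
    haveI : Epi (j ∣_ V).base := (TopCat.epi_iff_surjective _).2 (j ∣_ V).surjective
    exact IsOpenImmersion.isIso _
  haveI : IsImmersion ((j ∣_ V) ≫ (r ∣_ O) ≫ π) := by rw [key]; infer_instance
  haveI : IsImmersion ((r ∣_ O) ≫ π) := by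
    rw [← IsIso.inv_hom_id_assoc (j ∣_ V) ((r ∣_ O) ≫ π)]; infer_instance
  exact IsImmersion.of_comp (r ∣_ O) π

end Groth.Agent.ProjBundleLib

namespace Groth.Agent.ProjBundleLib

variable {X Y : Scheme.{u}} {q : X ⟶ Y} {L : X.Modules}

/-- A relatively very ample module makes the morphism separated. -/
theorem isSeparated_of_isRelVeryAmple (h : RelProj.IsRelVeryAmple q L) : IsSeparated q := by
  obtain ⟨E, hE, S, j, hj, P, p, chart, hP, O1, lam, hO1, i, hi, hip, -⟩ := h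
  haveI := Groth.Agent.S8259.result S p chart hP
  haveI : IsSeparated i := inferInstance
  rw [← hip]
  infer_instance

/-- The canonical morphism into the bundle of the direct image is an immersion when this holds locally. -/
theorem canonical_of_locally (hL : PicF.IsInvertible L)
    (hloc : ∀ x : X, ∃ U : Y.Opens, IsAffineOpen U ∧ q x ∈ U ∧
      RelProj.IsRelVeryAmple (q ∣_ U) (L.restrict (q ⁻¹ᵁ U).ι))
    {P : Scheme.{u}} {p : P ⟶ Y} {O1 : P.Modules}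
    {φ : (Scheme.Modules.pushforward q).obj L ⟶ (Scheme.Modules.pushforward p).obj O1}
    (D : PData p ((Scheme.Modules.pushforward q).obj L) O1 φ) :
    Gens (𝟙 ((Scheme.Modules.pushforward q).obj L)) ∧ ∀ r : X ⟶ P,
      Compat φ (𝟙 ((Scheme.Modules.pushforward q).obj L)) (𝟙 X) r → IsImmersion r := by
  have key : ∀ x : X, ∃ (U : Y.Opens) (hU : IsAffineOpen U) (te : Γ((Scheme.Modules.pushforward q).obj L, U))
      (hx : q x ∈ U), (Function.Bijective fun c : X.presheaf.stalk x =>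
        c • germφ (𝟙 ((Scheme.Modules.pushforward q).obj L)) x hx te) ∧
      ∀ r : X ⟶ P, Compat φ (𝟙 ((Scheme.Modules.pushforward q).obj L)) (𝟙 X) r → IsImmersion (r ∣_ D.DPl hU te) := fun x => by
    obtain ⟨U, hU, hxU, hva⟩ := hloc x
    haveI : IsAffine (U : Scheme.{u}) := hU
    obtain ⟨E₁, P₁, p₁, O₁, φ₁, D₁, i, hi, hip, ⟨e⟩⟩ := exists_pdata hva
    let X₁ : Scheme.{u} := (q ⁻¹ᵁ U : X.Opens)
    let g₁ : X₁ ⟶ (U : Scheme.{u}) := q ∣_ U
    let σ₁ : E₁ ⟶ (Scheme.Modules.pushforward g₁).obj (L.restrict (q ⁻¹ᵁ U).ι) := sigma (pullAdj hip φ₁ ≫ e.inv)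
    have hc : Compat φ₁ σ₁ (𝟙 X₁) i := D₁.compat_of_iso _ hip e.symm rfl
    have hU₁ : IsAffineOpen (⊤ : (U : Scheme.{u}).Opens) := isAffineOpen_top _
    let x₁ : X₁ := ⟨x, hxU⟩
    have hy₁ : p₁ (i x₁) ∈ (⊤ : (U : Scheme.{u}).Opens) := trivial
    obtain ⟨e₀, he₀⟩ := D₁.cover hU₁ hy₁
    have hj : (q ⁻¹ᵁ U).ι ''ᵁ (g₁ ⁻¹ᵁ ⊤) = q ⁻¹ᵁ U := (q ⁻¹ᵁ U).ι_image_top
    let μ : Γ(E₁, ⊤) →+ Γ((Scheme.Modules.pushforward q).obj L, U) :=
      (L.presheaf.map (homOfLE hj.ge).op).hom.comp (σ₁.app ⊤).hom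
    have hμs : ∀ (a : Γ((U : Scheme.{u}), ⊤)) (f : Γ(E₁, ⊤)), μ (a • f) = U.topIso.hom a • μ f := fun a f => by
      show L.presheaf.map (homOfLE hj.ge).op (σ₁.app ⊤ (a • f)) = _
      rw [show σ₁.app ⊤ (a • f) = a • σ₁.app ⊤ f from Scheme.Modules.Hom.app_smul σ₁ a f]
      refine (L.map_smul (homOfLE hj.ge) (((q ⁻¹ᵁ U).ι.appIso (g₁ ⁻¹ᵁ ⊤)).inv (g₁.app ⊤ a))
        (show Γ(L, (q ⁻¹ᵁ U).ι ''ᵁ (g₁ ⁻¹ᵁ ⊤)) from σ₁.app ⊤ f)).trans ?_
      refine congrArg (fun b : Γ(X, q ⁻¹ᵁ U) => b •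
        L.presheaf.map (homOfLE hj.ge).op (show Γ(L, (q ⁻¹ᵁ U).ι ''ᵁ (g₁ ⁻¹ᵁ ⊤)) from σ₁.app ⊤ f)) ?_
      show _ = q.app U (U.topIso.hom a)
      have : g₁.app ⊤ ≫ ((q ⁻¹ᵁ U).ι.appIso (g₁ ⁻¹ᵁ ⊤)).inv ≫ X.presheaf.map (homOfLE hj.ge).op =
          U.topIso.hom ≫ q.app U := by
        rw [← Scheme.Hom.appLE_eq_app, ← Scheme.Hom.appLE_eq_app, morphismRestrict_appLE, Scheme.Opens.ι_appIso]
        show Scheme.Hom.appLE q _ _ _ ≫ 𝟙 _ ≫ X.presheaf.map _ = _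
        rw [Category.id_comp, Scheme.Opens.topIso_hom, Scheme.Hom.map_appLE, Scheme.Hom.appLE_map]
      exact congr(($this).hom a)
    have hrel : ∀ f, L.presheaf.map (homOfLE hj.le).op
        ((𝟙 ((Scheme.Modules.pushforward q).obj L) : _ ⟶ _).app U (μ f)) =
        (show Γ(L, (q ⁻¹ᵁ U).ι ''ᵁ (g₁ ⁻¹ᵁ ⊤)) from σ₁.app ⊤ f) := fun f => by
      show L.presheaf.map (homOfLE hj.le).op (L.presheaf.map (homOfLE hj.ge).op _) = _
      rw [ParaFLib.res_res]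
      exact ParaFLib.res_self _ _
    refine ⟨U, hU, μ e₀, hxU, ?_, fun r hr => isImmersion_morphismRestrict D D₁ hr (q ⁻¹ᵁ U).ι hc hU hU₁
      hj.le U.topIso.hom.hom μ hμs hrel e₀ (fun z hz => hj.ge (show q z ∈ U from
        (show p (r z) = q z from congrArg (fun f => f z) (hr.1.trans (Category.id_comp q))) ▸ D.DPl_le hU _ hz))⟩
    have hb₁ : Function.Bijective fun c : X₁.presheaf.stalk x₁ => c • germφ σ₁ x₁ (W := ⊤) trivial e₀ :=
      (hc.2 ⊤ e₀ x₁ hy₁ trivial).1.1 (D₁.bijective_germφ hU₁ e₀ he₀)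
    obtain ⟨W, ε, hxW, hε⟩ := exists_gen_nhd hL x
    let W₁ := (q ⁻¹ᵁ U).ι ⁻¹ᵁ W
    have hW₁ : (q ⁻¹ᵁ U).ι ''ᵁ W₁ ≤ W := by rintro _ ⟨z, hz, rfl⟩; exact hz
    have hε₁ := (AmpleLib.gen_restrict_iff (q ⁻¹ᵁ U).ι L W₁ _).2 (hε.res hW₁)
    obtain ⟨a, ha⟩ := (hε₁ W₁ le_rfl).2
      ((L.restrict (q ⁻¹ᵁ U).ι).presheaf.map (homOfLE (le_top : W₁ ≤ g₁ ⁻¹ᵁ ⊤)).op (σ₁.app ⊤ e₀))
    simp only [ParaFLib.res_self] at ha
    have hu : IsUnit (X₁.presheaf.germ W₁ x₁ hxW a) := by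
      rw [← AmpleLib.bijective_smul_iff (hε₁.bijective_germ x₁ hxW)]
      have h1 := congrArg ((L.restrict (q ⁻¹ᵁ U).ι).presheaf.germ W₁ x₁ hxW) ha
      rw [germ_smul' x₁ hxW] at h1
      erw [TopCat.Presheaf.germ_res_apply (L.restrict (q ⁻¹ᵁ U).ι).presheaf] at h1
      simp only [h1]
      exact hb₁
    let Q := X₁.basicOpen a
    have hxQ : x₁ ∈ Q := (Scheme.mem_basicOpen _ a x₁ hxW).2 hu
    have hgQ : Gen Q ((L.restrict (q ⁻¹ᵁ U).ι).presheaf.map (homOfLE (le_top : Q ≤ g₁ ⁻¹ᵁ ⊤)).op (σ₁.app ⊤ e₀)) := by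
      have h1 := (hε₁.res (X₁.basicOpen_le a)).smul (RingedSpace.isUnit_res_basicOpen X₁.toRingedSpace a)
      erw [← (L.restrict (q ⁻¹ᵁ U).ι).map_smul, ha, ParaFLib.res_res] at h1
      exact h1
    have h2 := ((AmpleLib.gen_restrict_iff (q ⁻¹ᵁ U).ι L Q _).1 hgQ).bijective_germ x ⟨x₁, hxQ, rfl⟩
    show Function.Bijective fun c : X.presheaf.stalk x =>
      c • L.presheaf.germ (q ⁻¹ᵁ U) x hxU (L.presheaf.map (homOfLE hj.ge).op _)
    rw [TopCat.Presheaf.germ_res_apply L.presheaf (homOfLE hj.ge) x hxU]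
    erw [TopCat.Presheaf.germ_res_apply L.presheaf] at h2
    exact h2
  choose U hU te hxU hte himm using key
  refine ⟨fun x => ⟨U x, hxU x, te x, hte x⟩, fun r hr => ?_⟩
  exact isImmersion_of_cover r (fun x : X => D.DPl (hU x) (te x))
    (fun x => ⟨x, (D.mem_DPl_iff (hU x) (te x)
      (show p (r x) ∈ U x from (congrArg (fun f => f x) (hr.1.trans (Category.id_comp q))).symm ▸ hxU x)).2
      ((hr.2 (U x) (te x) x _ (hxU x)).1.2 (hte x))⟩)
    fun x => himm x r hr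

/-- If the module is very ample over the members of a cover of the base, it is so. -/
theorem isRelVeryAmple_of_locally [QuasiCompact q] (hL : PicF.IsInvertible L)
    (hloc : ∀ x : X, ∃ U : Y.Opens, IsAffineOpen U ∧ q x ∈ U ∧
      RelProj.IsRelVeryAmple (q ∣_ U) (L.restrict (q ⁻¹ᵁ U).ι)) [QuasiSeparated q] :
    ∃ (P : Scheme.{u}) (p : P ⟶ Y) (O1 : P.Modules)
      (φ : (Scheme.Modules.pushforward q).obj L ⟶ (Scheme.Modules.pushforward p).obj O1)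
      (_ : PData p ((Scheme.Modules.pushforward q).obj L) O1 φ) (r : X ⟶ P),
      Compat φ (𝟙 ((Scheme.Modules.pushforward q).obj L)) (𝟙 X) r ∧ IsImmersion r ∧
        RelProj.IsRelVeryAmple q L := by
  haveI := InvExt.isQCoh_of_isInvertible hL
  obtain ⟨P, p, O1, φ, ⟨D⟩⟩ := exists_bundle (QCohLib.isQCoh_pushforward L q)
  obtain ⟨hG, himm⟩ := canonical_of_locally hL hloc D
  obtain ⟨r, hr, -⟩ := D.existsUnique_compat_of_gens hL hG
  have hri := himm r hr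
  obtain ⟨hrq, τ, -⟩ := D.exists_iso_of_compat
    (((Scheme.Modules.pullbackPushforwardAdjunction q).homEquiv _ _).symm (𝟙 ((Scheme.Modules.pushforward q).obj L))) (r := r)
    (by simpa only [sigma, Equiv.apply_symm_apply] using hr)
  exact ⟨P, p, O1, φ, D, r, hr, hri, isRelVeryAmple_of_pdata D r hrq τ.symm⟩

/-- Very ampleness holds near every point of the base. -/
theorem locally_of_isRelVeryAmple (h : RelProj.IsRelVeryAmple q L) (x : X) :
    ∃ U : Y.Opens, IsAffineOpen U ∧ q x ∈ U ∧ RelProj.IsRelVeryAmple (q ∣_ U) (L.restrict (q ⁻¹ᵁ U).ι) := by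
  obtain ⟨_, ⟨U, hU, rfl⟩, hxU, -⟩ :=
    Y.isBasis_affineOpens.exists_subset_of_mem_open (Set.mem_univ (q x)) isOpen_univ
  exact ⟨U, hU, hxU, isRelVeryAmple_of_iso ((Scheme.Modules.restrictFunctorIsoPullback _).app L)
    (isRelVeryAmple_baseChange (isPullback_morphismRestrict q U).flip h)⟩

theorem isRelVeryAmple_iff_of_cover [QuasiCompact q] (hL : PicF.IsInvertible L) {ι : Type u} (U : ι → Y.Opens)
    (hU : ⨆ i, U i = ⊤) :
    RelProj.IsRelVeryAmple q L ↔ ∀ i, RelProj.IsRelVeryAmple (q ∣_ U i) (L.restrict (q ⁻¹ᵁ U i).ι) := by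
  have fwd : ∀ {A B : Scheme.{u}} (f : A ⟶ B) (M : A.Modules) (V : B.Opens), RelProj.IsRelVeryAmple f M →
      RelProj.IsRelVeryAmple (f ∣_ V) (M.restrict (f ⁻¹ᵁ V).ι) := fun f M V h =>
    isRelVeryAmple_of_iso ((Scheme.Modules.restrictFunctorIsoPullback _).app M)
      (isRelVeryAmple_baseChange (isPullback_morphismRestrict f V).flip h)
  refine ⟨fun h i => fwd q L (U i) h, fun h => ?_⟩
  haveI : IsSeparated q := (IsZariskiLocalAtTarget.iff_of_iSup_eq_top (P := @IsSeparated) U hU).2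
    fun i => isSeparated_of_isRelVeryAmple (h i)
  obtain ⟨P, p, O1, φ, D, r, -, -, hva⟩ := isRelVeryAmple_of_locally (q := q) hL fun x => by
    obtain ⟨i, hi⟩ := Opens.mem_iSup.1 (hU.ge (Set.mem_univ (q x)))
    obtain ⟨_, ⟨V, hV, rfl⟩, hxV, hVU⟩ := Y.isBasis_affineOpens.exists_subset_of_mem_open hi (U i).2
    refine ⟨V, hV, hxV, ?_⟩
    have hle : q ⁻¹ᵁ V ≤ q ⁻¹ᵁ U i := q.preimage_mono hVU
    have sq : IsPullback (X.homOfLE hle) (q ∣_ V) (q ∣_ U i) (Y.homOfLE hVU) :=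
      IsPullback.of_right (by rw [Scheme.homOfLE_ι, Scheme.homOfLE_ι]; exact (isPullback_morphismRestrict q V).flip)
        (by rw [← cancel_mono (U i).ι]; simp) (isPullback_morphismRestrict q (U i)).flip
    exact isRelVeryAmple_of_iso
      ((Scheme.Modules.restrictFunctorIsoPullback _).app L ≪≫ (Scheme.Modules.pullbackCongr (X.homOfLE_ι hle).symm).app L ≪≫
        ((Scheme.Modules.pullbackComp (X.homOfLE hle) (q ⁻¹ᵁ U i).ι).app L).symm ≪≫
        (Scheme.Modules.pullback (X.homOfLE hle)).mapIso ((Scheme.Modules.restrictFunctorIsoPullback _).app L).symm)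
      (isRelVeryAmple_baseChange sq (h i))
  exact hva

end Groth.Agent.ProjBundleLib
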