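import Groth.Agent.ProjBundleLib.Chart
import Groth.Agent.ProjRed.Basic
import Groth.Agent.S8263

/-! Closed immersions of `Proj`s from surjections in positive degrees. -/

set_option autoImplicit false
set_option linter.style.haveILetI false
set_option backward.isDefEq.respectTransparency false

universe u

open CategoryTheory CategoryTheory.Limits AlgebraicGeometry TopologicalSpace Opposite
open scoped HomogeneousIdeal

noncomputable section

namespace Groth.Agent.ProjBundleLib

variable {A B σ τ : Type u} [CommRing A] [SetLike σ A] [AddSubgroupClass σ A] {𝒜 : ℕ → σ} [GradedRing 𝒜]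
  [CommRing B] [SetLike τ B] [AddSubgroupClass τ B] {ℬ : ℕ → τ} [GradedRing ℬ]
  (φ : 𝒜 →+*ᵍ ℬ) (hφ : HomogeneousIdeal.irrelevant ℬ ≤ (HomogeneousIdeal.irrelevant 𝒜).map φ)

theorem away_map_surjective_pos (hs : ∀ n, 0 < n → ∀ b ∈ ℬ n, ∃ a ∈ 𝒜 n, φ a = b) {d : ℕ} (hd : 0 < d) {f : A}
    (hf : f ∈ 𝒜 d) : Function.Surjective (HomogeneousLocalization.Away.map φ f) := by
  intro x
  obtain ⟨n, b, hb, rfl⟩ := HomogeneousLocalization.Away.mk_surjective ℬ (φ.2 hf) x
  have hb' : b * φ f ∈ ℬ ((n + 1) • d) := by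
    rw [succ_nsmul]; exact SetLike.mul_mem_graded hb (φ.2 hf)
  obtain ⟨a, ha, hab⟩ := hs _ (by simpa using hd) _ hb'
  refine ⟨HomogeneousLocalization.Away.mk 𝒜 hf (n + 1) a ha, ?_⟩
  rw [HomogeneousLocalization.Away.map_mk]
  ext
  simp only [HomogeneousLocalization.Away.val_mk, hab]
  rw [Localization.mk_eq_mk_iff, Localization.r_iff_exists]
  exact ⟨1, by simp [pow_succ]; ring⟩

theorem isClosedImmersion_map_pos (hs : ∀ n, 0 < n → ∀ b ∈ ℬ n, ∃ a ∈ 𝒜 n, φ a = b) :
    IsClosedImmersion (Proj.map φ hφ) := by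
  refine IsZariskiLocalAtTarget.of_openCover (Proj.affineOpenCover 𝒜).openCover ?_
  rintro ⟨⟨d, hd⟩, f, hf⟩
  have hpb : IsPullback (Spec.map (CommRingCat.ofHom (HomogeneousLocalization.Away.map φ f)))
      (Proj.awayι ℬ (φ f) (φ.2 hf) hd) (Proj.awayι 𝒜 f hf hd) (Proj.map φ hφ) := by
    refine IsOpenImmersion.isPullback _ _ _ _ (Proj.awayι_comp_map φ hφ hd f hf) ?_
    rw [Proj.opensRange_awayι, Proj.opensRange_awayι]
    exact Proj.map_preimage_basicOpen φ hφ f
  haveI := IsClosedImmersion.spec_of_surjective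
    (CommRingCat.ofHom (HomogeneousLocalization.Away.map φ f)) (away_map_surjective_pos φ hs hd hf)
  change IsClosedImmersion (pullback.snd (Proj.map φ hφ) (Proj.awayι 𝒜 f hf hd))
  rw [← hpb.flip.isoPullback_inv_snd]
  infer_instance

/-- In an algebra generated in degree one, a surjection in degree one is surjective in positive degrees. -/
theorem exists_preimage_pos {𝒞 : ℕ → σ} [GradedRing 𝒞] (ψ : A →+* B)
    (hgen : Subring.closure ((ℬ 0 : Set B) ∪ (ℬ 1 : Set B)) = ⊤)
    (h1 : ∀ b ∈ ℬ 1, ∃ a ∈ 𝒞 1, ψ a = b) (n : ℕ) (hn : 0 < n) (b : B) (hb : b ∈ ℬ n) : ∃ a ∈ 𝒞 n, ψ a = b := by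
  classical
  let M : ℕ → AddSubgroup B := fun m => AddSubgroup.closure {y | ∃ u ∈ ℬ 1, ∃ v ∈ ℬ m, u * v = y}
  have hM : ∀ (m : ℕ) (x : B), x ∈ M m → ∀ (k : ℕ) (c : B), c ∈ ℬ k → x * c ∈ M (m + k) := fun m x hx k c hc => by
    induction hx using AddSubgroup.closure_induction with
    | mem y hy =>
      obtain ⟨u, hu, v, hv, rfl⟩ := hy
      exact AddSubgroup.subset_closure ⟨u, hu, v * c, SetLike.mul_mem_graded hv hc, by ring⟩
    | zero => rw [zero_mul]; exact zero_mem _
    | add y z _ _ hy hz => rw [add_mul]; exact add_mem hy hz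
    | neg y _ hy => rw [neg_mul]; exact neg_mem hy
  have key : ∀ (x : B) (m : ℕ), (DirectSum.decompose ℬ x (m + 1) : B) ∈ M m := fun x => by
    have hx : x ∈ Subring.closure ((ℬ 0 : Set B) ∪ (ℬ 1 : Set B)) := by rw [hgen]; trivial
    induction hx using Subring.closure_induction with
    | mem y hy =>
      intro m
      rcases hy with h | h
      · rw [DirectSum.decompose_of_mem_ne ℬ h (Nat.succ_ne_zero m).symm]; exact zero_mem _
      · rcases m with _ | m
        · rw [DirectSum.decompose_of_mem_same ℬ h]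
          exact AddSubgroup.subset_closure ⟨y, h, 1, SetLike.GradedOne.one_mem, mul_one _⟩
        · rw [DirectSum.decompose_of_mem_ne ℬ h (by omega)]; exact zero_mem _
    | zero => intro m; simp
    | one =>
      intro m
      rw [DirectSum.decompose_of_mem_ne ℬ SetLike.GradedOne.one_mem (Nat.succ_ne_zero m).symm]; exact zero_mem _
    | add y z _ _ hy hz =>
      intro m
      rw [DirectSum.decompose_add, DirectSum.add_apply, AddMemClass.coe_add]; exact add_mem (hy m) (hz m)
    | neg y _ hy =>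
      intro m
      rw [DirectSum.decompose_neg]
      show ((-(DirectSum.decompose ℬ y (m + 1)) : _) : B) ∈ M m
      rw [NegMemClass.coe_neg]; exact neg_mem (hy m)
    | mul y z _ _ hy hz =>
      intro m
      rw [DirectSum.decompose_mul, DirectSum.coe_mul_apply_eq_sum_antidiagonal]
      refine AddSubgroup.sum_mem _ fun ij hij => ?_
      obtain ⟨i, k⟩ := ij
      have hik : i + k = m + 1 := Finset.HasAntidiagonal.mem_antidiagonal.1 hij
      rcases i with _ | i
      · obtain rfl : k = m + 1 := by omega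
        rw [mul_comm]
        simpa using hM m _ (hz m) 0 _ (DirectSum.decompose ℬ y 0).2
      · obtain rfl : m = i + k := by omega
        exact hM i _ (hy i) k _ (DirectSum.decompose ℬ z k).2
  induction n generalizing b with
  | zero => exact absurd hn (lt_irrefl 0)
  | succ m ih =>
    rcases Nat.eq_zero_or_pos m with rfl | hm
    · exact h1 b hb
    · have hbM := key b m
      rw [DirectSum.decompose_of_mem_same ℬ hb] at hbM
      clear hb
      induction hbM using AddSubgroup.closure_induction with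
      | mem y hy =>
        obtain ⟨u, hu, v, hv, rfl⟩ := hy
        obtain ⟨a, ha, rfl⟩ := h1 u hu
        obtain ⟨a', ha', rfl⟩ := ih hm v hv
        exact ⟨a * a', by rw [add_comm]; exact SetLike.mul_mem_graded ha ha', map_mul _ _ _⟩
      | zero => exact ⟨0, zero_mem _, map_zero _⟩
      | add y z _ _ hy hz =>
        obtain ⟨a, ha, rfl⟩ := hy
        obtain ⟨a', ha', rfl⟩ := hz
        exact ⟨a + a', add_mem ha ha', map_add _ _ _⟩
      | neg y _ hy =>
        obtain ⟨a, ha, rfl⟩ := hy
        exact ⟨-a, neg_mem ha, map_neg _ _⟩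

end Groth.Agent.ProjBundleLib
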