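import Groth.Agent.ProjBundleLib.Exist
import Groth.Agent.RelSpecLib.SymData
import Groth.Agent.RelProjLib.Exist
import Mathlib.LinearAlgebra.TensorAlgebra.Grading

/-! Graded symmetric algebras and projective bundles of quasi-coherent modules. -/

set_option autoImplicit false
set_option linter.style.haveILetI false
set_option backward.isDefEq.respectTransparency false

universe u

open CategoryTheory CategoryTheory.Limits AlgebraicGeometry TopologicalSpace Opposite
open Groth.Agent.RelSpecLib DirectSum

noncomputable section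

namespace Groth.Agent.ProjBundleLib

section Ring

variable {R M B : Type u} [CommRing R] [AddCommGroup M] [Module R M] [CommRing B] [Algebra R B]

/-- The algebra generated by a linear map, graded by its powers, when it is a symmetric algebra. -/
@[instance_reducible] def gradedAlgebraOfIsSym (f : M →ₗ[R] B) (h : IsSymmetricAlgebra f) :
    GradedAlgebra ((LinearMap.range f ^ ·) : ℕ → Submodule R B) :=
  GradedAlgebra.ofAlgHom _
    (h.lift (DirectSum.lof R ℕ (fun i => ↥(LinearMap.range f ^ i)) 1 ∘ₗ
      f.codRestrict (LinearMap.range f ^ 1) fun m => by simpa only [pow_one] using LinearMap.mem_range_self f m))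
    (h.algHom_ext (LinearMap.ext fun m => by
      show DirectSum.coeAlgHom _ (h.lift _ (f m)) = f m
      rw [IsSymmetricAlgebra.lift_eq, LinearMap.comp_apply, DirectSum.lof_eq_of, DirectSum.coeAlgHom_of]
      rfl))
    fun i x => by
      obtain ⟨x, hx⟩ := x
      dsimp only [DirectSum.lof_eq_of]
      induction hx using Submodule.pow_induction_on_left' with
      | algebraMap r => rw [AlgHom.commutes, DirectSum.algebraMap_apply]; rfl
      | add x y i hx hy ihx ihy =>
        rw [map_add, ihx, ihy, ← map_add]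
        rfl
      | mem_mul m hm i x hx ih =>
        obtain ⟨_, rfl⟩ := hm
        rw [map_mul, ih, IsSymmetricAlgebra.lift_eq, LinearMap.comp_apply, DirectSum.lof_eq_of, DirectSum.of_mul_of]
        exact DirectSum.of_eq_of_gradedMonoid_eq (Sigma.subtype_ext (add_comm _ _) rfl)

/-- Forgetting the scalars of a grading. -/
@[instance_reducible] def gradedRingOfSubmodule (𝒜 : ℕ → Submodule R B) (G : GradedAlgebra 𝒜) :
    GradedRing fun d => (𝒜 d).toAddSubgroup :=
  { one_mem := G.one_mem
    mul_mem := G.mul_mem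
    decompose' := G.decompose'
    left_inv := G.left_inv
    right_inv := G.right_inv }

theorem map_pow_mem {R' M' B' : Type u} [CommRing R'] [AddCommGroup M'] [Module R' M'] [CommRing B'] [Algebra R' B']
    (f : M →ₗ[R] B) (f' : M' →ₗ[R'] B') (ψ : B →+* B')
    (h0 : ∀ r, ψ (algebraMap R B r) ∈ LinearMap.range f' ^ 0) (h1 : ∀ m, ψ (f m) ∈ LinearMap.range f')
    {d : ℕ} {x : B} (hx : x ∈ LinearMap.range f ^ d) : ψ x ∈ LinearMap.range f' ^ d := by
  induction hx using Submodule.pow_induction_on_left' with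
  | algebraMap r => exact h0 r
  | add x y i hx hy ihx ihy => rw [map_add]; exact add_mem ihx ihy
  | mem_mul m hm i x hx ih =>
    obtain ⟨m, rfl⟩ := hm
    rw [map_mul, pow_succ']
    exact Submodule.mul_mem_mul (h1 m) ih

end Ring

variable {S : Scheme.{u}} (A : RelSpec.QCAlg S) {E : S.Modules} (j : E ⟶ A.toModule)

/-- The sections of `E` inside the algebra, linearly. -/
def jlin (U : S.Opens) : letI : Algebra Γ(S, U) (A.presheaf.obj (op U)) := (A.str.app (op U)).hom.toAlgebra
    Γ(E, U) →ₗ[Γ(S, U)] A.presheaf.obj (op U) :=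
  letI : Algebra Γ(S, U) (A.presheaf.obj (op U)) := (A.str.app (op U)).hom.toAlgebra
  { toFun := fun m => jsec A j m
    map_add' := fun m m' => map_add (j.app U).hom m m'
    map_smul' := fun r m => jsec_smul A j r m }

/-- A symmetric algebra with the grading by symmetric powers. -/
def grSym (hE : Coh.IsQCoh E) (hA : RelSpec.IsSymAlg E A j) : RelProj.QCGrAlg S where
  toQCAlg := A
  deg U _ d :=
    letI : Algebra Γ(S, U) (A.presheaf.obj (op U)) := (A.str.app (op U)).hom.toAlgebra
    (LinearMap.range (jlin A j U) ^ d).toAddSubgroup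
  graded U hU :=
    letI : Algebra Γ(S, U) (A.presheaf.obj (op U)) := (A.str.app (op U)).hom.toAlgebra
    haveI := hE
    gradedRingOfSubmodule _ (gradedAlgebraOfIsSym (jlin A j U) (bijective_symEval E hA hU))
  map_mem {U V} hU hV i {d x} hx := by
    letI : Algebra Γ(S, U) (A.presheaf.obj (op U)) := (A.str.app (op U)).hom.toAlgebra
    letI : Algebra Γ(S, V) (A.presheaf.obj (op V)) := (A.str.app (op V)).hom.toAlgebra
    refine map_pow_mem (jlin A j U) (jlin A j V) (A.presheaf.map (homOfLE i).op).hom (fun r => ?_) (fun m => ?_) hx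
    · rw [pow_zero, Submodule.mem_one]
      exact ⟨_, (res_str A i r).symm⟩
    · exact ⟨_, (res_jsec A j i m).symm⟩
  str_mem U hU r := by
    letI : Algebra Γ(S, U) (A.presheaf.obj (op U)) := (A.str.app (op U)).hom.toAlgebra
    show _ ∈ LinearMap.range (jlin A j U) ^ 0
    rw [pow_zero, Submodule.mem_one]
    exact ⟨r, rfl⟩

theorem isGrSymAlg_grSym (hE : Coh.IsQCoh E) (hA : RelSpec.IsSymAlg E A j) :
    RelProj.IsGrSymAlg E (grSym A j hE hA) j :=
  ⟨hA, fun U hU x => by
    letI : Algebra Γ(S, U) (A.presheaf.obj (op U)) := (A.str.app (op U)).hom.toAlgebra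
    show _ ∈ LinearMap.range (jlin A j U) ^ 1
    rw [pow_one]
    exact ⟨x, rfl⟩⟩

theorem exists_isGrSymAlg (hE : Coh.IsQCoh E) :
    ∃ (𝒮 : RelProj.QCGrAlg S) (j : E ⟶ 𝒮.toModule), RelProj.IsGrSymAlg E 𝒮 j :=
  haveI := hE
  ⟨grSym (symAlg E) (symJ E) hE (isSymAlg_symAlg E), symJ E, isGrSymAlg_grSym _ _ hE _⟩

/-- A quasi-coherent module has a projective bundle. -/
theorem exists_bundle (hE : Coh.IsQCoh E) :
    ∃ (P : Scheme.{u}) (p : P ⟶ S) (O1 : P.Modules) (φ : E ⟶ (Scheme.Modules.pushforward p).obj O1),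
      Nonempty (PData p E O1 φ) := by
  obtain ⟨𝒮, j, hj⟩ := exists_isGrSymAlg hE
  obtain ⟨P, p, chart, hP⟩ := RelProjLib.exists_relProj 𝒮
  obtain ⟨O1, lam, hO1⟩ := S8284.result 𝒮 p chart hP 1
  exact ⟨P, p, O1, exists_φ hE hj hP hO1⟩

end Groth.Agent.ProjBundleLib
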