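import Groth.Agent.ProjBundleLib.Factor
import Groth.Agent.AmpleLib.Pullback

/-! Generating families of sections and composition of compatible morphisms. -/

set_option autoImplicit false
set_option linter.style.haveILetI false
set_option backward.isDefEq.respectTransparency false

universe u

open CategoryTheory CategoryTheory.Limits AlgebraicGeometry TopologicalSpace Opposite
open Groth.Agent.ParaFLib Groth.Agent.RelSpecLib Groth.Agent.PullbackMod

noncomputable section

namespace Groth.Agent.ProjBundleLib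

variable {Y P X : Scheme.{u}} {p : P ⟶ Y} {E : Y.Modules} {O1 : P.Modules}
  {φ : E ⟶ (Scheme.Modules.pushforward p).obj O1} {g : X ⟶ Y} {L : X.Modules}

/-- At every point some section of the module gives a generator. -/
def Gens (σ : E ⟶ (Scheme.Modules.pushforward g).obj L) : Prop :=
  ∀ x : X, ∃ (W : Y.Opens) (hx : g x ∈ W) (e : Γ(E, W)),
    Function.Bijective fun c : X.presheaf.stalk x => c • germφ σ x hx e

theorem Gens.epi {σ : E ⟶ (Scheme.Modules.pushforward g).obj L} (h : Gens σ) :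
    Epi (((Scheme.Modules.pullbackPushforwardAdjunction g).homEquiv E L).symm σ) := by
  refine (PullbackMod.epi_iff_stalk _).2 fun x z => ?_
  obtain ⟨W, hx, e, he⟩ := h x
  obtain ⟨c, rfl⟩ := he.2 z
  refine ⟨c • pullStalk g E x (E.presheaf.germ W (g x) hx e), ?_⟩
  rw [LinearMap.map_smul, stalkLin_adjunct g σ x hx e]
  rfl

theorem gens_of_epi (hE : Coh.IsQCoh E) (hL : PicF.IsInvertible L) {σ : E ⟶ (Scheme.Modules.pushforward g).obj L}
    (h : Epi (((Scheme.Modules.pullbackPushforwardAdjunction g).homEquiv E L).symm σ)) :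
    ∀ (x : X) (U : Y.Opens), IsAffineOpen U → ∀ hx : g x ∈ U, ∃ e : Γ(E, U),
      Function.Bijective fun c : X.presheaf.stalk x => c • germφ σ x hx e := fun x U hU hx => by
  obtain ⟨e, he⟩ := exists_gen_at hE hL (((Scheme.Modules.pullbackPushforwardAdjunction g).homEquiv E L).symm σ) x U hU hx
  simp only [sigma, Equiv.apply_symm_apply] at he
  exact ⟨e, he⟩

theorem Gens.affine {σ : E ⟶ (Scheme.Modules.pushforward g).obj L} (h : Gens σ) (hE : Coh.IsQCoh E)
    (hL : PicF.IsInvertible L) : ∀ (x : X) (U : Y.Opens), IsAffineOpen U → ∀ hx : g x ∈ U, ∃ e : Γ(E, U),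
      Function.Bijective fun c : X.presheaf.stalk x => c • germφ σ x hx e := gens_of_epi hE hL h.epi

/-- Changing the target by an isomorphism. -/
theorem germφ_comp {L' : X.Modules} (σ : E ⟶ (Scheme.Modules.pushforward g).obj L) (τ : L ⟶ L')
    {W : Y.Opens} (x : X) (hx : g x ∈ W) (e : Γ(E, W)) :
    germφ (σ ≫ (Scheme.Modules.pushforward g).map τ) x hx e = stalkLin τ x (germφ σ x hx e) :=
  (stalkLin_germ τ x hx _).symm

theorem bijective_smul_comp {x : X} {L' : X.Modules} {τ : L ⟶ L'} [IsIso τ] (m : L.presheaf.stalk x) :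
    (Function.Bijective fun c : X.presheaf.stalk x => c • stalkLin τ x m) ↔
      Function.Bijective fun c : X.presheaf.stalk x => c • m := by
  have hb : Function.Bijective (stalkLin τ x) := (PullbackMod.isIso_iff_stalk τ).1 inferInstance x
  have : (fun c : X.presheaf.stalk x => c • stalkLin τ x m) = stalkLin τ x ∘ fun c => c • m :=
    funext fun c => (LinearMap.map_smul _ c m).symm
  rw [this, Function.Bijective.of_comp_iff' hb]

theorem Compat.of_comp_iso {L' : X.Modules} {σ : E ⟶ (Scheme.Modules.pushforward g).obj L} (τ : L ⟶ L') [IsIso τ]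
    {T : Scheme.{u}} {a : T ⟶ X} {k : T ⟶ P}
    (h : Compat φ (σ ≫ (Scheme.Modules.pushforward g).map τ) a k) : Compat φ σ a k := by
  refine ⟨h.1, fun W e₀ t hy hx => ?_⟩
  obtain ⟨h1, h2⟩ := h.2 W e₀ t hy hx
  rw [germφ_comp, bijective_smul_comp] at h1
  refine ⟨h1, fun e c c' hb hc hc' => h2 e c c' ?_ hc ?_⟩
  · show Function.Bijective fun d : X.presheaf.stalk (a t) => d • germφ (σ ≫ _) (a t) hx e₀
    rw [germφ_comp, bijective_smul_comp]
    exact hb
  · rw [germφ_comp, germφ_comp, ← LinearMap.map_smul]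
    exact congrArg _ hc'

variable (D : PData p E O1 φ)

namespace PData

include D in
/-- There is exactly one morphism compatible with a generating family. -/
theorem existsUnique_compat_of_gens (hL : PicF.IsInvertible L) {σ : E ⟶ (Scheme.Modules.pushforward g).obj L}
    (h : Gens σ) : ∃! r : X ⟶ P, Compat φ σ (𝟙 X) r := by
  haveI := h.epi
  simpa only [sigma, Equiv.apply_symm_apply] using
    existsUnique_compat D hL (((Scheme.Modules.pullbackPushforwardAdjunction g).homEquiv E L).symm σ)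

/-- The quotient pulled back along a morphism. -/
abbrev taut (_D : PData p E O1 φ) {r : X ⟶ P} (hr : r ≫ p = g) :
    E ⟶ (Scheme.Modules.pushforward g).obj ((Scheme.Modules.pullback r).obj O1) := sigma (pullAdj hr φ)

include D in
theorem compat_taut {r : X ⟶ P} (hr : r ≫ p = g) : Compat φ (D.taut hr) (𝟙 X) r :=
  D.compat_of_iso (pullAdj hr φ) hr (Iso.refl _) (Category.comp_id _)

include D in
theorem gens_taut {r : X ⟶ P} (hr : r ≫ p = g) : Gens (D.taut hr) := fun x => by
  obtain ⟨U, hU, e, hy, he⟩ := D.exists_chart_gen (r x)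
  have hx : g x ∈ U := by subst hr; exact hy
  exact ⟨U, hx, e, ((D.compat_taut hr).2 U e x hy hx).1.1 (D.bijective_germφ hU e he)⟩

include D in
theorem gens : Gens φ := fun y => by
  obtain ⟨U, hU, e, hy, he⟩ := D.exists_chart_gen y
  exact ⟨U, hy, e, D.bijective_germφ hU e he⟩

end PData

variable {Y' : Scheme.{u}} (ψ : Y' ⟶ Y)

/-- A map out of the inverse image, seen on the module itself. -/
abbrev down {T : Scheme.{u}} {b : T ⟶ Y'} {M : T.Modules}
    (σ : (Scheme.Modules.pullback ψ).obj E ⟶ (Scheme.Modules.pushforward b).obj M) :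
    E ⟶ (Scheme.Modules.pushforward (b ≫ ψ)).obj M :=
  (Scheme.Modules.pullbackPushforwardAdjunction ψ).homEquiv E _ σ ≫ (Scheme.Modules.pushforwardComp b ψ).hom.app M

/-- The image of a section in the inverse image. -/
abbrev eta {W : Y.Opens} (e : Γ(E, W)) : Γ((Scheme.Modules.pullback ψ).obj E, ψ ⁻¹ᵁ W) :=
  ((Scheme.Modules.pullbackPushforwardAdjunction ψ).unit.app E).app W e

theorem germφ_down {T : Scheme.{u}} {b : T ⟶ Y'} {M : T.Modules}
    (σ : (Scheme.Modules.pullback ψ).obj E ⟶ (Scheme.Modules.pushforward b).obj M) {W : Y.Opens} (t : T)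
    (ht : (b ≫ ψ) t ∈ W) (e : Γ(E, W)) :
    germφ (down ψ σ) t ht e = germφ σ t (W := ψ ⁻¹ᵁ W) ht (eta ψ e) := by
  rw [germφ, germφ, down, Adjunction.homEquiv_unit]
  rfl

theorem Gens.down {T : Scheme.{u}} {b : T ⟶ Y'} {M : T.Modules}
    {σ : (Scheme.Modules.pullback ψ).obj E ⟶ (Scheme.Modules.pushforward b).obj M} (h : Gens σ)
    (hE : Coh.IsQCoh E) : Gens (ProjBundleLib.down ψ σ) := fun t => by
  obtain ⟨W', ht', e', he'⟩ := h t
  obtain ⟨_, ⟨U, hU, rfl⟩, htU, -⟩ :=
    Y.isBasis_affineOpens.exists_subset_of_mem_open (Set.mem_univ (ψ (b t))) isOpen_univ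
  refine ⟨U, htU, ?_⟩
  by_contra hne
  push Not at hne
  let s := ((Scheme.Modules.pullbackPushforwardAdjunction b).homEquiv _ M).symm σ
  have hs : ∀ {W : Y'.Opens} (ht : b t ∈ W) (z : Γ((Scheme.Modules.pullback ψ).obj E, W)),
      stalkLin s t (pullStalk b _ t (((Scheme.Modules.pullback ψ).obj E).presheaf.germ W (b t) ht z)) =
        germφ σ t ht z := fun ht z => stalkLin_adjunct b σ t ht z
  have key : ∀ z, ∃ a ∈ IsLocalRing.maximalIdeal (T.presheaf.stalk t),
      stalkLin s t (pullStalk b _ t z) = a • germφ σ t ht' e' := by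
    refine stalk_induction hE hU htU _ ⟨0, Ideal.zero_mem _, by simp⟩ ?_ ?_
    · rintro x y ⟨i, hi, hx⟩ ⟨i', hi', hy⟩
      exact ⟨i + i', Ideal.add_mem _ hi hi', by rw [map_add, map_add, hx, hy, add_smul]⟩
    · intro c e
      obtain ⟨a, ha⟩ := he'.2 (germφ (ProjBundleLib.down ψ σ) t htU e)
      refine ⟨b.stalkMap t c * a, Ideal.mul_mem_left _ _ ?_, ?_⟩
      · rw [IsLocalRing.mem_maximalIdeal]
        intro hu
        refine hne e ?_
        rw [← ha]
        exact (AmpleLib.bijective_smul_iff he' a).2 hu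
      · rw [pullStalk_smul, LinearMap.map_smul, pullStalk_germ ψ E (b t) htU e]
        erw [hs htU]
        rw [mul_smul]
        exact congrArg (_ • ·) ((germφ_down ψ σ t htU e).symm.trans ha.symm)
  obtain ⟨a, ha, he⟩ := key (((Scheme.Modules.pullback ψ).obj E).presheaf.germ W' (b t) ht' e')
  rw [hs ht'] at he
  have : a = 1 := he'.1 (show a • _ = (1 : T.presheaf.stalk t) • _ by rw [one_smul]; exact he.symm)
  rw [this] at ha
  exact (IsLocalRing.mem_maximalIdeal _).1 ha isUnit_one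

theorem Gens.of_down {T : Scheme.{u}} {b : T ⟶ Y'} {M : T.Modules}
    {σ : (Scheme.Modules.pullback ψ).obj E ⟶ (Scheme.Modules.pushforward b).obj M}
    (h : Gens (ProjBundleLib.down ψ σ)) : Gens σ := fun t => by
  obtain ⟨W, ht, e, he⟩ := h t
  rw [germφ_down] at he
  exact ⟨ψ ⁻¹ᵁ W, ht, eta ψ e, he⟩

/-- Compatible morphisms compose. -/
theorem Compat.comp {P' : Scheme.{u}} {p' : P' ⟶ Y'} {O1' : P'.Modules}
    {φ' : (Scheme.Modules.pullback ψ).obj E ⟶ (Scheme.Modules.pushforward p').obj O1'} {k : P' ⟶ P}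
    (hk : Compat φ (ProjBundleLib.down ψ φ') (𝟙 P') k) {T : Scheme.{u}} {b : T ⟶ Y'} {M : T.Modules}
    {σ : (Scheme.Modules.pullback ψ).obj E ⟶ (Scheme.Modules.pushforward b).obj M} {r : T ⟶ P'}
    (hr : Compat φ' σ (𝟙 T) r) : Compat φ (ProjBundleLib.down ψ σ) (𝟙 T) (r ≫ k) := by
  have e1 : r ≫ p' = b := hr.1.trans (Category.id_comp b)
  have e2 : k ≫ p = p' ≫ ψ := hk.1.trans (Category.id_comp _)
  refine ⟨by rw [Category.id_comp, Category.assoc, e2, reassoc_of% e1], fun W e₀ t hy hx => ?_⟩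
  have hy' : p (k (r t)) ∈ W := hy
  have hm : (p' ≫ ψ) (r t) ∈ W := by rw [← e2]; exact hy
  obtain ⟨h1, h2⟩ := hk.2 W e₀ (r t) hy' hm
  obtain ⟨h3, h4⟩ := hr.2 (ψ ⁻¹ᵁ W) (eta ψ e₀) t hm hx
  simp only [germφ_down] at h1 h2
  refine ⟨?_, fun e c c' hb hc hc' => ?_⟩
  · simp only [germφ_down]
    exact h1.trans h3
  · simp only [germφ_down] at hb hc'
    have hmid : Function.Bijective fun d : P'.presheaf.stalk (r t) => d • germφ φ' (r t) hm (eta ψ e₀) := h3.2 hb
    obtain ⟨c'', hc''⟩ := hmid.2 (germφ φ' (r t) hm (eta ψ e))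
    have a1 := h2 e c c'' hmid hc hc''
    rw [Scheme.Hom.stalkMap_id] at a1
    refine Eq.trans ?_ (h4 (eta ψ e) c'' c' hb hc'' hc')
    show (r ≫ k).stalkMap t c = r.stalkMap t c''
    rw [stalkMap_comp']
    exact congrArg (r.stalkMap t) a1

/-- The compatible morphism into the bundle over the new base. -/
theorem exists_lift {P' : Scheme.{u}} {p' : P' ⟶ Y'} {O1' : P'.Modules}
    {φ' : (Scheme.Modules.pullback ψ).obj E ⟶ (Scheme.Modules.pushforward p').obj O1'}
    (D' : PData p' ((Scheme.Modules.pullback ψ).obj E) O1' φ') {k : P' ⟶ P}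
    (hk : Compat φ (ProjBundleLib.down ψ φ') (𝟙 P') k) (D : PData p E O1 φ) {T : Scheme.{u}} (a : T ⟶ P) (b : T ⟶ Y')
    (w : a ≫ p = b ≫ ψ) : ∃! c : T ⟶ P', c ≫ k = a ∧ c ≫ p' = b := by
  have hL := AmpleLib.isInvertible_pullback a D.isInvertible_O1
  let adj := Scheme.Modules.pullbackPushforwardAdjunction ψ
  let σ : (Scheme.Modules.pullback ψ).obj E ⟶ (Scheme.Modules.pushforward b).obj ((Scheme.Modules.pullback a).obj O1) :=
    (adj.homEquiv E _).symm (D.taut w ≫ (Scheme.Modules.pushforwardComp b ψ).inv.app _)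
  have hσ : ProjBundleLib.down ψ σ = D.taut w := by
    simp only [ProjBundleLib.down, σ, adj, Equiv.apply_symm_apply, Category.assoc, Iso.inv_hom_id_app]
    exact Category.comp_id _
  have hg : Gens σ := Gens.of_down ψ (hσ ▸ D.gens_taut w)
  obtain ⟨c, hc, huniq⟩ := D'.existsUnique_compat_of_gens hL hg
  have hcp : c ≫ p' = b := hc.1.trans (Category.id_comp b)
  have hck : Compat φ (D.taut w) (𝟙 T) (c ≫ k) := hσ ▸ Compat.comp ψ hk hc
  refine ⟨c, ⟨Compat.eq D (hσ := (D.gens_taut w).affine D.hE hL) hck (D.compat_taut w), hcp⟩, ?_⟩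
  rintro c' ⟨hc'k, hc'p⟩
  refine huniq c' ?_
  have h' : Compat φ (ProjBundleLib.down ψ (D'.taut hc'p)) (𝟙 T) a := hc'k ▸ Compat.comp ψ hk (D'.compat_taut hc'p)
  obtain ⟨hr, τ, hτ⟩ := D.exists_iso_of_compat
    (((Scheme.Modules.pullbackPushforwardAdjunction (b ≫ ψ)).homEquiv E _).symm (ProjBundleLib.down ψ (D'.taut hc'p)))
    (r := a) (by simpa only [sigma, Equiv.apply_symm_apply] using h')
  have e1 : D.taut w ≫ (Scheme.Modules.pushforward (b ≫ ψ)).map τ.hom = ProjBundleLib.down ψ (D'.taut hc'p) := by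
    rw [show D.taut w ≫ (Scheme.Modules.pushforward (b ≫ ψ)).map τ.hom =
      sigma (pullAdj hr φ ≫ τ.hom) from (Adjunction.homEquiv_naturality_right _ _ _).symm, hτ]
    exact Equiv.apply_symm_apply _ _
  have e2 : σ ≫ (Scheme.Modules.pushforward b).map τ.hom = D'.taut hc'p := by
    refine (adj.homEquiv E _).injective ((cancel_mono ((Scheme.Modules.pushforwardComp b ψ).hom.app _)).1 ?_)
    rw [Adjunction.homEquiv_naturality_right, Category.assoc]
    refine Eq.trans ?_ e1
    rw [← hσ]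
    show _ = (adj.homEquiv E _ σ ≫ _) ≫ _
    rw [Category.assoc]
    exact congrArg (_ ≫ ·) ((Scheme.Modules.pushforwardComp b ψ).hom.naturality τ.hom)
  exact Compat.of_comp_iso τ.hom (e2 ▸ D'.compat_taut hc'p)

variable {ψ}

include D in
/-- The square of projective bundles over a base change is cartesian. -/
theorem PData.exists_isPullback {P' : Scheme.{u}} {p' : P' ⟶ Y'} {O1' : P'.Modules}
    {φ' : (Scheme.Modules.pullback ψ).obj E ⟶ (Scheme.Modules.pushforward p').obj O1'}
    (D' : PData p' ((Scheme.Modules.pullback ψ).obj E) O1' φ') : ∃ k : P' ⟶ P, IsPullback k p' p ψ := by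
  obtain ⟨k, hk, -⟩ := D.existsUnique_compat_of_gens D'.isInvertible_O1 (D'.gens.down ψ D.hE)
  have w : k ≫ p = p' ≫ ψ := hk.1.trans (Category.id_comp _)
  choose c hc huniq using fun s : PullbackCone p ψ => exists_lift ψ D' hk D s.fst s.snd s.condition
  exact ⟨k, IsPullback.of_isLimit' ⟨w⟩ (PullbackCone.IsLimit.mk w c (fun s => (hc s).1) (fun s => (hc s).2)
    fun s m h1 h2 => huniq s m ⟨h1, h2⟩)⟩

end Groth.Agent.ProjBundleLib
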