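import Groth.Agent.ProjBundleLib.DegOne
import Groth.Agent.ProjBundleLib.Closed
import Groth.Agent.ProjBundleLib.Quot
import Groth.Agent.ProjBundleLib.GrSym
import Groth.Agent.S8262
import Groth.Agent.S8343

/-! A relative `Proj` generated in degree one inside a projective bundle. -/

set_option autoImplicit false
set_option linter.style.haveILetI false
set_option backward.isDefEq.respectTransparency false

universe u

open CategoryTheory CategoryTheory.Limits AlgebraicGeometry TopologicalSpace Opposite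
open Groth.Agent.ParaFLib Groth.Agent.RelSpecLib Groth.Agent.PullbackMod
open scoped HomogeneousIdeal

noncomputable section

namespace Groth.Agent.ProjBundleLib

variable {Y : Scheme.{u}}

/-- Maps out of a graded symmetric algebra given in degree one are graded. -/
theorem exists_symHom {M : Y.Modules} (hM : Coh.IsQCoh M) {𝒯 𝒮 : RelProj.QCGrAlg Y} {j : M ⟶ 𝒯.toModule}
    (hj : RelProj.IsGrSymAlg M 𝒯 j) (u : M ⟶ 𝒮.toModule)
    (hu : ∀ (U : Y.Opens) (hU : IsAffineOpen U) (x : Γ(M, U)), (u.app U) x ∈ 𝒮.deg U hU 1) :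
    ∃ v : 𝒯.toQCAlg ⟶ 𝒮.toQCAlg, RelProj.IsGradedHom v ∧ j ≫ RelSpec.QCAlg.Hom.toModuleMap v = u := by
  classical
  obtain ⟨v, hv, -⟩ := hj.1 𝒮.toQCAlg u
  refine ⟨v, fun U hU => ?_, hv⟩
  let f := (v.hom.app (op U)).hom
  have hstr : ∀ r, f ((𝒯.str.app (op U)).hom r) = (𝒮.str.app (op U)).hom r := fun r => by
    show (v.hom.app (op U)).hom ((𝒯.str.app (op U)).hom r) = _
    rw [← v.comm]
    rfl
  have key : ∀ (a : 𝒯.presheaf.obj (op U)) (d : ℕ),
      f (DirectSum.decompose (𝒯.deg U hU) a d : 𝒯.presheaf.obj (op U)) ∈ 𝒮.deg U hU d := fun a => by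
    have ha : a ∈ gen 𝒯.toQCAlg j U := by rw [gen_eq_top _ _ hM hj.1 hU]; trivial
    induction ha using Subring.closure_induction with
    | mem z hz =>
      intro d
      rcases hz with ⟨r, rfl⟩ | ⟨e, rfl⟩
      · rcases eq_or_ne d 0 with rfl | hd
        · rw [DirectSum.decompose_of_mem_same _ (𝒯.str_mem U hU r), hstr]; exact 𝒮.str_mem U hU r
        · rw [DirectSum.decompose_of_mem_ne _ (𝒯.str_mem U hU r) hd.symm, map_zero]; exact zero_mem _
      · have he : jsec 𝒯.toQCAlg j e ∈ 𝒯.deg U hU 1 := hj.2 U hU e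
        rcases eq_or_ne d 1 with rfl | hd
        · rw [DirectSum.decompose_of_mem_same _ he]
          have : f (jsec 𝒯.toQCAlg j e) = u.app U e := congr(($hv).app U e)
          rw [this]
          exact hu U hU e
        · rw [DirectSum.decompose_of_mem_ne _ he hd.symm, map_zero]; exact zero_mem _
    | zero => intro d; simp
    | one =>
      intro d
      have h1 : (1 : 𝒯.presheaf.obj (op U)) ∈ 𝒯.deg U hU 0 := SetLike.GradedOne.one_mem
      rcases eq_or_ne d 0 with rfl | hd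
      · rw [DirectSum.decompose_of_mem_same _ h1, map_one]; exact SetLike.GradedOne.one_mem
      · rw [DirectSum.decompose_of_mem_ne _ h1 hd.symm, map_zero]; exact zero_mem _
    | add a b _ _ ha hb =>
      intro d
      rw [DirectSum.decompose_add, DirectSum.add_apply, AddMemClass.coe_add, map_add]
      exact add_mem (ha d) (hb d)
    | neg a _ ha =>
      intro d
      rw [DirectSum.decompose_neg]
      show f ((-(DirectSum.decompose (𝒯.deg U hU) a d) : _) : 𝒯.presheaf.obj (op U)) ∈ _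
      rw [NegMemClass.coe_neg, map_neg]
      exact neg_mem (ha d)
    | mul a b _ _ ha hb =>
      intro d
      rw [DirectSum.decompose_mul, DirectSum.coe_mul_apply_eq_sum_antidiagonal, map_sum]
      refine sum_mem fun ij hij => ?_
      rw [map_mul, ← Finset.HasAntidiagonal.mem_antidiagonal.1 hij]
      exact SetLike.mul_mem_graded (ha _) (hb _)
  intro d x hx
  have h := key x d
  rwa [DirectSum.decompose_of_mem_same _ hx] at h

theorem irrelevant_le_map_of_surj {A B σ τ : Type u} [CommRing A] [SetLike σ A] [AddSubgroupClass σ A] {𝒜 : ℕ → σ}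
    [GradedRing 𝒜] [CommRing B] [SetLike τ B] [AddSubgroupClass τ B] {ℬ : ℕ → τ} [GradedRing ℬ] (φ : 𝒜 →+*ᵍ ℬ)
    (hs : ∀ n, 0 < n → ∀ b ∈ ℬ n, ∃ a ∈ 𝒜 n, φ a = b) :
    HomogeneousIdeal.irrelevant ℬ ≤ (HomogeneousIdeal.irrelevant 𝒜).map φ := by
  classical
  intro b hb
  rw [← DirectSum.sum_support_decompose ℬ b]
  refine Ideal.sum_mem _ fun i _ => ?_
  rcases Nat.eq_zero_or_pos i with rfl | hi
  · rw [← GradedRing.proj_apply, (HomogeneousIdeal.mem_irrelevant_iff ℬ b).1 hb]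
    exact zero_mem _
  · obtain ⟨a, ha, e⟩ := hs i hi _ (SetLike.coe_mem (DirectSum.decompose ℬ b i))
    rw [← e]
    exact Ideal.mem_map_of_mem _ (ProjRed.mem_irrelevant hi ha)

variable (𝒮 : RelProj.QCGrAlg Y) (h𝒮 : 𝒮.IsGenDegOne) {PS : Scheme.{u}} {pS : PS ⟶ Y}
  {chartS : ∀ (U : Y.Opens) (hU : IsAffineOpen U), ((pS ⁻¹ᵁ U : PS.Opens) : Scheme.{u}) ≅ Proj (𝒮.deg U hU)}
  (hPS : RelProj.IsRelProj 𝒮 pS chartS)

include h𝒮 hPS in
/-- A relative `Proj` generated in degree one embeds in the bundle of its degree-one part, compatibly with `O(1)`. -/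
theorem exists_embedding {O1S : PS.Modules}
    {lamS : ∀ (U : Y.Opens) (hU : IsAffineOpen U),
      O1S ⟶ (Scheme.Modules.pushforward (RelProj.emb pS chartS U hU)).obj (GrTwist.twist (𝒮.deg U hU) 1)}
    (hO1S : RelProj.IsRelTwist 𝒮 pS chartS 1 O1S lamS) :
    ∃ (M : Y.Modules) (P : Scheme.{u}) (p : P ⟶ Y) (O1 : P.Modules)
      (φ : M ⟶ (Scheme.Modules.pushforward p).obj O1) (_ : PData p M O1 φ) (h : PS ⟶ P),
      (𝒮.IsFTDeg 1 → CohB1.IsFT M) ∧ IsClosedImmersion h ∧ h ≫ p = pS ∧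
        Nonempty (O1S ≅ (Scheme.Modules.pullback h).obj O1) := by
  classical
  obtain ⟨M, u, hM, -, hu1, husurj, hft⟩ := exists_degOne 𝒮
  obtain ⟨𝒯, j, hj⟩ := exists_isGrSymAlg hM
  obtain ⟨P, p, chart, hP⟩ := RelProjLib.exists_relProj 𝒯
  obtain ⟨O1, lam, hO1⟩ := S8284.result 𝒯 p chart hP 1
  obtain ⟨φ, hφ⟩ := exists_φ_val hM hj hP hO1
  let D : PData p M O1 φ := ⟨hM, 𝒯, j, hj, chart, hP, lam, hO1, hφ⟩
  obtain ⟨v, hvg, hv⟩ := exists_symHom hM hj u hu1
  have hs : ∀ (U : Y.Opens) (hU : IsAffineOpen U) (n : ℕ), 0 < n → ∀ b ∈ 𝒮.deg U hU n,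
      ∃ a ∈ 𝒯.deg U hU n, RelProj.gradedHomAt v hvg U hU a = b := fun U hU n hn b hb => by
    refine exists_preimage_pos (v.hom.app (op U)).hom (h𝒮 U hU) (fun b hb => ?_) n hn b hb
    obtain ⟨x, hx⟩ := husurj U hU b hb
    exact ⟨(j.app U) x, hj.2 U hU x, (congr(($hv).app U x)).trans hx⟩
  have hirr : ∀ (U : Y.Opens) (hU : IsAffineOpen U),
      (𝒮.deg U hU)₊ ≤ ((𝒯.deg U hU)₊).map (RelProj.gradedHomAt v hvg U hU) := fun U hU =>
    irrelevant_le_map_of_surj _ (hs U hU)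
  obtain ⟨⟨h, hh, -⟩, hcomp⟩ := S8262.result v hvg hirr p pS chart chartS hP hPS
  haveI hci : IsClosedImmersion h := RelProjLib.of_charts_map hP hPS hh @IsClosedImmersion fun U hU =>
    isClosedImmersion_map_pos _ _ (hs U hU)
  obtain ⟨θ, hθ, -⟩ := S8343.result v hvg hirr p pS chart chartS hP hPS h hh 1 O1 lam hO1 O1S lamS hO1S
  refine ⟨M, P, p, O1, φ, D, h, hft, hci, hcomp h hh, ?_⟩
  let τ := ((Scheme.Modules.pullbackPushforwardAdjunction h).homEquiv O1 O1S).symm θ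
  suffices IsIso τ from ⟨(asIso τ).symm⟩
  refine (PullbackMod.isIso_iff_stalk τ).2 fun x => ?_
  obtain ⟨U, hU, e, hy, he⟩ := D.exists_chart_gen (h x)
  have hxU : pS x ∈ U := by rw [← hcomp h hh]; exact hy
  let jU := RelProj.emb pS chartS U hU
  have hjr : jU.opensRange = pS ⁻¹ᵁ U := RelTildeLib.opensRange_emb (chart := chartS) U hU
  obtain ⟨yB, hyB⟩ := (hjr.ge hxU : x ∈ jU.opensRange)
  have hemb : ∀ z : Proj (𝒮.deg U hU), h (jU z) =
      RelProj.emb p chart U hU (Proj.map (RelProj.gradedHomAt v hvg U hU) (hirr U hU) z) := fun z => by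
    have e1 := hh U hU
    rw [← Iso.inv_comp_eq] at e1
    exact congrArg (fun k => k z) ((Category.assoc _ _ _).trans e1)
  let b : 𝒮.deg U hU 1 := ⟨(u.app U) e, hu1 U hU e⟩
  let O : PS.Opens := jU ''ᵁ Proj.basicOpen (𝒮.deg U hU) b.1
  have hOr : O ≤ jU.opensRange := jU.image_le_opensRange _
  have hOU : O ≤ h ⁻¹ᵁ (p ⁻¹ᵁ U) := fun z hz => by
    have : pS z ∈ U := hjr.le (hOr hz)
    show p (h z) ∈ U
    rw [← hcomp h hh] at this
    exact this
  -- the values of `θ` on the canonical section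
  have hbij : ∀ U hU W, W ≤ pS ⁻¹ᵁ U → Function.Bijective ((lamS U hU).app W) := hO1S.bijective
  let t : Γ(O1S, O) := O1S.presheaf.map (homOfLE hOU).op (θ.app (p ⁻¹ᵁ U) (φ.app U e))
  have hgen : Gen O t := by
    refine RelTildeLib.gen_of_chart jU (lamS U hU) (fun W hW => hbij U hU W (hW.trans hjr.le)) hOr ?_
    have hpre : jU ⁻¹ᵁ O = Proj.basicOpen (𝒮.deg U hU) b.1 := Scheme.Hom.preimage_image_eq _ _
    refine Eq.mp (congrArg (Gen _) ?_) (GrModLib.gen_fracT b
      (⟨1, SetLike.GradedOne.one_mem⟩ : 𝒮.deg U hU 0) 1 (by simp) (V := jU ⁻¹ᵁ O)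
      (fun z _ h => z.isPrime.ne_top ((Ideal.eq_top_iff_one _).2 h)) hpre.le)
    erw [ConcreteCategory.congr_hom ((lamS U hU).mapPresheaf.naturality (homOfLE hOU).op) (θ.app (p ⁻¹ᵁ U) (φ.app U e))]
    refine Subtype.ext (funext fun z => Subtype.ext ?_)
    have hz : jU z.1 ∈ h ⁻¹ᵁ (p ⁻¹ᵁ U) := hOU z.2
    have hz' : RelProj.emb p chart U hU (ProjectiveSpectrum.comap (RelProj.gradedHomAt v hvg U hU) (hirr U hU) z.1) ∈ p ⁻¹ᵁ U := by
      rw [← opensRange_emb_eq hP U hU]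
      exact ⟨_, rfl⟩
    refine Eq.trans ?_ (hθ U hU (p ⁻¹ᵁ U) (φ.app U e) z.1 hz hz').symm
    rw [hφ U hU e ⟨_, hz'⟩, ← Localization.mk_one_eq_algebraMap]
    erw [GrTwist.locMap_mk]
    show @Localization.mk (𝒮.presheaf.obj (op U)) _ _ ((u.app U) e) _ = Localization.mk _ _
    have hve : RelProj.gradedHomAt v hvg U hU ((j.app U) e : 𝒯.presheaf.obj (op U)) =
        ((u.app U) e : 𝒮.presheaf.obj (op U)) := congr(($hv).app U e)
    rw [hve]
    exact congrArg (fun c => Localization.mk _ c) (Subtype.ext (map_one (RelProj.gradedHomAt v hvg U hU)).symm)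
  have hyO : x ∈ O := by
    refine ⟨yB, ?_, hyB⟩
    obtain ⟨z, hz, hze⟩ := he
    have hzy : z = Proj.map (RelProj.gradedHomAt v hvg U hU) (hirr U hU) yB :=
      (RelProj.emb p chart U hU).isOpenEmbedding.injective (hze.trans ((congrArg h hyB).symm.trans (hemb yB)))
    subst hzy
    have hve : RelProj.gradedHomAt v hvg U hU ((j.app U) e : 𝒯.presheaf.obj (op U)) =
        ((u.app U) e : 𝒮.presheaf.obj (op U)) := congr(($hv).app U e)
    show ((u.app U) e : 𝒮.presheaf.obj (op U)) ∉ yB.asHomogeneousIdeal.toIdeal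
    rw [← hve]
    exact hz
  have h1 := D.bijective_germφ hU e he
  have h2 := hgen.bijective_germ x hyO
  have hval : stalkLin τ x (pullStalk h O1 x (germφ φ (h x) (D.DPl_le hU e he) e)) = O1S.presheaf.germ O x hyO t := by
    refine (stalkLin_adjunct h θ (W := p ⁻¹ᵁ U) x (D.DPl_le hU e he) (φ.app U e)).trans ?_
    exact (TopCat.Presheaf.germ_res_apply O1S.presheaf (homOfLE hOU) x hyO _).symm
  have h3 := D.bijective_pull h x h1
  have : (stalkLin τ x : _ → _) ∘ (fun c : PS.presheaf.stalk x => c • pullStalk h O1 x (germφ φ (h x) (D.DPl_le hU e he) e)) =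
      fun c : PS.presheaf.stalk x => c • O1S.presheaf.germ O x hyO t := funext fun c => by
    show stalkLin τ x (c • _) = _
    rw [LinearMap.map_smul, hval]
  exact (Function.Bijective.of_comp_iff _ h3).1 (this ▸ h2)
where
  opensRange_emb_eq {P : Scheme.{u}} {𝒯 : RelProj.QCGrAlg Y} {p : P ⟶ Y}
      {chart : ∀ (U : Y.Opens) (hU : IsAffineOpen U), ((p ⁻¹ᵁ U : P.Opens) : Scheme.{u}) ≅ Proj (𝒯.deg U hU)}
      (_ : RelProj.IsRelProj 𝒯 p chart) (U : Y.Opens) (hU : IsAffineOpen U) :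
      (RelProj.emb p chart U hU).opensRange = p ⁻¹ᵁ U := RelTildeLib.opensRange_emb (chart := chart) U hU

end Groth.Agent.ProjBundleLib
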