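import Groth.Agent.ProjBundleLib.Projective
import Groth.Agent.ProjBundleLib.GenDegOne
import Groth.Agent.ProjBundleLib.Canon
import Groth.Agent.ProjBundleLib.Ample
import Groth.Agent.PullbackMod.Props
import Mathlib.AlgebraicGeometry.ProjectiveSpectrum.Proper

/-! Projective morphisms through projective bundles. -/

set_option autoImplicit false
set_option linter.style.haveILetI false
set_option backward.isDefEq.respectTransparency false

universe u

open CategoryTheory CategoryTheory.Limits AlgebraicGeometry TopologicalSpace Opposite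
open Groth.Agent.ParaFLib Groth.Agent.RelSpecLib Groth.Agent.PullbackMod

noncomputable section

namespace Groth.Agent.ProjBundleLib

variable {X Y : Scheme.{u}}

/-- A projective morphism embeds in the projective bundle of a module of finite type. -/
theorem exists_closed_of_isProjective {f : X ⟶ Y} (hf : RelProj.IsProjective f) :
    ∃ (E : Y.Modules) (P : Scheme.{u}) (p : P ⟶ Y) (O1 : P.Modules)
      (φ : E ⟶ (Scheme.Modules.pushforward p).obj O1) (_ : PData p E O1 φ) (i : X ⟶ P),
      CohB1.IsFT E ∧ IsClosedImmersion i ∧ i ≫ p = f := by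
  obtain ⟨𝒮, P, p, chart, e, h1, hft, hP, he⟩ := hf
  obtain ⟨O1, lam, hO1⟩ := Groth.Agent.S8284.result 𝒮 p chart hP 1
  obtain ⟨M, Q, q, O1', φ, D, h, hM, hci, hcomp, -⟩ := exists_embedding 𝒮 h1 hP hO1
  haveI := hci
  exact ⟨M, Q, q, O1', φ, D, e.hom ≫ h, hM hft, inferInstance, by rw [Category.assoc, hcomp, he]⟩

theorem isProjective_precomp {X' : Scheme.{u}} (j : X' ⟶ X) [IsClosedImmersion j] {f : X ⟶ Y}
    (hf : RelProj.IsProjective f) : RelProj.IsProjective (j ≫ f) := by
  obtain ⟨E, P, p, O1, φ, D, i, hE, hi, hip⟩ := exists_closed_of_isProjective hf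
  haveI := hi
  exact D.isProjective_of_isClosedImmersion hE (j ≫ i) (by rw [Category.assoc, hip])

variable {P : Scheme.{u}} {p : P ⟶ Y} {E : Y.Modules} {O1 : P.Modules}
  {φ : E ⟶ (Scheme.Modules.pushforward p).obj O1}

include φ in
/-- The bundle of a module of finite type is proper. -/
theorem PData.isProper (D : PData p E O1 φ) (hft : CohB1.IsFT E) : IsProper p := by
  refine RelProjLib.of_charts D.hP @IsProper fun U hU => ?_
  classical
  obtain ⟨T, hT, hgen⟩ := D.isFTDeg_one hft U hU
  haveI : Algebra.FiniteType (D.S.deg U hU 0) (D.S.presheaf.obj (op U)) := by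
    refine ⟨⟨T, eq_top_iff.2 fun a _ => ?_⟩⟩
    have ha : a ∈ Subring.closure ((D.S.deg U hU 0 : Set (D.S.presheaf.obj (op U))) ∪ (D.S.deg U hU 1 : Set _)) := by
      rw [D.closure_deg hU]; trivial
    refine (Subring.closure_le (t := (Algebra.adjoin (D.S.deg U hU 0) (T : Set (D.S.presheaf.obj (op U)))).toSubring)).2 ?_ ha
    rintro z (hz | hz)
    · exact Subalgebra.algebraMap_mem _ (⟨z, hz⟩ : D.S.deg U hU 0)
    · obtain ⟨c, rfl⟩ := hgen z hz
      exact Subring.sum_mem _ fun t ht => Subring.mul_mem _
        (Subalgebra.algebraMap_mem _ (⟨_, D.S.str_mem U hU (c t)⟩ : D.S.deg U hU 0)) (Algebra.subset_adjoin ht)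
  haveI : IsClosedImmersion (Spec.map (D.S.strZero U hU)) :=
    IsClosedImmersion.spec_of_surjective _ fun z => by
      obtain ⟨⟨r, hr⟩, -⟩ := D.exists_low hU z.1
      exact ⟨r, Subtype.ext (hr.trans (DirectSum.decompose_of_mem_same _ z.2))⟩
  infer_instance

/-- A projective morphism is proper, and quasi-projective. -/
theorem isProper_of_isProjective {f : X ⟶ Y} (hf : RelProj.IsProjective f) :
    IsProper f ∧ RelProj.IsQuasiProjective f := by
  obtain ⟨E, P, p, O1, φ, D, i, hE, hi, hip⟩ := exists_closed_of_isProjective hf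
  haveI := hi
  haveI := D.isProper hE
  haveI hp : IsProper f := by rw [← hip]; infer_instance
  exact ⟨hp, inferInstance, inferInstance, _, D.isRelAmple_pullback i hip i.isEmbedding.isInducing⟩

/-- Projective morphisms are stable under base change. -/
theorem isProjective_baseChange {X' Y' : Scheme.{u}} {f : X ⟶ Y} {g : Y' ⟶ Y} {a : X' ⟶ X} {f' : X' ⟶ Y'}
    (hsq : IsPullback a f' f g) (hf : RelProj.IsProjective f) : RelProj.IsProjective f' := by
  obtain ⟨E, P, p, O1, φ, D, i, hE, hi, hip⟩ := exists_closed_of_isProjective hf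
  haveI := hi
  haveI := D.hE
  obtain ⟨P', p', O1', φ', ⟨D'⟩⟩ := exists_bundle (PullbackMod.isQCoh_pullback g E)
  obtain ⟨b, hb⟩ := D.exists_isPullback D'
  subst hip
  let i' : X' ⟶ P' := hb.lift (a ≫ i) f' (by rw [Category.assoc]; exact hsq.w)
  have hsq' : IsPullback a i' i b := by
    refine IsPullback.of_bot ?_ (hb.lift_fst _ _ _).symm hb
    rw [hb.lift_snd]
    exact hsq
  haveI : IsClosedImmersion i' := MorphismProperty.of_isPullback (P := @IsClosedImmersion) hsq' hi
  exact D'.isProjective_of_isClosedImmersion (PullbackMod.isFiniteType_pullback g E hE) i' (hb.lift_snd _ _ _)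

/-- A morphism with a projective composite with a separated morphism is projective. -/
theorem isProjective_of_comp {Z : Scheme.{u}} {f : X ⟶ Y} {g : Y ⟶ Z} [IsSeparated g]
    (h : RelProj.IsProjective (f ≫ g)) : RelProj.IsProjective f := by
  let γ : X ⟶ pullback (f ≫ g) g := pullback.lift (𝟙 X) f (by simp)
  haveI : IsClosedImmersion γ := by
    haveI : IsClosedImmersion (γ ≫ pullback.fst (f ≫ g) g) := by
      rw [pullback.lift_fst]; infer_instance
    exact IsClosedImmersion.of_comp γ (pullback.fst (f ≫ g) g)
  have h2 := isProjective_precomp γ (isProjective_baseChange (IsPullback.of_hasPullback (f ≫ g) g) h)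
  rwa [pullback.lift_snd] at h2

/-- A proper morphism with a very ample module whose direct image is of finite type is projective. -/
theorem isProjective_of_isRelVeryAmple {f : X ⟶ Y} [IsProper f] {L : X.Modules} (hL : PicF.IsInvertible L)
    (hva : RelProj.IsRelVeryAmple f L) (hft : CohB1.IsFT ((Scheme.Modules.pushforward f).obj L)) :
    RelProj.IsProjective f := by
  obtain ⟨P, p, O1, φ, D, r, hr, hri, -⟩ := isRelVeryAmple_of_locally hL fun x => locally_of_isRelVeryAmple hva x
  haveI := hri
  haveI := D.isSeparated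
  have hrp : r ≫ p = f := hr.1.trans (Category.id_comp f)
  haveI : IsProper (r ≫ p) := by rw [hrp]; infer_instance
  haveI : IsProper r := IsProper.of_comp r p
  haveI : IsClosedImmersion r := IsClosedImmersion.of_isPreimmersion r r.isClosedMap.isClosed_range
  exact D.isProjective_of_isClosedImmersion hft r hrp

end Groth.Agent.ProjBundleLib
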