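import Groth.Agent.ProjBundleLib.FTQuot
import Groth.Agent.ProjBundleLib.GenDegOne
import Groth.Agent.S8336
import Groth.Agent.S8286

/-! Twists on a relative `Proj` generated in degree one. -/

set_option autoImplicit false
set_option linter.style.haveILetI false
set_option backward.isDefEq.respectTransparency false

universe u

open CategoryTheory CategoryTheory.Limits AlgebraicGeometry TopologicalSpace Opposite
open Groth.Agent.ParaFLib Groth.Agent.RelSpecLib Groth.Agent.PullbackMod Groth.Agent.DCohLib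

noncomputable section

namespace Groth.Agent.ProjBundleLib

variable {X Y Z : Scheme.{u}}

/-- Sections over preimages spanning the stalks make the counit an epimorphism. -/
theorem epi_counit_of_span (g : Y ⟶ Z) (M : Y.Modules)
    (h : ∀ y : Y, ∃ (V : Z.Opens) (hy : g y ∈ V),
      Submodule.span (Y.presheaf.stalk y) (Set.range fun σ : Γ(M, g ⁻¹ᵁ V) => M.presheaf.germ (g ⁻¹ᵁ V) y hy σ) = ⊤) :
    Epi ((Scheme.Modules.pullbackPushforwardAdjunction g).counit.app M) := by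
  refine (PullbackMod.epi_iff_stalk _).2 fun y => ?_
  obtain ⟨V, hy, hV⟩ := h y
  rw [← LinearMap.range_eq_top, eq_top_iff, ← hV, Submodule.span_le]
  rintro _ ⟨σ, rfl⟩
  refine ⟨pullStalk g ((Scheme.Modules.pushforward g).obj M) y
    (((Scheme.Modules.pushforward g).obj M).presheaf.germ V (g y) hy σ), ?_⟩
  have h1 := stalkLin_adjunct g (𝟙 ((Scheme.Modules.pushforward g).obj M)) y hy σ
  rw [Adjunction.homEquiv_symm_apply, CategoryTheory.Functor.map_id, Category.id_comp] at h1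
  exact h1

/-- High twists by a very ample module are generated relative to the base. -/
theorem eventually_epi_counit [CompactSpace Z] {g : Y ⟶ Z} [QuasiCompact g] {K : Y.Modules}
    (hKva : RelProj.IsRelVeryAmple g K) {E : Y.Modules} (hE : Coh.IsQCoh E) (hEft : CohB1.IsFT E) :
    ∃ N, ∀ m, N ≤ m →
      Epi ((Scheme.Modules.pullbackPushforwardAdjunction g).counit.app (CohB1.tensorMod E (CohB1.tensorPow K m))) := by
  have hA := isRelAmple_of_isRelVeryAmple hKva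
  obtain ⟨t, N, hcov, hN⟩ := exists_affine_cover_bound
    (fun V n => Curv2.IsGloballyGenerated ((CohB1.tensorMod E (CohB1.tensorPow K n)).restrict (g ⁻¹ᵁ (V.1 : Z.Opens)).ι))
    fun V => by
      let j := (g ⁻¹ᵁ (V.1 : Z.Opens)).ι
      obtain ⟨M, hM⟩ := AmpleEmb.eventually_isGloballyGenerated (hA.2 V) (isCoh_restrict_open hE hEft _)
      exact ⟨M, fun n hn => AmpleLib.isGloballyGenerated_of_iso
        (AmpleLib.restrictTensor j _ _ ≪≫ AmpleLib.tIso (Iso.refl _) (AmpleLib.restrictPow j K n)).symm (hM n hn)⟩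
  refine ⟨N, fun m hm => epi_counit_of_span g _ fun y => ?_⟩
  obtain ⟨V, hy⟩ := Opens.mem_iSup.1 (hcov.ge (Set.mem_univ (g y)))
  exact ⟨V.1.1, hy, span_germ_of_restrict (hN V.1 V.2 m hm) hy⟩

theorem epi_of_iso {C : Type*} [Category C] {A B A' B' : C} {f : A ⟶ B} {f' : A' ⟶ B'} (a : A ≅ A') (b : B ≅ B')
    (w : f ≫ b.hom = a.hom ≫ f') [Epi f] : Epi f' := by
  have : f' = a.inv ≫ f ≫ b.hom := by rw [w, Iso.inv_hom_id_assoc]
  rw [this]
  infer_instance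

/-- Tensoring keeps epimorphisms. -/
theorem epi_tensor_right {M M' : X.Modules} (π : M ⟶ M') [Epi π] (N : X.Modules) :
    Epi (((DCoh.tensorBi (X := X)).map π).app N) := by
  refine (PullbackMod.epi_iff_stalk _).2 fun x w => ?_
  obtain ⟨w, rfl⟩ := (stalkTensor x M' N).surjective w
  obtain ⟨z, rfl⟩ := LinearMap.rTensor_surjective _ ((PullbackMod.epi_iff_stalk π).1 inferInstance x) w
  exact ⟨stalkTensor x M N z, stalkTensor_natural_left x π z⟩

section twist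

variable {P : Scheme.{u}} (𝒮 : RelProj.QCGrAlg Y) {p : P ⟶ Y}
  {chart : ∀ (U : Y.Opens) (hU : IsAffineOpen U), (((p ⁻¹ᵁ U : P.Opens) : Scheme.{u}) ≅ Proj (𝒮.deg U hU))}
  (hP : RelProj.IsRelProj 𝒮 p chart) (hgen : 𝒮.IsGenDegOne) {O1 : P.Modules}
  {lam1 : ∀ (U : Y.Opens) (hU : IsAffineOpen U),
    O1 ⟶ (Scheme.Modules.pushforward (RelProj.emb p chart U hU)).obj (GrTwist.twist (𝒮.deg U hU) 1)}
  (hO1 : RelProj.IsRelTwist 𝒮 p chart 1 O1 lam1)

include hP hgen in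
/-- The degree-zero twist is trivial. -/
theorem relTwist_zero_iso (L0 : P.Modules)
    (lam0 : ∀ (U : Y.Opens) (hU : IsAffineOpen U),
      L0 ⟶ (Scheme.Modules.pushforward (RelProj.emb p chart U hU)).obj (GrTwist.twist (𝒮.deg U hU) ((0 : ℕ) : ℤ)))
    (hL0 : RelProj.IsRelTwist 𝒮 p chart ((0 : ℕ) : ℤ) L0 lam0) : Nonempty (L0 ≅ Coh.structureModule P) := by
  obtain ⟨b⟩ := Groth.Agent.S8336.result 𝒮 p chart hP hgen ((0 : ℕ) : ℤ) ((0 : ℕ) : ℤ) L0 lam0 hL0 L0 lam0 hL0 L0 lam0 hL0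
  obtain ⟨N, -, ⟨e⟩⟩ := AmpleEmb.exists_isInverseOf (Groth.Agent.S8286.result 𝒮 hgen p chart hP _ L0 lam0 hL0)
  exact ⟨(AmpleLib.unitR L0).symm ≪≫ AmpleLib.tIso (Iso.refl L0) e.symm ≪≫ (AmpleLib.assoc _ _ _).symm ≪≫
    AmpleLib.tIso b (Iso.refl N) ≪≫ e⟩

include hP hgen hO1 in
/-- Positive twists are powers of `O(1)`. -/
theorem relTwist_iso_pow : ∀ (k : ℕ) (L : P.Modules)
    (lam : ∀ (U : Y.Opens) (hU : IsAffineOpen U),
      L ⟶ (Scheme.Modules.pushforward (RelProj.emb p chart U hU)).obj (GrTwist.twist (𝒮.deg U hU) ((k + 1 : ℕ) : ℤ))),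
    RelProj.IsRelTwist 𝒮 p chart ((k + 1 : ℕ) : ℤ) L lam → Nonempty (CohB1.tensorPow O1 (k + 1) ≅ L)
  | 0 => fun L lam hL => by
    obtain ⟨L0, lam0, hL0⟩ := Groth.Agent.S8284.result 𝒮 p chart hP 0
    obtain ⟨a⟩ := Groth.Agent.S8336.result 𝒮 p chart hP hgen 0 1 L0 lam0 hL0 O1 lam1 hO1 L lam hL
    obtain ⟨b⟩ := Groth.Agent.S8336.result 𝒮 p chart hP hgen 0 0 L0 lam0 hL0 L0 lam0 hL0 L0 lam0 hL0
    obtain ⟨N, -, ⟨e⟩⟩ := AmpleEmb.exists_isInverseOf (Groth.Agent.S8286.result 𝒮 hgen p chart hP 0 L0 lam0 hL0)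
    let e0 : L0 ≅ Coh.structureModule P :=
      (AmpleLib.unitR L0).symm ≪≫ AmpleLib.tIso (Iso.refl L0) e.symm ≪≫ (AmpleLib.assoc _ _ _).symm ≪≫
        AmpleLib.tIso b (Iso.refl N) ≪≫ e
    exact ⟨AmpleLib.powOne O1 ≪≫ (AmpleLib.unitR O1).symm ≪≫ AmpleLib.comm _ _ ≪≫
      AmpleLib.tIso e0.symm (Iso.refl O1) ≪≫ a⟩
  | k + 1 => fun L lam hL => by
    obtain ⟨L', lam', hL'⟩ := Groth.Agent.S8284.result 𝒮 p chart hP ((k + 1 : ℕ) : ℤ)
    obtain ⟨a⟩ := relTwist_iso_pow k L' lam' hL'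
    obtain ⟨b⟩ := Groth.Agent.S8336.result 𝒮 p chart hP hgen ((k + 1 : ℕ) : ℤ) 1 L' lam' hL' O1 lam1 hO1 L lam hL
    exact ⟨AmpleLib.tIso a (Iso.refl O1) ≪≫ b⟩

include hP hgen hO1 in
theorem isRelVeryAmple_O1 : RelProj.IsRelVeryAmple p O1 := by
  obtain ⟨M, Q, q, OQ, φ, D, h, -, hh, hhq, ⟨e⟩⟩ := exists_embedding 𝒮 hgen hP hO1
  haveI := hh
  exact isRelVeryAmple_of_pdata D h hhq e

end twist

end Groth.Agent.ProjBundleLib
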