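import Groth.Agent.ProjBundleLib.ProjMor
import Groth.Prelude.Def_CohB1
import Mathlib.AlgebraicGeometry.Modules.Tilde
import Mathlib.RingTheory.MvPolynomial.Homogeneous

/-! Projective space is a projective bundle, hence projective. -/

set_option autoImplicit false
set_option linter.style.haveILetI false
set_option backward.isDefEq.respectTransparency false

universe u

open CategoryTheory CategoryTheory.Limits AlgebraicGeometry TopologicalSpace Opposite
open Groth.Agent.ParaFLib Groth.Agent.RelSpecLib Groth.Agent.PullbackMod Groth.Agent.RelProjLib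

noncomputable section

namespace Groth.Agent.ProjBundleLib

/-- A ring map out of polynomials sending variables to degree one and constants to degree zero is graded. -/
theorem eval₂_mem_deg {ι : Type*} {R A : Type u} [CommRing R] [CommRing A] {σ : Type u} [SetLike σ A] [AddSubgroupClass σ A]
    {𝒜 : ℕ → σ} [GradedRing 𝒜] (f : R →+* A) (hf : ∀ r, f r ∈ 𝒜 0) (a : ι → A) (ha : ∀ i, a i ∈ 𝒜 1)
    {d : ℕ} {P : MvPolynomial ι R} (hP : P ∈ MvPolynomial.homogeneousSubmodule ι R d) :
    MvPolynomial.eval₂Hom f a P ∈ 𝒜 d := by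
  classical
  rw [MvPolynomial.mem_homogeneousSubmodule] at hP
  rw [MvPolynomial.coe_eval₂Hom, MvPolynomial.eval₂_eq]
  refine sum_mem fun s hs => ?_
  have hdeg : ∑ i ∈ s.support, s i = d := by
    have := hP (MvPolynomial.mem_support_iff.1 hs)
    simpa [Finsupp.weight_apply, Finsupp.sum] using this
  have h : ∀ t : Finset ι, (∏ i ∈ t, a i ^ s i) ∈ 𝒜 (∑ i ∈ t, s i) := by
    intro t
    induction t using Finset.induction with
    | empty => simpa using SetLike.GradedOne.one_mem
    | insert i t hi ih =>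
      rw [Finset.prod_insert hi, Finset.sum_insert hi]
      refine SetLike.mul_mem_graded ?_ ih
      simpa using SetLike.pow_mem_graded (s i) (ha i)
  have h2 := SetLike.mul_mem_graded (hf (MvPolynomial.coeff s P)) (h s.support)
  rw [hdeg, zero_add] at h2
  exact h2

variable (n : ℕ) (R : CommRingCat.{u})

/-- The free module of rank `n + 1`. -/
abbrev freeTilde : (Spec R).Modules := tilde (ModuleCat.of R (Fin (n + 1) → R))

/-- Its standard sections. -/
def freeSec (i : Fin (n + 1)) : Γ(freeTilde n R, ⊤) :=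
  (tilde.toOpen (ModuleCat.of R (Fin (n + 1) → R)) ⊤).hom (Pi.single i (1 : R))

theorem freeSec_span (e : Γ(freeTilde n R, ⊤)) :
    ∃ r : Fin (n + 1) → R, e = ∑ i, (Scheme.ΓSpecIso R).inv (r i) • freeSec n R i := by
  classical
  obtain ⟨r, hr⟩ := (ConcreteCategory.bijective_of_isIso (tilde.toOpen (ModuleCat.of R (Fin (n + 1) → R)) ⊤)).2 e
  refine ⟨r, hr.symm.trans ?_⟩
  conv_lhs => rw [show (r : Fin (n + 1) → R) = ∑ i, r i • Pi.single i (1 : R) by
    funext j; simp [Finset.sum_apply, Pi.single_apply]]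
  show (tilde.toOpen (ModuleCat.of R (Fin (n + 1) → R)) ⊤).hom _ = _
  rw [map_sum]
  refine Finset.sum_congr rfl fun i _ => ?_
  rw [map_smul]
  show r i • freeSec n R i = _
  rw [Scheme.Modules.smul_Spec_def, show ((⊤ : (Spec R).Opens).leTop).op = 𝟙 (op ⊤) from Subsingleton.elim _ _,
    (Spec R).presheaf.map_id]
  rfl

theorem isFT_freeTilde : CohB1.IsFT (freeTilde n R) := by
  haveI : Coh.IsQCoh (freeTilde n R) := inferInstanceAs ((tilde (ModuleCat.of R (Fin (n + 1) → R))).IsQuasicoherent)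
  refine QCohLib.isFiniteType_of_finite (freeTilde n R) (fun _ : PUnit.{u + 1} => (⊤ : (Spec R).Opens))
    (fun _ => isAffineOpen_top _) (by simp) fun _ => ?_
  refine ⟨Submodule.fg_def.2 ⟨Set.range (freeSec n R), Set.finite_range _, eq_top_iff.2 fun e _ => ?_⟩⟩
  obtain ⟨r, rfl⟩ := freeSec_span n R e
  exact Submodule.sum_mem _ fun i _ => Submodule.smul_mem _ _ (Submodule.subset_span ⟨i, rfl⟩)

/-- Projective space over a ring is projective over it. -/
theorem isProjective_toSpec : RelProj.IsProjective (CohB1.ProjSpace.toSpec n R) := by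
  classical
  haveI hE : Coh.IsQCoh (freeTilde n R) := inferInstanceAs ((tilde (ModuleCat.of R (Fin (n + 1) → R))).IsQuasicoherent)
  obtain ⟨P, p, O1, φ, ⟨D⟩⟩ := exists_bundle hE
  have hU : IsAffineOpen (⊤ : (Spec R).Opens) := isAffineOpen_top _
  let 𝒜 := CohB1.polyGrading n R
  let ℬ := D.S.deg ⊤ hU
  let strR : R →+* D.S.presheaf.obj (op ⊤) := (D.S.str.app (op ⊤)).hom.comp (Scheme.ΓSpecIso R).inv.hom
  let χ : MvPolynomial (Fin (n + 1)) R →+* D.S.presheaf.obj (op ⊤) :=
    MvPolynomial.eval₂Hom strR (fun i => (D.el hU (freeSec n R i)).1)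
  have hγ : ∀ {d : ℕ} {P : MvPolynomial (Fin (n + 1)) R}, P ∈ 𝒜 d → χ P ∈ ℬ d := fun {d P} hP =>
    eval₂_mem_deg strR (fun r => D.S.str_mem ⊤ hU _) _ (fun i => (D.el hU (freeSec n R i)).2) hP
  let γ : 𝒜 →+*ᵍ ℬ := { χ with map_mem := hγ }
  have hsurj : Function.Surjective χ := by
    intro b
    have hb : b ∈ gen D.S.toQCAlg D.j ⊤ := by rw [gen_eq_top _ _ D.hE D.hj.1 hU]; trivial
    suffices gen D.S.toQCAlg D.j ⊤ ≤ χ.range from this hb
    refine Subring.closure_le.2 ?_
    rintro _ (⟨r, rfl⟩ | ⟨e, rfl⟩)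
    · refine ⟨MvPolynomial.C ((Scheme.ΓSpecIso R).hom r), ?_⟩
      show MvPolynomial.eval₂Hom strR _ (MvPolynomial.C _) = _
      rw [MvPolynomial.eval₂Hom_C]
      exact congrArg (D.S.str.app (op ⊤)).hom (congr(($((Scheme.ΓSpecIso R).hom_inv_id)).hom r))
    · obtain ⟨r, rfl⟩ := freeSec_span n R e
      refine ⟨∑ i, MvPolynomial.C (r i) * MvPolynomial.X i, ?_⟩
      show χ _ = _
      rw [map_sum]
      refine Eq.trans ?_ (map_sum (D.j.app ⊤).hom _ _).symm
      refine Finset.sum_congr rfl fun i _ => ?_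
      rw [map_mul, show χ (MvPolynomial.C (r i)) = strR (r i) from MvPolynomial.eval₂Hom_C _ _ _,
        show χ (MvPolynomial.X i) = (D.el hU (freeSec n R i)).1 from MvPolynomial.eval₂Hom_X' _ _ _]
      exact (jsec_smul D.S.toQCAlg D.j _ (freeSec n R i)).symm
  have hinj : Function.Injective χ := by
    letI : Algebra Γ(Spec R, ⊤) (MvPolynomial (Fin (n + 1)) R) :=
      ((MvPolynomial.C : R →+* MvPolynomial (Fin (n + 1)) R).comp (Scheme.ΓSpecIso R).hom.hom).toAlgebra
    let T := tilde.toOpen (ModuleCat.of R (Fin (n + 1) → R)) ⊤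
    let c : Γ(freeTilde n R, ⊤) → (Fin (n + 1) → R) := fun e => (inv T).hom e
    let l : Γ(freeTilde n R, ⊤) →ₗ[Γ(Spec R, ⊤)] MvPolynomial (Fin (n + 1)) R :=
      { toFun := fun e => ∑ i, MvPolynomial.C (c e i) * MvPolynomial.X i
        map_add' := fun e e' => by
          rw [show c (e + e') = c e + c e' from map_add (inv T).hom e e']
          simp [Finset.sum_add_distrib, add_mul]
        map_smul' := fun a e => by
          have h : (a • e : Γ(freeTilde n R, ⊤)) = (Scheme.ΓSpecIso R).hom a • e := by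
            rw [Scheme.Modules.smul_Spec_def, show ((⊤ : (Spec R).Opens).leTop).op = 𝟙 (op ⊤) from Subsingleton.elim _ _,
              (Spec R).presheaf.map_id]
            exact congrArg (· • e) (congr(($((Scheme.ΓSpecIso R).hom_inv_id)).hom a)).symm
          rw [h, show c ((Scheme.ΓSpecIso R).hom a • e) = (Scheme.ΓSpecIso R).hom a • c e from map_smul (inv T).hom _ e,
            RingHom.id_apply, Finset.smul_sum]
          refine Finset.sum_congr rfl fun i _ => ?_
          rw [Pi.smul_apply, smul_eq_mul, map_mul, mul_assoc]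
          refine Eq.trans ?_ (Algebra.smul_def (R := Γ(Spec R, ⊤)) (A := MvPolynomial (Fin (n + 1)) R) a _).symm
          rfl }
    let b := RingEquiv.ofBijective _ (bijective_symEval (freeTilde n R) D.hj.1 hU)
    let θ : D.S.presheaf.obj (op ⊤) →+* MvPolynomial (Fin (n + 1)) R :=
      (SymmetricAlgebra.lift l).toRingHom.comp b.symm.toRingHom
    have h : θ.comp χ = RingHom.id _ := by
      refine MvPolynomial.ringHom_ext (fun r => ?_) fun i => ?_
      · rw [RingHom.comp_apply, show χ (MvPolynomial.C r) = strR r from MvPolynomial.eval₂Hom_C _ _ _]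
        show SymmetricAlgebra.lift l (b.symm ((D.S.str.app (op ⊤)).hom ((Scheme.ΓSpecIso R).inv r))) = _
        rw [show b.symm ((D.S.str.app (op ⊤)).hom ((Scheme.ΓSpecIso R).inv r)) =
            algebraMap _ _ ((Scheme.ΓSpecIso R).inv r) from
          b.injective ((b.apply_symm_apply _).trans (symEval_algebraMap D.S.toQCAlg D.j ⊤ _).symm),
          AlgHom.commutes]
        exact congrArg MvPolynomial.C (congr(($((Scheme.ΓSpecIso R).inv_hom_id)).hom r))
      · rw [RingHom.comp_apply, show χ (MvPolynomial.X i) = (D.el hU (freeSec n R i)).1 from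
          MvPolynomial.eval₂Hom_X' _ _ _]
        show SymmetricAlgebra.lift l (b.symm (jsec D.S.toQCAlg D.j (freeSec n R i))) = _
        rw [show b.symm (jsec D.S.toQCAlg D.j (freeSec n R i)) = SymmetricAlgebra.ι _ _ (freeSec n R i) from
          b.injective ((b.apply_symm_apply _).trans (symEval_ι D.S.toQCAlg D.j ⊤ _).symm),
          SymmetricAlgebra.lift_ι_apply]
        show ∑ j, MvPolynomial.C (c (freeSec n R i) j) * MvPolynomial.X j = MvPolynomial.X i
        rw [show c (freeSec n R i) = Pi.single i (1 : R) from congr(($(IsIso.hom_inv_id T)).hom (Pi.single i (1 : R)))]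
        simp [Pi.single_apply]
    exact Function.LeftInverse.injective (g := θ) fun x => congr($h x)
  have hbij : ∀ d, Set.BijOn γ (𝒜 d) (ℬ d) := fun d => by
    refine ⟨fun a ha => γ.map_mem ha, hinj.injOn, fun b hb => ?_⟩
    obtain ⟨a, rfl⟩ := hsurj b
    refine ⟨(DirectSum.decompose 𝒜 a d : MvPolynomial (Fin (n + 1)) R), SetLike.coe_mem _, ?_⟩
    show γ _ = γ a
    rw [GradedRingHom.map_directSumDecompose]
    exact DirectSum.decompose_of_mem_same ℬ hb
  have hirr : HomogeneousIdeal.irrelevant ℬ ≤ (HomogeneousIdeal.irrelevant 𝒜).map γ :=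
    irrelevant_le_map_of_surj γ fun d _ b hb => (hbij d).surjOn hb
  haveI := RelProjLib.isIso_map γ hirr 0 fun d _ => hbij d
  let ρ : Proj ℬ ⟶ CohB1.ProjSpace n R := Proj.map γ hirr
  have hover : ρ ≫ CohB1.ProjSpace.toSpec n R = (D.chart ⊤ hU).inv ≫ (p ⁻¹ᵁ ⊤).ι ≫ p := by
    rw [← D.hP.chart_over ⊤ hU, Iso.inv_hom_id_assoc, IsAffineOpen.fromSpec_top, Scheme.isoSpec_Spec_inv]
    show Proj.map γ hirr ≫ Proj.toSpecZero 𝒜 ≫ _ = _
    rw [reassoc_of% map_toSpecZero, ← Spec.map_comp, ← Spec.map_comp]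
    refine congrArg (fun k => Proj.toSpecZero ℬ ≫ Spec.map k) (CommRingCat.hom_ext (RingHom.ext fun r => Subtype.ext ?_))
    show γ (algebraMap R (MvPolynomial (Fin (n + 1)) R) r) = _
    show χ (MvPolynomial.C r) = _
    rw [MvPolynomial.eval₂Hom_C]
    rfl
  haveI : IsIso (p ⁻¹ᵁ (⊤ : (Spec R).Opens)).ι := by
    rw [Scheme.Hom.preimage_top]
    exact P.topIso.isIso_hom
  let κ : CohB1.ProjSpace n R ≅ P := (asIso ρ).symm ≪≫ (D.chart ⊤ hU).symm ≪≫ asIso (p ⁻¹ᵁ ⊤).ι
  exact D.isProjective_of_isClosedImmersion (isFT_freeTilde n R) κ.hom (by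
    show (inv ρ ≫ (D.chart ⊤ hU).inv ≫ (p ⁻¹ᵁ ⊤).ι) ≫ p = _
    simp only [Category.assoc]
    rw [← hover, IsIso.inv_hom_id_assoc])

/-- A closed subscheme of projective space over a scheme is projective. -/
theorem isProjective_of_isHProjective {X S : Scheme.{u}} {f : X ⟶ S} (hf : RelProj.IsHProjective f) :
    RelProj.IsProjective f := by
  obtain ⟨m, i, hi, rfl⟩ := hf
  exact isProjective_precomp i (isProjective_baseChange (IsPullback.of_hasPullback _ _)
    (isProjective_toSpec m (CommRingCat.of (ULift.{u} ℤ))))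

end Groth.Agent.ProjBundleLib
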