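import Groth.Agent.ProjBundleLib.RelAmpleVA
import Groth.Agent.ProjBundleLib.PnProj
import Groth.Agent.AmpleEmb.Compose
import Groth.Agent.AmpleEmb.ComposeRel
import Groth.Agent.ProjMap.BaseChange
import Groth.Agent.ProjMap.Segre

/-! H-projective morphisms and composites of projective morphisms. -/

set_option autoImplicit false
set_option linter.style.haveILetI false
set_option backward.isDefEq.respectTransparency false

universe u

open CategoryTheory CategoryTheory.Limits AlgebraicGeometry TopologicalSpace Opposite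

noncomputable section

namespace Groth.Agent.ProjBundleLib

open CohB1 (ProjSpace ProjSpaceOver)

variable {X Y Z : Scheme.{u}}

/-- Composites of projective morphisms over a qcqs base are projective. -/
theorem isProjective_comp [CompactSpace Z] [QuasiSeparatedSpace Z] {f : X ⟶ Y} {g : Y ⟶ Z}
    (hf : RelProj.IsProjective f) (hg : RelProj.IsProjective g) : RelProj.IsProjective (f ≫ g) := by
  obtain ⟨hfp, -, -, L, hL⟩ := isProper_of_isProjective hf
  obtain ⟨hgp, -, -, K, hK⟩ := isProper_of_isProjective hg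
  haveI := hfp
  haveI := hgp
  obtain ⟨N, hN⟩ := AmpleEmb.eventually_isRelAmple_comp f g hL hK
  exact isProjective_of_isProper ⟨inferInstance, inferInstance, _, hN N le_rfl⟩

/-- A proper morphism from a scheme with an ample module is H-projective. -/
theorem isHProjective_of_isAmple (f : X ⟶ Y) [IsProper f] {L : X.Modules} (hL : CohB1.IsAmple L) :
    RelProj.IsHProjective f := by
  obtain ⟨n, i, hi, hif⟩ := AmpleEmb.exists_immersion_of_isAmple f hL
  haveI := hi
  haveI : IsProper (i ≫ ProjSpaceOver.toBase n Y) := by rw [hif]; infer_instance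
  haveI : IsProper i := IsProper.of_comp i (ProjSpaceOver.toBase n Y)
  exact ⟨n, i, IsClosedImmersion.of_isPreimmersion i i.isClosedMap.isClosed_range, hif⟩

/-- Over a base with an ample module, projective morphisms are H-projective. -/
theorem isHProjective_of_isProjective {f : X ⟶ Y} {M : Y.Modules} (hM : CohB1.IsAmple M)
    (hf : RelProj.IsProjective f) : RelProj.IsHProjective f := by
  obtain ⟨hp, -, -, L, hL⟩ := isProper_of_isProjective hf
  haveI := hp
  obtain ⟨L', hL'⟩ := AmpleEmb.exists_isAmple_of_isRelAmple f hL hM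
  exact isHProjective_of_isAmple f hL'

theorem isProper_of_isHProjective {f : X ⟶ Y} (hf : RelProj.IsHProjective f) :
    RelProj.IsHQuasiProjective f ∧ IsProper f := by
  obtain ⟨n, i, hi, rfl⟩ := hf
  haveI := hi
  exact ⟨⟨n, i, inferInstance, inferInstance, rfl⟩, inferInstance⟩

theorem isHProjective_of_isHQuasiProjective {f : X ⟶ Y} [IsProper f] (hf : RelProj.IsHQuasiProjective f) :
    RelProj.IsHProjective f := by
  obtain ⟨n, i, hi, -, hif⟩ := hf
  haveI := hi
  haveI : IsProper (i ≫ ProjSpaceOver.toBase n Y) := by rw [hif]; infer_instance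
  haveI : IsProper i := IsProper.of_comp i (ProjSpaceOver.toBase n Y)
  exact ⟨n, i, IsClosedImmersion.of_isPreimmersion i i.isClosedMap.isClosed_range, hif⟩

/-- Projective space commutes with base change. -/
theorem isPullback_projSpaceOver (n : ℕ) (g : Y ⟶ Z) :
    IsPullback (ProjMap.liftOver (ProjMap.toInt Y n) (ProjSpaceOver.toBase n Y ≫ g)) (ProjSpaceOver.toBase n Y)
      (ProjSpaceOver.toBase n Z) g := by
  refine IsPullback.of_right ?_ (ProjMap.liftOver_toBase _ _) (IsPullback.of_hasPullback _ _)
  rw [show ProjMap.liftOver (ProjMap.toInt Y n) (ProjSpaceOver.toBase n Y ≫ g) ≫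
      pullback.fst (ProjSpace.toSpec n (ULift.{u} ℤ)) (specULiftZIsTerminal.from Z) = ProjMap.toInt Y n from
    ProjMap.liftOver_toInt _ _, specULiftZIsTerminal.comp_from g]
  exact IsPullback.of_hasPullback _ _

/-- H-projective morphisms are stable under base change. -/
theorem isHProjective_baseChange {X' Y' : Scheme.{u}} {f : X ⟶ Y} {g : Y' ⟶ Y} {a : X' ⟶ X} {f' : X' ⟶ Y'}
    (hsq : IsPullback a f' f g) (hf : RelProj.IsHProjective f) : RelProj.IsHProjective f' := by
  obtain ⟨n, i, hi, rfl⟩ := hf
  haveI := hi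
  have hb := isPullback_projSpaceOver n g
  let i' : X' ⟶ ProjSpaceOver n Y' := hb.lift (a ≫ i) f' (by rw [Category.assoc]; exact hsq.w)
  have hsq' : IsPullback a i' i
      (ProjMap.liftOver (ProjMap.toInt Y' n) (ProjSpaceOver.toBase n Y' ≫ g)) := by
    refine IsPullback.of_bot ?_ (hb.lift_fst _ _ _).symm hb
    rw [hb.lift_snd]
    exact hsq
  exact ⟨n, i', MorphismProperty.of_isPullback (P := @IsClosedImmersion) hsq' hi, hb.lift_snd _ _ _⟩

/-- Composites of H-projective morphisms are H-projective. -/
theorem isHProjective_comp {f : X ⟶ Y} {g : Y ⟶ Z} (hf : RelProj.IsHProjective f) (hg : RelProj.IsHProjective g) :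
    RelProj.IsHProjective (f ≫ g) := by
  obtain ⟨n, i, hi, rfl⟩ := hf
  obtain ⟨m, j, hj, rfl⟩ := hg
  haveI := hi
  haveI := hj
  let g := j ≫ ProjSpaceOver.toBase m Z
  let l := ProjMap.liftOver (ProjMap.toInt Y n) (ProjSpaceOver.toBase n Y ≫ g)
  let k : ProjSpaceOver n Y ⟶ ProjMap.prodOver Z n m :=
    pullback.lift l (ProjSpaceOver.toBase n Y ≫ j) (by
      rw [ProjMap.liftOver_toBase, Category.assoc])
  have hk : IsPullback k (ProjSpaceOver.toBase n Y)
      (pullback.snd (ProjSpaceOver.toBase n Z) (ProjSpaceOver.toBase m Z)) j := by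
    refine IsPullback.of_right ?_ (pullback.lift_snd _ _ _) (IsPullback.of_hasPullback _ _)
    rw [pullback.lift_fst]
    exact isPullback_projSpaceOver n g
  haveI : IsClosedImmersion k := MorphismProperty.of_isPullback (P := @IsClosedImmersion) hk.flip hj
  let e : Fin (n + 1) × Fin (m + 1) ≃ Fin (((n + 1) * (m + 1) - 1) + 1) :=
    finProdFinEquiv.trans (finCongr (by
      have : 0 < (n + 1) * (m + 1) := Nat.mul_pos n.succ_pos m.succ_pos
      omega))
  let s := ProjMap.segre (ULift.{u} ℤ) e
  haveI : IsClosedImmersion (ProjMap.baseMap Z s) :=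
    ProjMap.baseMap_property Z s @IsClosedImmersion (ProjMap.isClosedImmersion_segre (ULift.{u} ℤ) e)
  refine ⟨_, i ≫ k ≫ ProjMap.baseMap Z s, inferInstance, ?_⟩
  rw [Category.assoc, Category.assoc, ProjMap.baseMap_toBase, ProjMap.prodOverToBase, pullback.lift_fst_assoc,
    ProjMap.liftOver_toBase, Category.assoc]

/-- Locally projective morphisms are locally H-projective. -/
theorem isHProjective_restrict_of_isProjective {f : X ⟶ Y} {U V : Y.Opens} (hVU : V ≤ U) (hV : IsAffineOpen V)
    (h : RelProj.IsProjective (f ∣_ U)) : RelProj.IsHProjective (f ∣_ V) := by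
  haveI : IsAffine (V : Scheme.{u}) := hV
  have hsq : IsPullback (X.homOfLE (f.preimage_mono hVU)) (f ∣_ V) (f ∣_ U) (Y.homOfLE hVU) := by
    refine IsPullback.of_right ?_ ?_ (isPullback_morphismRestrict f U).flip
    · rw [Scheme.homOfLE_ι, Scheme.homOfLE_ι]
      exact (isPullback_morphismRestrict f V).flip
    · rw [← cancel_mono U.ι, Category.assoc, Category.assoc, morphismRestrict_ι, Scheme.homOfLE_ι,
        Scheme.homOfLE_ι_assoc, morphismRestrict_ι]
  exact isHProjective_of_isProjective (AmpleLib.isQuasiAffine_iff.1 (inferInstance : (V : Scheme.{u}).IsQuasiAffine))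
    (isProjective_baseChange hsq h)

theorem isLocallyProjective_iff (f : X ⟶ Y) :
    RelProj.IsLocallyProjective f ↔ ∀ s : Y, ∃ U : Y.Opens, s ∈ U ∧ RelProj.IsHProjective (f ∣_ U) := by
  refine ⟨fun h s => ?_, fun h s => ?_⟩
  · obtain ⟨U, hs, hU⟩ := h s
    obtain ⟨_, ⟨V, hV, rfl⟩, hsV, hVU⟩ := Y.isBasis_affineOpens.exists_subset_of_mem_open hs U.2
    exact ⟨V, hsV, isHProjective_restrict_of_isProjective hVU hV hU⟩
  · obtain ⟨U, hs, hU⟩ := h s
    exact ⟨U, hs, isProjective_of_isHProjective hU⟩

end Groth.Agent.ProjBundleLib
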