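import Groth.Agent.ProjBundleLib.Quot
import Groth.Agent.ProjBundleLib.Exist

/-! Relatively very ample modules through the projective bundle. -/

set_option autoImplicit false
set_option linter.style.haveILetI false
set_option backward.isDefEq.respectTransparency false

universe u

open CategoryTheory CategoryTheory.Limits AlgebraicGeometry TopologicalSpace Opposite
open Groth.Agent.ParaFLib Groth.Agent.RelSpecLib Groth.Agent.PullbackMod

noncomputable section

namespace Groth.Agent.ProjBundleLib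

variable {X Y : Scheme.{u}} {q : X ⟶ Y} {L : X.Modules}

/-- Relative very ampleness, with the tautological quotient of the bundle. -/
theorem exists_pdata (h : RelProj.IsRelVeryAmple q L) :
    ∃ (E : Y.Modules) (P : Scheme.{u}) (p : P ⟶ Y) (O1 : P.Modules)
      (φ : E ⟶ (Scheme.Modules.pushforward p).obj O1) (_ : PData p E O1 φ) (i : X ⟶ P),
      IsImmersion i ∧ i ≫ p = q ∧ Nonempty (L ≅ (Scheme.Modules.pullback i).obj O1) := by
  obtain ⟨E, hE, S, j, hj, P, p, chart, hP, O1, lam, hO1, i, hi, hip, hL⟩ := h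
  obtain ⟨φ, ⟨D⟩⟩ := exists_φ hE hj hP hO1
  exact ⟨E, P, p, O1, φ, D, i, hi, hip, hL⟩

theorem isRelVeryAmple_of_pdata {E : Y.Modules} {P : Scheme.{u}} {p : P ⟶ Y} {O1 : P.Modules}
    {φ : E ⟶ (Scheme.Modules.pushforward p).obj O1} (D : PData p E O1 φ) (i : X ⟶ P) [IsImmersion i]
    (hip : i ≫ p = q) (e : L ≅ (Scheme.Modules.pullback i).obj O1) : RelProj.IsRelVeryAmple q L :=
  ⟨E, D.hE, D.S, D.j, D.hj, P, p, D.chart, D.hP, O1, D.lam, D.hO1, i, inferInstance, hip, ⟨e⟩⟩

theorem exists_epi_of_isRelVeryAmple (h : RelProj.IsRelVeryAmple q L) :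
    ∃ (E : Y.Modules) (_ : Coh.IsQCoh E) (s : (Scheme.Modules.pullback q).obj E ⟶ L), Epi s := by
  obtain ⟨E, P, p, O1, φ, D, i, -, hip, ⟨e⟩⟩ := exists_pdata h
  haveI : Epi (((Scheme.Modules.pullbackPushforwardAdjunction q).homEquiv E _).symm (D.taut hip)) :=
    (D.gens_taut hip).epi
  exact ⟨E, D.hE, _ ≫ e.inv, epi_comp (((Scheme.Modules.pullbackPushforwardAdjunction q).homEquiv E _).symm (D.taut hip)) e.inv⟩

theorem epi_counit_of_epi {E : Y.Modules} (s : (Scheme.Modules.pullback q).obj E ⟶ L) [Epi s] :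
    Epi ((Scheme.Modules.pullbackPushforwardAdjunction q).counit.app L) := by
  have h : s = (Scheme.Modules.pullback q).map ((Scheme.Modules.pullbackPushforwardAdjunction q).homEquiv E L s) ≫
      (Scheme.Modules.pullbackPushforwardAdjunction q).counit.app L :=
    ((Equiv.symm_apply_apply _ s).symm.trans (Adjunction.homEquiv_counit _ _ _ _))
  exact epi_of_epi_fac h.symm

end Groth.Agent.ProjBundleLib
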