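import Groth.Agent.ProjBundleLib.Tensor
import Groth.Agent.ProjBundleLib.RelProjQuot
import Groth.Agent.AmpleLib.ExtendMod

/-! Twisting a module by an invertible one does not change its bundle. -/

set_option autoImplicit false
set_option linter.style.haveILetI false
set_option backward.isDefEq.respectTransparency false

universe u

open CategoryTheory CategoryTheory.Limits AlgebraicGeometry TopologicalSpace Opposite
open Groth.Agent.ParaFLib Groth.Agent.RelSpecLib Groth.Agent.PullbackMod Groth.Agent.DCohLib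

noncomputable section

namespace Groth.Agent.ProjBundleLib

variable {Y P : Scheme.{u}} {p : P ⟶ Y} {E L : Y.Modules} {O1 : P.Modules}
  {φ : E ⟶ (Scheme.Modules.pushforward p).obj O1}

theorem isIso_of_bijective_appLE {X Z : Scheme.{u}} (j : X ⟶ Z) {V : Z.Opens} {U : X.Opens}
    (hU : j ⁻¹ᵁ V = U) (hV : IsAffineOpen V) (hUa : IsAffineOpen U)
    (hb : Function.Bijective (j.appLE V U hU.ge)) : IsIso (j ∣_ V) := by
  subst hU
  haveI : IsAffine V.toScheme := hV
  haveI : IsAffine (j ⁻¹ᵁ V).toScheme := hUa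
  have key : ∀ {V' : Z.Opens} {U' : X.Opens} (_ : V = V') (_ : j ⁻¹ᵁ V = U') (e' : U' ≤ j ⁻¹ᵁ V'),
      Function.Bijective (j.appLE V' U' e') := by
    intro V' U' h1 h2 e'
    subst h1 h2
    exact hb
  haveI : IsIso (j ∣_ V).appTop := by
    rw [ConcreteCategory.isIso_iff_bijective, Scheme.Hom.appTop, morphismRestrict_app']
    exact key V.ι_image_top.symm
      ((Scheme.Opens.ι_image_top _).symm.trans (congrArg ((j ⁻¹ᵁ V).ι ''ᵁ ·) (Scheme.Hom.preimage_top _).symm)) _
  exact ((MorphismProperty.isomorphisms Scheme).arrow_mk_iso_iff (arrowIsoSpecΓOfIsAffine (j ∣_ V))).2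
    (inferInstanceAs (IsIso (Spec.map (j ∣_ V).appTop)))

/-- Tensoring with a generator is surjective on sections. -/
theorem pairS_gen_surjective {X : Scheme.{u}} {F M : X.Modules} {V : X.Opens} {e : Γ(M, V)} (he : Gen V e)
    (t : Γ(tmod F M, V)) : ∃ c, pairS F M c e = t := by
  classical
  have loc : ∀ x : V, ∃ (W : X.Opens) (hWV : W ≤ V), x.1 ∈ W ∧
      ∃ c : Γ(F, W), pairS F M c (M.presheaf.map (homOfLE hWV).op e) = (tmod F M).presheaf.map (homOfLE hWV).op t := by
    intro x
    obtain ⟨w, hw⟩ := (stalkTensor x.1 F M).surjective ((tmod F M).presheaf.germ V x.1 x.2 t)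
    have hb := he.bijective_germ x.1 x.2
    obtain ⟨a, rfl⟩ : ∃ a, a ⊗ₜ[X.presheaf.stalk x.1] (M.presheaf.germ V x.1 x.2 e) = w := by
      clear hw
      induction w using TensorProduct.induction_on with
      | zero => exact ⟨0, TensorProduct.zero_tmul _ _⟩
      | tmul a b => obtain ⟨c, rfl⟩ := hb.2 b; exact ⟨c • a, TensorProduct.smul_tmul _ _ _⟩
      | add a b ha hb' =>
        obtain ⟨a', rfl⟩ := ha
        obtain ⟨b', rfl⟩ := hb'
        exact ⟨a' + b', TensorProduct.add_tmul _ _ _⟩
    obtain ⟨W, hxW, c, rfl⟩ := TopCat.Presheaf.exists_germ_eq F.presheaf a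
    let W' := W ⊓ V
    have h1 : stalkTensor x.1 F M (F.presheaf.germ W x.1 hxW c ⊗ₜ M.presheaf.germ V x.1 x.2 e) =
        (tmod F M).presheaf.germ W' x.1 ⟨hxW, x.2⟩
          (pairS F M (F.presheaf.map (homOfLE (inf_le_left : W' ≤ W)).op c) (M.presheaf.map (homOfLE (inf_le_right : W' ≤ V)).op e)) := by
      rw [AmpleLib.germ_pairS, TopCat.Presheaf.germ_res_apply, TopCat.Presheaf.germ_res_apply]
    obtain ⟨C, hxC, hC, hC', he'⟩ := TopCat.Presheaf.germ_eq (tmod F M).presheaf x.1 _ x.2 _ _ (h1.symm.trans hw)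
    refine ⟨C, hC'.le, hxC, F.presheaf.map hC.op (F.presheaf.map (homOfLE (inf_le_left : W' ≤ W)).op c), ?_⟩
    refine Eq.trans ?_ he'
    rw [show hC = homOfLE hC.le from rfl, res_pairS, ParaFLib.res_res, ParaFLib.res_res]
  choose W hWV hxW c hc using loc
  let G : TopCat.Sheaf Ab.{u} X.carrier := ⟨F.presheaf, F.isSheaf⟩
  have hcompat : TopCat.Presheaf.IsCompatible G.obj W c := fun x y => by
    refine AmpleLib.pairS_gen_injective (he.res ((inf_le_left : W x ⊓ W y ≤ W x).trans (hWV x))) ?_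
    have e1 := congrArg ((tmod F M).presheaf.map (homOfLE (inf_le_left : W x ⊓ W y ≤ W x)).op) (hc x)
    have e2 := congrArg ((tmod F M).presheaf.map (homOfLE (inf_le_right : W x ⊓ W y ≤ W y)).op) (hc y)
    rw [res_pairS, ParaFLib.res_res, ParaFLib.res_res] at e1 e2
    exact e1.trans e2.symm
  obtain ⟨s, hs, -⟩ := G.existsUnique_gluing' W V (fun x => homOfLE (hWV x))
    (fun y hy => Opens.mem_iSup.2 ⟨⟨y, hy⟩, hxW _⟩) c hcompat
  refine ⟨s, TopCat.Sheaf.eq_of_locally_eq' ⟨(tmod F M).presheaf, (tmod F M).isSheaf⟩ W V (fun x => homOfLE (hWV x))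
    (fun y hy => Opens.mem_iSup.2 ⟨⟨y, hy⟩, hxW _⟩) _ _ fun x => ?_⟩
  show (tmod F M).presheaf.map (homOfLE (hWV x)).op (pairS F M s e) = (tmod F M).presheaf.map (homOfLE (hWV x)).op t
  rw [res_pairS, ← hc x]
  exact congrArg (fun a => pairS F M a (M.presheaf.map (homOfLE (hWV x)).op e)) (hs x)

/-- The pullback of a generator generates. -/
theorem bijective_pullStalk_gen {X : Scheme.{u}} (r : X ⟶ Y) {M : Y.Modules} [Coh.IsQCoh M] (x : X)
    {m : M.presheaf.stalk (r x)} (hm : Function.Bijective fun c : Y.presheaf.stalk (r x) => c • m) :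
    Function.Bijective fun c : X.presheaf.stalk x => c • pullStalk r M x m := by
  letI : Algebra (Y.presheaf.stalk (r x)) (X.presheaf.stalk x) := (r.stalkMap x).hom.toAlgebra
  letI := Module.compHom (((Scheme.Modules.pullback r).obj M).presheaf.stalk x) (r.stalkMap x).hom
  haveI : IsScalarTower (Y.presheaf.stalk (r x)) (X.presheaf.stalk x)
      (((Scheme.Modules.pullback r).obj M).presheaf.stalk x) := .of_algebraMap_smul fun _ _ => rfl
  have hbc : IsBaseChange (X.presheaf.stalk x) (pullStalkL r M x) := isBaseChange_pullStalkL r M x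
  let ε : Y.presheaf.stalk (r x) ≃ₗ[Y.presheaf.stalk (r x)] M.presheaf.stalk (r x) :=
    LinearEquiv.ofBijective (LinearMap.toSpanSingleton _ _ m) hm
  have e : (fun c : X.presheaf.stalk x => c • pullStalk r M x m) =
      hbc.equiv ∘ (TensorProduct.congr (LinearEquiv.refl _ _) ε) ∘
        (TensorProduct.rid (Y.presheaf.stalk (r x)) (X.presheaf.stalk x)).symm := by
    funext c
    show _ = hbc.equiv (TensorProduct.congr _ ε (c ⊗ₜ[Y.presheaf.stalk (r x)] (1 : Y.presheaf.stalk (r x))))
    rw [TensorProduct.congr_tmul, IsBaseChange.equiv_tmul]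
    show c • pullStalk r M x m = c • pullStalkL r M x ((1 : Y.presheaf.stalk (r x)) • m)
    rw [one_smul]
    rfl
  rw [e]
  exact hbc.equiv.bijective.comp ((TensorProduct.congr (LinearEquiv.refl _ _) ε).bijective.comp
    (TensorProduct.rid _ _).symm.bijective)

/-- The bundle of `E ⊗ L` is the bundle of `E`, with `O(1)` twisted by `L`. -/
theorem exists_twist_iso (D : PData p E O1 φ) (hL : PicF.IsInvertible L) {Q : Scheme.{u}} {q : Q ⟶ Y}
    {OQ : Q.Modules} {ψ : tmod E L ⟶ (Scheme.Modules.pushforward q).obj OQ} (D' : PData q (tmod E L) OQ ψ) :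
    ∃ i : P ≅ Q, i.hom ≫ q = p ∧ Nonempty ((Scheme.Modules.pullback i.hom).obj OQ ≅
      CohB1.tensorMod O1 ((Scheme.Modules.pullback p).obj L)) := by
  haveI := InvExt.isQCoh_of_isInvertible hL
  let adj := Scheme.Modules.pullbackPushforwardAdjunction p
  let η : L ⟶ (Scheme.Modules.pushforward p).obj ((Scheme.Modules.pullback p).obj L) := adj.homEquiv L _ (𝟙 _)
  have hLp := AmpleLib.isInvertible_pullback p hL
  have hI := AmpleLib.isInvertible_tensor D.isInvertible_O1 hLp
  have hη : ∀ (U : Y.Opens) (l : Γ(L, U)), Gen U l → ∀ y (hy : p y ∈ U),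
      Function.Bijective fun c : P.presheaf.stalk y => c • germφ η y hy l := fun U l hl y hy => by
    have h1 : germφ η y hy l = pullStalk p L y (L.presheaf.germ U (p y) hy l) := by
      have h2 := stalkLin_adjunct p η y hy l
      rw [show ((Scheme.Modules.pullbackPushforwardAdjunction p).homEquiv L _).symm η = 𝟙 _ from
        Equiv.symm_apply_apply _ _] at h2
      refine h2.symm.trans ?_
      rw [PullbackMod.stalkLin_id]
      rfl
    rw [h1]
    exact bijective_pullStalk_gen p y (hl.bijective_germ (p y) hy)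
  have hGη : Gens η := fun y => by
    obtain ⟨W, l, hyW, hl⟩ := exists_gen_nhd hL (p y)
    exact ⟨W, hyW, l, hη W l hl y hyW⟩
  let σ := tensQ φ η
  have hG : Gens σ := D.gens.tensQ hGη
  obtain ⟨k, hk, -⟩ := D'.existsUnique_compat_of_gens hI hG
  obtain ⟨hkq, τ, -⟩ := D'.exists_iso_of_compat
    (((Scheme.Modules.pullbackPushforwardAdjunction p).homEquiv _ _).symm σ) (r := k)
    (by simpa only [sigma, Equiv.apply_symm_apply] using hk)
  have hqk : ∀ y, q (k y) = p y := fun y => congrArg (fun f => f y) hkq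
  let ι := Σ U : Y.affineOpens, {l : Γ(L, U.1) // Gen U.1 l} × Γ(E, U.1)
  suffices IsIso k from ⟨asIso k, hkq, ⟨τ⟩⟩
  refine (IsZariskiLocalAtTarget.iff_of_iSup_eq_top (P := MorphismProperty.isomorphisms Scheme)
    (fun i : ι => D'.DPl i.1.2 (pairS E L i.2.2 i.2.1.1)) ?_).2 fun i => ?_
  · refine eq_top_iff.2 fun z _ => ?_
    obtain ⟨W, l, hzW, hl⟩ := exists_gen_nhd hL (q z)
    obtain ⟨_, ⟨U, hU, rfl⟩, hzU, hUW⟩ := Y.isBasis_affineOpens.exists_subset_of_mem_open hzW W.2
    obtain ⟨t, ht⟩ := D'.cover hU hzU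
    have hlU := hl.res (show U ≤ W from hUW)
    obtain ⟨f, rfl⟩ := pairS_gen_surjective hlU t
    exact Opens.mem_iSup.2 ⟨⟨⟨U, hU⟩, ⟨_, hlU⟩, f⟩, ht⟩
  · obtain ⟨⟨U, hU⟩, ⟨l, hl⟩, e⟩ := i
    let te := pairS E L e l
    have hpre : k ⁻¹ᵁ D'.DPl hU te = D.DPl hU e := by
      refine Opens.ext (Set.ext fun y => ?_)
      show k y ∈ D'.DPl hU te ↔ y ∈ D.DPl hU e
      constructor
      · intro hy
        have hyU : p y ∈ U := hqk y ▸ D'.DPl_le hU te hy
        have h1 := (hk.2 U te y (D'.DPl_le hU te hy) hyU).1.1 (D'.bijective_germφ hU te hy)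
        change Function.Bijective fun c : P.presheaf.stalk y => c • germφ (tensQ φ η) y hyU te at h1
        rw [germφ_tensQ] at h1
        exact (D.mem_DPl_iff hU e hyU).2 (bijective_of_stalkTensor D.isInvertible_O1 hLp h1).1
      · intro hy
        have hyU : p y ∈ U := D.DPl_le hU e hy
        have hyU' : q (k y) ∈ U := (hqk y).symm ▸ hyU
        refine (D'.mem_DPl_iff hU te hyU').2 ((hk.2 U te y hyU' hyU).1.2 ?_)
        show Function.Bijective fun c : P.presheaf.stalk y => c • germφ (tensQ φ η) y hyU te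
        rw [germφ_tensQ]
        exact AmpleLib.bijective_stalkTensor (D.bijective_germφ hU e hy) (hη U l hl y hyU)
    refine isIso_of_bijective_appLE k hpre (D'.isAffineOpen_DPl hU te) (D.isAffineOpen_DPl hU e) ?_
    let ρ := (k.appLE (D'.DPl hU te) (D.DPl hU e) hpre.ge).hom
    have hρ : ∀ f, ρ (D'.coord hU te (pairS E L f l)) = D.coord hU e f := fun f => by
      refine TopCat.Presheaf.section_ext P.sheaf _ _ _ fun y hy => ?_
      have hky : k y ∈ D'.DPl hU te := hpre.ge hy
      have hyU : p y ∈ U := D.DPl_le hU e hy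
      have hb : Function.Bijective fun c : P.presheaf.stalk y => c • germφ (tensQ φ η) y hyU te := by
        rw [germφ_tensQ]
        exact AmpleLib.bijective_stalkTensor (D.bijective_germφ hU e hy) (hη U l hl y hyU)
      have h2 := (hk.2 U te y (D'.DPl_le hU te hky) hyU).2 (pairS E L f l) _
        (show P.presheaf.stalk y from P.presheaf.germ (D.DPl hU e) y hy (D.coord hU e f)) hb (D'.germφ_eq hU te _ hky).symm (by
          show (show P.presheaf.stalk y from P.presheaf.germ (D.DPl hU e) y hy (D.coord hU e f)) • germφ (tensQ φ η) y hyU te =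
            germφ (tensQ φ η) y hyU _
          rw [germφ_tensQ, germφ_tensQ, D.germφ_eq hU e f hy, ← TensorProduct.smul_tmul', LinearEquiv.map_smul])
      rw [germ_stalkMap_congr k hpre.ge y hy, Scheme.Hom.stalkMap_id] at h2
      exact h2
    refine ⟨?_, fun z => ?_⟩
    · let c : Γ(E, U) →+ Γ(Q, D'.DPl hU te) :=
        AddMonoidHom.mk' (fun f => D'.coord hU te (pairS E L f l)) fun a b => by
          show D'.coord hU te (pairS E L (a + b) l) = _
          rw [pairS_add_left, D'.coord_add]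
      obtain ⟨θ, hθ⟩ := D.exists_hom hU e (q.appLE U _ (D'.DPl_le hU te)).hom c
        (fun a f => by show D'.coord hU te (pairS E L (a • f) l) = _; rw [pairS_smul_left, D'.coord_smul]; rfl)
        (D'.coord_self hU te)
      suffices h : θ.comp ρ = RingHom.id _ from Function.LeftInverse.injective fun a => congr($h a)
      refine RingHom.eq_of_eqOn_set_dense (D'.closure_coord hU te) (Set.eqOn_range.2 (funext fun t => ?_))
      obtain ⟨f, rfl⟩ := pairS_gen_surjective hl t
      show θ (ρ (D'.coord hU te (pairS E L f l))) = _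
      rw [hρ, hθ]
      rfl
    · suffices z ∈ ρ.range from this
      refine (Subring.closure_le (t := ρ.range)).2 ?_ ((D.closure_coord hU e).ge (Subring.mem_top z))
      rintro _ ⟨f, rfl⟩
      exact ⟨_, hρ f⟩

end Groth.Agent.ProjBundleLib
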