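import Groth.Agent.ProjBundleLib.Univ

/-! Morphisms to the projective bundle and invertible quotients. -/

set_option autoImplicit false
set_option linter.style.haveILetI false
set_option backward.isDefEq.respectTransparency false

universe u

open CategoryTheory CategoryTheory.Limits AlgebraicGeometry TopologicalSpace Opposite
open Groth.Agent.ParaFLib Groth.Agent.RelSpecLib Groth.Agent.PullbackMod

noncomputable section

namespace Groth.Agent.ProjBundleLib

variable {Y P X : Scheme.{u}} {p : P ⟶ Y} {E : Y.Modules} {O1 : P.Modules}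
  {φ : E ⟶ (Scheme.Modules.pushforward p).obj O1} {g : X ⟶ Y} {L : X.Modules}

namespace PData

variable (D : PData p E O1 φ)

include D in
theorem exists_chart_gen (y : P) :
    ∃ (U : Y.Opens) (hU : IsAffineOpen U) (e : Γ(E, U)) (hy : p y ∈ U), y ∈ D.DPl hU e := by
  obtain ⟨_, ⟨U, hU, rfl⟩, hyU, -⟩ :=
    Y.isBasis_affineOpens.exists_subset_of_mem_open (Set.mem_univ (p y)) isOpen_univ
  obtain ⟨e, he⟩ := D.cover hU hyU
  exact ⟨U, hU, e, hyU, he⟩

include D in
theorem epi_adjunct : Epi (((Scheme.Modules.pullbackPushforwardAdjunction p).homEquiv E O1).symm φ) := by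
  refine (PullbackMod.epi_iff_stalk _).2 fun y z => ?_
  obtain ⟨U, hU, e, hy, he⟩ := D.exists_chart_gen y
  obtain ⟨c, rfl⟩ := (D.bijective_germφ hU e he).2 z
  refine ⟨c • pullStalk p E y (E.presheaf.germ U (p y) hy e), ?_⟩
  rw [LinearMap.map_smul, stalkLin_adjunct p φ y hy e]
  rfl

include D in
theorem isInvertible_O1 : PicF.IsInvertible O1 := AmpleLib.isInvertible_of_gen fun y => by
  obtain ⟨U, hU, e, -, he⟩ := D.exists_chart_gen y
  exact ⟨_, _, he, D.gen_sec hU e⟩

include D in
/-- A generator pulls back to a generator. -/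
theorem bijective_pull (r : X ⟶ P) (x : X) {m : O1.presheaf.stalk (r x)}
    (hm : Function.Bijective fun c : P.presheaf.stalk (r x) => c • m) :
    Function.Bijective fun c : X.presheaf.stalk x => c • pullStalk r O1 x m := by
  haveI := D.isQCoh_O1
  letI : Algebra (P.presheaf.stalk (r x)) (X.presheaf.stalk x) := (r.stalkMap x).hom.toAlgebra
  letI := Module.compHom (((Scheme.Modules.pullback r).obj O1).presheaf.stalk x) (r.stalkMap x).hom
  haveI : IsScalarTower (P.presheaf.stalk (r x)) (X.presheaf.stalk x)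
      (((Scheme.Modules.pullback r).obj O1).presheaf.stalk x) := .of_algebraMap_smul fun _ _ => rfl
  have hbc : IsBaseChange (X.presheaf.stalk x) (pullStalkL r O1 x) := isBaseChange_pullStalkL r O1 x
  let ε : P.presheaf.stalk (r x) ≃ₗ[P.presheaf.stalk (r x)] O1.presheaf.stalk (r x) :=
    LinearEquiv.ofBijective (LinearMap.toSpanSingleton _ _ m) hm
  have e : (fun c : X.presheaf.stalk x => c • pullStalk r O1 x m) =
      hbc.equiv ∘ (TensorProduct.congr (LinearEquiv.refl _ _) ε) ∘
        (TensorProduct.rid (P.presheaf.stalk (r x)) (X.presheaf.stalk x)).symm := by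
    funext c
    show _ = hbc.equiv (TensorProduct.congr _ ε (c ⊗ₜ[P.presheaf.stalk (r x)] (1 : P.presheaf.stalk (r x))))
    rw [TensorProduct.congr_tmul, IsBaseChange.equiv_tmul]
    show c • pullStalk r O1 x m = c • pullStalkL r O1 x ((1 : P.presheaf.stalk (r x)) • m)
    rw [one_smul]
    rfl
  rw [e]
  exact hbc.equiv.bijective.comp ((TensorProduct.congr (LinearEquiv.refl _ _) ε).bijective.comp
    (TensorProduct.rid _ _).symm.bijective)

include D in
theorem stalk_pullAdj (r : X ⟶ P) (hr : r ≫ p = g) {W : Y.Opens} (x : X) (hx : g x ∈ W) (e : Γ(E, W)) :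
    stalkLin (pullAdj hr φ) x (pullStalk g E x (E.presheaf.germ W (g x) hx e)) =
      pullStalk r O1 x (germφ φ (r x) (by subst hr; exact hx) e) :=
  stalkLin_pullAdj hr φ x hx e

include D in
/-- A compatible morphism carries `O(1)` to the quotient. -/
theorem exists_iso_of_compat (s : (Scheme.Modules.pullback g).obj E ⟶ L) {r : X ⟶ P}
    (h : Compat φ (sigma s) (𝟙 X) r) :
    ∃ (hr : r ≫ p = g) (τ : (Scheme.Modules.pullback r).obj O1 ≅ L), pullAdj hr φ ≫ τ.hom = s := by
  have hr : r ≫ p = g := h.1.trans (Category.id_comp g)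
  refine ⟨hr, ?_⟩
  haveI : Epi (((Scheme.Modules.pullbackPushforwardAdjunction p).homEquiv E O1).symm φ) := D.epi_adjunct
  haveI : (Scheme.Modules.pullback r).PreservesEpimorphisms :=
    Functor.preservesEpimorphisms_of_adjunction (Scheme.Modules.pullbackPushforwardAdjunction r)
  haveI : Epi (pullAdj hr φ) := inferInstance
  refine exists_iso_of_stalk (pullAdj hr φ) s (fun x z hz => ?_) fun x => ?_
  all_goals
    obtain ⟨U, hU, e₀, hy, he₀⟩ := D.exists_chart_gen (r x)
    have hx : g x ∈ U := by subst hr; exact hy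
    obtain ⟨hiff, hrat⟩ := h.2 U e₀ x hy hx
    have hbσ : Function.Bijective fun d : X.presheaf.stalk x => d • germφ (sigma s) x hx e₀ :=
      hiff.1 (D.bijective_germφ hU e₀ he₀)
    have hbA := D.bijective_pull r x (D.bijective_germφ hU e₀ he₀)
  · have key : ∀ z, ∃ lam : X.presheaf.stalk x,
        stalkLin (pullAdj hr φ) x z = lam • pullStalk r O1 x (germφ φ (r x) hy e₀) ∧
          stalkLin s x z = lam • germφ (sigma s) x hx e₀ := by
      refine stalk_induction D.hE hU hx _ ⟨0, by simp, by simp⟩ ?_ ?_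
      · rintro a b ⟨l, ha, ha'⟩ ⟨l', hb, hb'⟩
        exact ⟨l + l', by rw [map_add, ha, hb, add_smul], by rw [map_add, ha', hb', add_smul]⟩
      · intro c e
        obtain ⟨c', hc'⟩ := hbσ.2 (germφ (sigma s) x hx e)
        refine ⟨c * c', ?_, ?_⟩
        · rw [LinearMap.map_smul, D.stalk_pullAdj r hr, D.germφ_eq hU e₀ e he₀, pullStalk_smul,
            hrat e _ c' hbσ (D.germφ_eq hU e₀ e he₀).symm hc', mul_smul]
          rw [Scheme.Hom.stalkMap_id]
          rfl
        · rw [LinearMap.map_smul, stalkLin_germσ, mul_smul]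
          exact congrArg (c • ·) hc'.symm
    obtain ⟨lam, h1, h2⟩ := key z
    rw [h1] at hz
    rw [h2, hbA.1 (show lam • _ = (0 : X.presheaf.stalk x) • _ by rw [zero_smul]; exact hz), zero_smul]
  · refine ⟨pullStalk g E x (E.presheaf.germ U (g x) hx e₀), ?_, ?_⟩
    · rw [D.stalk_pullAdj r hr]; exact hbA
    · rw [stalkLin_germσ]; exact hbσ

include D in
/-- Carrying `O(1)` to the quotient forces compatibility. -/
theorem compat_of_iso (s : (Scheme.Modules.pullback g).obj E ⟶ L) {r : X ⟶ P} (hr : r ≫ p = g)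
    (τ : (Scheme.Modules.pullback r).obj O1 ≅ L) (h : pullAdj hr φ ≫ τ.hom = s) :
    Compat φ (sigma s) (𝟙 X) r := by
  subst h
  refine ⟨hr.trans (Category.id_comp g).symm, fun W e₀ x hy hx => ?_⟩
  have hb : Function.Bijective (stalkLin τ.hom x) := (PullbackMod.isIso_iff_stalk τ.hom).1 inferInstance x
  have hσ : ∀ e : Γ(E, W), germφ (sigma (pullAdj hr φ ≫ τ.hom)) x hx e =
      stalkLin τ.hom x (pullStalk r O1 x (germφ φ (r x) hy e)) := fun e => by
    rw [← stalkLin_germσ, ← D.stalk_pullAdj r hr x hx e]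
    obtain ⟨V, hV, z, hz⟩ := TopCat.Presheaf.exists_germ_eq ((Scheme.Modules.pullback g).obj E).presheaf
      (pullStalk g E x (E.presheaf.germ W (g x) hx e))
    rw [← hz, stalkLin_germ _ x hV, stalkLin_germ _ x hV, stalkLin_germ _ x hV]
    rfl
  obtain ⟨U, hU, e₁, hyU, he₁⟩ := D.exists_chart_gen (r x)
  have h1 := D.bijective_germφ hU e₁ he₁
  have h2 : Function.Bijective fun c : X.presheaf.stalk x =>
      c • stalkLin τ.hom x (pullStalk r O1 x (germφ φ (r x) hyU e₁)) := by
    have : (fun c : X.presheaf.stalk x => c • stalkLin τ.hom x (pullStalk r O1 x (germφ φ (r x) hyU e₁))) =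
        stalkLin τ.hom x ∘ fun c => c • pullStalk r O1 x (germφ φ (r x) hyU e₁) :=
      funext fun c => (LinearMap.map_smul _ c _).symm
    rw [this]
    exact hb.comp (D.bijective_pull r x h1)
  have hmul : ∀ e : Γ(E, W), ∃ d : P.presheaf.stalk (r x), d • germφ φ (r x) hyU e₁ = germφ φ (r x) hy e ∧
      germφ (sigma (pullAdj hr φ ≫ τ.hom)) x hx e =
        r.stalkMap x d • stalkLin τ.hom x (pullStalk r O1 x (germφ φ (r x) hyU e₁)) := fun e => by
    obtain ⟨d, hd⟩ := h1.2 (germφ φ (r x) hy e)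
    refine ⟨d, hd, ?_⟩
    rw [hσ, ← hd, pullStalk_smul, LinearMap.map_smul]
  obtain ⟨d₀, hd₀, hd₀'⟩ := hmul e₀
  refine ⟨?_, fun e c c' hbb hc hc' => ?_⟩
  · show _ ↔ Function.Bijective fun c : X.presheaf.stalk x => c • germφ (sigma (pullAdj hr φ ≫ τ.hom)) x hx e₀
    rw [← hd₀, hd₀', AmpleLib.bijective_smul_iff h1, AmpleLib.bijective_smul_iff h2]
    exact (isUnit_map_iff (r.stalkMap x).hom d₀).symm
  · obtain ⟨d, hd, hd'⟩ := hmul e
    change Function.Bijective fun d : X.presheaf.stalk x => d • germφ (sigma (pullAdj hr φ ≫ τ.hom)) x hx e₀ at hbb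
    change (show X.presheaf.stalk x from c') • germφ (sigma (pullAdj hr φ ≫ τ.hom)) x hx e₀ =
      germφ (sigma (pullAdj hr φ ≫ τ.hom)) x hx e at hc'
    rw [hd₀', AmpleLib.bijective_smul_iff h2] at hbb
    rw [← hd₀, ← hd, ← mul_smul] at hc
    rw [hd₀', hd', ← mul_smul] at hc'
    have e1 := congrArg (r.stalkMap x).hom (h1.1 hc)
    have e2 := h2.1 hc'
    rw [map_mul] at e1
    rw [Scheme.Hom.stalkMap_id]
    exact hbb.mul_right_cancel (e1.trans e2.symm)

include D in
theorem existsUnique_factor (hL : PicF.IsInvertible L) (s : (Scheme.Modules.pullback g).obj E ⟶ L) [Epi s] :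
    ∃! r : X ⟶ P, ∃ (hr : r ≫ p = g) (τ : (Scheme.Modules.pullback r).obj O1 ≅ L), pullAdj hr φ ≫ τ.hom = s := by
  obtain ⟨r, hr, huniq⟩ := existsUnique_compat D hL s
  exact ⟨r, D.exists_iso_of_compat s hr, fun r' ⟨h1, τ, h2⟩ => huniq r' (D.compat_of_iso s h1 τ h2)⟩

end PData

end Groth.Agent.ProjBundleLib
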