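import Groth.Agent.ProjBundleLib.ClosedProj
import Groth.Agent.ProjBundleLib.GrSym
import Groth.Agent.ProjBundleLib.Quot
import Groth.Agent.S8259
import Groth.Agent.S8261
import Groth.Agent.SpecQCAlg.Basic
import Groth.Agent.QCohLib.FiniteType

/-! Graded morphisms out of a symmetric algebra; closed subschemes of projective bundles are projective. -/

set_option autoImplicit false
set_option linter.style.haveILetI false
set_option backward.isDefEq.respectTransparency false

universe u

open CategoryTheory CategoryTheory.Limits AlgebraicGeometry TopologicalSpace Opposite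
open Groth.Agent.ParaFLib Groth.Agent.RelSpecLib Groth.Agent.PullbackMod
open scoped HomogeneousIdeal

noncomputable section

namespace Groth.Agent.ProjBundleLib

variable {X Y : Scheme.{u}}

/-- A map of modules into a direct image extends to a graded morphism of symmetric algebras. -/
theorem exists_qGrHom {g : X ⟶ Y} [QuasiCompact g] [QuasiSeparated g] {E : Y.Modules} (hE : Coh.IsQCoh E)
    {𝒯 : RelProj.QCGrAlg Y} {j : E ⟶ 𝒯.toModule} (hj : RelProj.IsGrSymAlg E 𝒯 j)
    {L : X.Modules} {𝒮 : RelProj.QCGrAlg X} {jL : L ⟶ 𝒮.toModule}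
    (hjL : ∀ (V : X.Opens) (hV : IsAffineOpen V) (s : Γ(L, V)), (jL.app V) s ∈ 𝒮.deg V hV 1)
    (σ : E ⟶ (Scheme.Modules.pushforward g).obj L) :
    ∃ u : RelProj.QGrHom g 𝒯 𝒮, ∀ (U : Y.Opens) (x : Γ(E, U)),
      (u.app U).hom ((j.app U) x) = (jL.app (g ⁻¹ᵁ U)) (σ.app U x) := by
  classical
  let B := 𝒮.toQCAlg
  haveI := Groth.Agent.SpecQCAlg.isIso_gammaMap B
  let C : RelSpec.QCAlg Y := RelSpec.QCAlg.directImage (B.π ≫ g)
  let down : ∀ U : Y.Opens, C.presheaf.obj (op U) ⟶ B.presheaf.obj (op (g ⁻¹ᵁ U)) :=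
    fun U => B.gammaMap.app (op (g ⁻¹ᵁ U))
  let up : ∀ U : Y.Opens, B.presheaf.obj (op (g ⁻¹ᵁ U)) ⟶ C.presheaf.obj (op U) :=
    fun U => (inv B.gammaMap).app (op (g ⁻¹ᵁ U))
  have hud : ∀ U, up U ≫ down U = 𝟙 _ := fun U => by
    show (inv B.gammaMap).app (op (g ⁻¹ᵁ U)) ≫ B.gammaMap.app (op (g ⁻¹ᵁ U)) = _
    rw [← NatTrans.comp_app, IsIso.inv_hom_id, NatTrans.id_app]
  have hnat : ∀ {U V : Y.Opens} (i : V ≤ U), B.presheaf.map (homOfLE (g.preimage_mono i)).op ≫ up V =
      up U ≫ C.presheaf.map (homOfLE i).op := fun {U V} i => (inv B.gammaMap).naturality (homOfLE (g.preimage_mono i)).op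
  have hnat' : ∀ {U V : Y.Opens} (i : V ≤ U), down U ≫ B.presheaf.map (homOfLE (g.preimage_mono i)).op =
      C.presheaf.map (homOfLE i).op ≫ down V := fun {U V} i =>
    (B.gammaMap.naturality (homOfLE (g.preimage_mono i)).op).symm
  have hstr : ∀ U : Y.Opens, C.str.app (op U) ≫ down U = g.app U ≫ B.str.app (op (g ⁻¹ᵁ U)) := fun U => by
    show (B.π ≫ g).app U ≫ B.gammaMap.app (op (g ⁻¹ᵁ U)) = _
    rw [Scheme.Hom.comp_app, Category.assoc]
    congr 1
    exact NatTrans.congr_app B.π_c_gammaMap (op (g ⁻¹ᵁ U))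
  let σ' : E ⟶ C.toModule := ⟨PresheafOfModules.homMk
    { app := fun U => AddCommGrpCat.ofHom ((up U.unop).hom.toAddMonoidHom.comp
        ((jL.app (g ⁻¹ᵁ U.unop)).hom.comp (σ.app U.unop).hom))
      naturality := fun U V i => by
        refine AddCommGrpCat.ext fun m => ?_
        show (up V.unop).hom (jL.app (g ⁻¹ᵁ V.unop) (σ.app V.unop (E.presheaf.map i m))) =
          (C.presheaf.map i).hom ((up U.unop).hom (jL.app (g ⁻¹ᵁ U.unop) (σ.app U.unop m)))
        have hi : i = (homOfLE i.unop.le).op := Subsingleton.elim _ _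
        rw [hi]
        refine Eq.trans ?_ (congr(($(hnat i.unop.le)).hom (jL.app (g ⁻¹ᵁ U.unop) (σ.app U.unop m))))
        refine congrArg (up V.unop).hom ?_
        erw [ConcreteCategory.congr_hom (σ.mapPresheaf.naturality (homOfLE i.unop.le).op) m]
        exact (RelSpecLib.res_jsec B jL (g.preimage_mono i.unop.le) (σ.app U.unop m)).symm }
    fun U r m => by
      show (up U.unop).hom (jL.app (g ⁻¹ᵁ U.unop) (σ.app U.unop (r • m))) =
        (C.str.app U).hom r * (up U.unop).hom (jL.app (g ⁻¹ᵁ U.unop) (σ.app U.unop m))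
      have h1 : σ.app U.unop (r • m) = (g.app U.unop).hom r • (show Γ(L, g ⁻¹ᵁ U.unop) from σ.app U.unop m) :=
        Scheme.Modules.Hom.app_smul σ r m
      rw [h1]
      erw [Scheme.Modules.Hom.app_smul jL]
      refine (map_mul (up U.unop).hom _ _).trans (congrArg (· * _) ?_)
      have h2 : (C.str.app U).hom r = ((C.str.app U ≫ down U.unop) ≫ up U.unop).hom r := by
        have hdu : down U.unop ≫ up U.unop = 𝟙 _ := by
          show B.gammaMap.app (op (g ⁻¹ᵁ U.unop)) ≫ (inv B.gammaMap).app (op (g ⁻¹ᵁ U.unop)) = _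
          rw [← NatTrans.comp_app, IsIso.hom_inv_id, NatTrans.id_app]
          rfl
        exact congr(($(((congrArg (C.str.app (op U.unop) ≫ ·) hdu).trans (Category.comp_id _)).symm.trans
          (Category.assoc _ _ _).symm)).hom r)
      rw [h2, hstr]
      rfl⟩
  obtain ⟨ψ, hψ, -⟩ := hj.1 C σ'
  let app : ∀ U : Y.Opens, 𝒯.presheaf.obj (op U) ⟶ B.presheaf.obj (op (g ⁻¹ᵁ U)) :=
    fun U => ψ.hom.app (op U) ≫ down U
  have happ_str : ∀ U : Y.Opens, 𝒯.str.app (op U) ≫ app U = g.app U ≫ B.str.app (op (g ⁻¹ᵁ U)) := fun U => by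
    show 𝒯.str.app (op U) ≫ ψ.hom.app (op U) ≫ down U = _
    rw [← Category.assoc, ← NatTrans.comp_app, ψ.comm, hstr]
  have happ_j : ∀ (U : Y.Opens) (x : Γ(E, U)), (app U).hom ((j.app U) x) = (jL.app (g ⁻¹ᵁ U)) (σ.app U x) :=
    fun U x => by
      show (down U).hom ((ψ.hom.app (op U)).hom ((j.app U) x)) = _
      rw [show (ψ.hom.app (op U)).hom ((j.app U) x) = (up U).hom (jL.app (g ⁻¹ᵁ U) (σ.app U x)) from
        congr(($hψ).app U x)]
      exact congr(($(hud U)).hom (jL.app (g ⁻¹ᵁ U) (σ.app U x)))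
  let q : RelSpec.QHom g 𝒯.toQCAlg 𝒮.toQCAlg :=
    { app := app
      naturality := fun {U V} i => by
        show (ψ.hom.app (op U) ≫ down U) ≫ _ = _ ≫ ψ.hom.app (op V) ≫ down V
        rw [Category.assoc, hnat' i, ← Category.assoc, ← Category.assoc, ψ.hom.naturality]
      str_app := happ_str }
  refine ⟨{ toQHom := q, map_mem := ?_ }, happ_j⟩
  intro U hU U' hU' hle
  let f := (q.appLE U U' hle).hom
  have hs : ∀ r, f ((𝒯.str.app (op U)).hom r) ∈ 𝒮.deg U' hU' 0 := fun r => by
    show (B.presheaf.map (homOfLE hle).op).hom ((app U).hom ((𝒯.str.app (op U)).hom r)) ∈ _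
    rw [← CommRingCat.comp_apply (𝒯.str.app _), happ_str, CommRingCat.comp_apply,
      ← CommRingCat.comp_apply (B.str.app _), ← B.str.naturality, CommRingCat.comp_apply]
    exact 𝒮.str_mem U' hU' _
  have hj1 : ∀ e, f (jsec 𝒯.toQCAlg j e) ∈ 𝒮.deg U' hU' 1 := fun e => by
    show (B.presheaf.map (homOfLE hle).op).hom ((app U).hom ((j.app U) e)) ∈ _
    rw [happ_j]
    erw [RelSpecLib.res_jsec B jL hle (σ.app U e)]
    exact hjL U' hU' _
  intro d x hx
  have key : ∀ (a : 𝒯.presheaf.obj (op U)) (d : ℕ),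
      f (DirectSum.decompose (𝒯.deg U hU) a d : 𝒯.presheaf.obj (op U)) ∈ 𝒮.deg U' hU' d := fun a => by
    have ha : a ∈ gen 𝒯.toQCAlg j U := by rw [gen_eq_top _ _ hE hj.1 hU]; trivial
    induction ha using Subring.closure_induction with
    | mem z hz =>
      intro d
      rcases hz with ⟨r, rfl⟩ | ⟨e, rfl⟩
      · rcases eq_or_ne d 0 with rfl | hd
        · rw [DirectSum.decompose_of_mem_same _ (𝒯.str_mem U hU r)]; exact hs r
        · rw [DirectSum.decompose_of_mem_ne _ (𝒯.str_mem U hU r) hd.symm, map_zero]; exact zero_mem _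
      · have he : jsec 𝒯.toQCAlg j e ∈ 𝒯.deg U hU 1 := hj.2 U hU e
        rcases eq_or_ne d 1 with rfl | hd
        · rw [DirectSum.decompose_of_mem_same _ he]; exact hj1 e
        · rw [DirectSum.decompose_of_mem_ne _ he hd.symm, map_zero]; exact zero_mem _
    | zero => intro d; simp
    | one =>
      intro d
      have h1 : (1 : 𝒯.presheaf.obj (op U)) ∈ 𝒯.deg U hU 0 := SetLike.GradedOne.one_mem
      rcases eq_or_ne d 0 with rfl | hd
      · rw [DirectSum.decompose_of_mem_same _ h1, map_one]; exact SetLike.GradedOne.one_mem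
      · rw [DirectSum.decompose_of_mem_ne _ h1 hd.symm, map_zero]; exact zero_mem _
    | add a b _ _ ha hb =>
      intro d
      rw [DirectSum.decompose_add, DirectSum.add_apply, AddMemClass.coe_add, map_add]
      exact add_mem (ha d) (hb d)
    | neg a _ ha =>
      intro d
      rw [DirectSum.decompose_neg]
      show f ((-(DirectSum.decompose (𝒯.deg U hU) a d) : _) : 𝒯.presheaf.obj (op U)) ∈ _
      rw [NegMemClass.coe_neg, map_neg]
      exact neg_mem (ha d)
    | mul a b _ _ ha hb =>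
      intro d
      rw [DirectSum.decompose_mul, DirectSum.coe_mul_apply_eq_sum_antidiagonal, map_sum]
      refine sum_mem fun ij hij => ?_
      rw [map_mul, ← Finset.HasAntidiagonal.mem_antidiagonal.1 hij]
      exact SetLike.mul_mem_graded (ha _) (hb _)
  have h := key x d
  rwa [DirectSum.decompose_of_mem_same _ hx] at h

variable {P : Scheme.{u}} {p : P ⟶ Y} {E : Y.Modules} {O1 : P.Modules}
  {φ : E ⟶ (Scheme.Modules.pushforward p).obj O1}

theorem PData.isSeparated (D : PData p E O1 φ) : IsSeparated p := Groth.Agent.S8259.result D.S p D.chart D.hP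

theorem PData.isFTDeg_one (D : PData p E O1 φ) (hft : CohB1.IsFT E) : D.S.IsFTDeg 1 := by
  classical
  intro U hU
  haveI := D.hE
  haveI := QCohLib.finite_sections E hft hU
  obtain ⟨T, hT⟩ := (Module.finite_def.1 (inferInstance : Module.Finite Γ(Y, U) Γ(E, U)))
  refine ⟨T.image fun e => (D.el hU e).1, fun b hb => ?_, fun x hx => ?_⟩
  · obtain ⟨e, -, rfl⟩ := Finset.mem_image.1 hb
    exact (D.el hU e).2
  · obtain ⟨e, he⟩ := D.exists_el hU ⟨x, hx⟩
    have hmem : e ∈ Submodule.span Γ(Y, U) (T : Set Γ(E, U)) := by rw [hT]; trivial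
    obtain ⟨c, -, hc⟩ := Submodule.mem_span_finset.1 hmem
    refine ⟨fun b => ∑ t ∈ T.filter (fun t => (D.el hU t).1 = b), c t, ?_⟩
    obtain rfl : (D.el hU e).1 = x := congrArg Subtype.val he
    rw [← hc]
    show jsec D.S.toQCAlg D.j (∑ t ∈ T, c t • t) = _
    rw [show jsec D.S.toQCAlg D.j (∑ t ∈ T, c t • t) = ∑ t ∈ T, jsec D.S.toQCAlg D.j (c t • t) from
      map_sum (D.j.app U).hom _ _,
      ← Finset.sum_fiberwise_of_maps_to (fun t ht => Finset.mem_image_of_mem (fun e => (D.el hU e).1) ht)]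
    refine Finset.sum_congr rfl fun b _ => ?_
    rw [map_sum, Finset.sum_mul]
    refine Finset.sum_congr rfl fun t ht => ?_
    rw [jsec_smul]
    exact congrArg _ (Finset.mem_filter.1 ht).2

include φ in
/-- A closed subscheme of a projective bundle of a module of finite type is projective. -/
theorem PData.isProjective_of_isClosedImmersion (D : PData p E O1 φ) (hft : CohB1.IsFT E) {f : X ⟶ Y} (i : X ⟶ P)
    [IsClosedImmersion i] (hi : i ≫ p = f) : RelProj.IsProjective f := by
  haveI := D.isSeparated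
  haveI : QuasiCompact p :=
    (Groth.Agent.S8261.result D.S (fun U hU => D.closure_deg hU) (D.isFTDeg_one hft) p D.chart D.hP).2
  subst hi
  have hL : PicF.IsInvertible ((Scheme.Modules.pullback i).obj O1) := AmpleLib.isInvertible_pullback i (D.isInvertible_O1)
  haveI := InvExt.isQCoh_of_isInvertible hL
  obtain ⟨𝒮L, jL, hjL⟩ := exists_isGrSymAlg (InvExt.isQCoh_of_isInvertible hL)
  obtain ⟨u, hu⟩ := exists_qGrHom D.hE D.hj hjL.2 (D.taut (g := i ≫ p) rfl)
  obtain ⟨chart, hch⟩ := exists_relProj_imgAlg D i u (D.compat_taut rfl) hL hjL hu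
  exact ⟨imgAlg u, X, i ≫ p, chart, Iso.refl X, isGenDegOne_imgAlg u (fun U hU => D.closure_deg hU),
    isFTDeg_imgAlg u (D.isFTDeg_one hft), hch, Category.id_comp _⟩

end Groth.Agent.ProjBundleLib
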