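import Groth.Agent.ProjBundleLib.RelAmpleVA
import Groth.Agent.ProjBundleLib.GenDegOne
import Groth.Agent.S8287
import Groth.Agent.AmpleEmb.Compose
import Groth.Agent.RelProjLib.RLpsiGlobal

/-! Immersions into projective bundles as dense opens of relative `Proj`s. -/

set_option autoImplicit false
set_option linter.style.haveILetI false
set_option backward.isDefEq.respectTransparency false

universe u

open CategoryTheory CategoryTheory.Limits AlgebraicGeometry TopologicalSpace Opposite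
open Groth.Agent.ParaFLib Groth.Agent.RelSpecLib Groth.Agent.PullbackMod Groth.Agent.RelProjLib
open scoped HomogeneousIdeal

noncomputable section

namespace Groth.Agent.ProjBundleLib

variable {X Y P : Scheme.{u}} {p : P ⟶ Y} {E : Y.Modules} {O1 : P.Modules}
  {φ : E ⟶ (Scheme.Modules.pushforward p).obj O1}

include φ in
/-- A closed subscheme of a bundle is a relative `Proj` with `O(1)` the restriction of that of the bundle. -/
theorem PData.exists_proj_closed (D : PData p E O1 φ) (hft : CohB1.IsFT E) {Z : Scheme.{u}} (i : Z ⟶ P)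
    [IsClosedImmersion i] {g : Z ⟶ Y} (hi : i ≫ p = g) :
    ∃ (𝒮 : RelProj.QCGrAlg Y)
      (chart : ∀ (U : Y.Opens) (hU : IsAffineOpen U), ((g ⁻¹ᵁ U : Z.Opens) : Scheme.{u}) ≅ Proj (𝒮.deg U hU))
      (O : Z.Modules)
      (lam : ∀ (U : Y.Opens) (hU : IsAffineOpen U),
        O ⟶ (Scheme.Modules.pushforward (RelProj.emb g chart U hU)).obj (GrTwist.twist (𝒮.deg U hU) 1)),
      𝒮.IsGenDegOne ∧ 𝒮.IsFTDeg 1 ∧ RelProj.IsRelProj 𝒮 g chart ∧ RelProj.IsRelTwist 𝒮 g chart 1 O lam ∧
        Nonempty ((Scheme.Modules.pullback i).obj O1 ≅ O) := by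
  haveI := D.isSeparated
  haveI : QuasiCompact p :=
    (Groth.Agent.S8261.result D.S (fun U hU => D.closure_deg hU) (D.isFTDeg_one hft) p D.chart D.hP).2
  subst hi
  have hL : PicF.IsInvertible ((Scheme.Modules.pullback i).obj O1) := AmpleLib.isInvertible_pullback i (D.isInvertible_O1)
  haveI := InvExt.isQCoh_of_isInvertible hL
  obtain ⟨𝒮L, jL, hjL⟩ := exists_isGrSymAlg (InvExt.isQCoh_of_isInvertible hL)
  obtain ⟨u, hu⟩ := exists_qGrHom D.hE D.hj hjL.2 (D.taut (g := i ≫ p) rfl)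
  have hc := D.compat_taut (r := i) (g := i ≫ p) rfl
  choose θ hθ using fun (U : Y.Opens) (hU : IsAffineOpen U) => exists_iso D i u hc hL hjL hu hU
  obtain ⟨chart, hch, hce⟩ : ∃ chart : ∀ (U : Y.Opens) (hU : IsAffineOpen U),
      (((i ≫ p) ⁻¹ᵁ U : Z.Opens) : Scheme.{u}) ≅ Proj ((imgAlg u).deg U hU),
      RelProj.IsRelProj (imgAlg u) (i ≫ p) chart ∧ ∀ (U : Y.Opens) (hU : IsAffineOpen U),
        (chart U hU).hom ≫ Proj.map (imgHom u U hU) (imgHom_irrelevant u U hU) ≫ D.emb hU = ((i ≫ p) ⁻¹ᵁ U).ι ≫ i := by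
    refine ⟨θ, ⟨fun U hU => ?_, fun U hU r => ?_⟩, hθ⟩
    · rw [show ((i ≫ p) ⁻¹ᵁ U).ι ≫ i ≫ p = (((i ≫ p) ⁻¹ᵁ U).ι ≫ i) ≫ p from (Category.assoc _ _ _).symm,
        ← hθ U hU]
      simp only [Category.assoc]
      congr 1
      rw [show D.emb hU ≫ p = Proj.toSpecZero (D.S.deg U hU) ≫ Spec.map (D.S.strZero U hU) ≫ hU.fromSpec by
        show ((D.chart U hU).inv ≫ (p ⁻¹ᵁ U).ι) ≫ p = _
        rw [Category.assoc, ← D.hP.chart_over U hU, Iso.inv_hom_id_assoc], reassoc_of% map_toSpecZero,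
        ← Spec.map_comp_assoc]
      congr 3
      exact CommRingCat.hom_ext (RingHom.ext fun r => Subtype.ext (imgHom_str u U hU r).symm)
    · haveI : ∀ (V : Y.Opens) (hV : IsAffineOpen V), IsClosedImmersion
          (Proj.map (imgHom u V hV) (imgHom_irrelevant u V hV)) := fun V hV =>
        isClosedImmersion_map_pos _ _ fun n _ b hb => by
          obtain ⟨a, ha, rfl⟩ := hb
          exact ⟨a, ha, rfl⟩
      rw [← cancel_mono (Proj.map (imgHom u U hU) (imgHom_irrelevant u U hU) ≫ D.emb hU)]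
      simp only [Category.assoc]
      rw [hθ U hU, Scheme.homOfLE_ι_assoc, ← hθ (Y.basicOpen r) (hU.basicOpen r)]
      congr 1
      have hr : Proj.map (D.S.res hU (hU.basicOpen r) (Y.basicOpen_le r)) (D.S.irrelevant_le_map U hU r) ≫ D.emb hU =
          D.emb (hU.basicOpen r) := by
        show _ ≫ (D.chart U hU).inv ≫ (p ⁻¹ᵁ U).ι = (D.chart _ _).inv ≫ (p ⁻¹ᵁ Y.basicOpen r).ι
        rw [← cancel_epi (D.chart _ (hU.basicOpen r)).hom, Iso.hom_inv_id_assoc, ← reassoc_of% D.hP.chart_res U hU r,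
          Iso.hom_inv_id_assoc, Scheme.homOfLE_ι]
      rw [← hr, ← Category.assoc, ← Category.assoc]
      congr 1
      rw [← Proj.map_comp, ← Proj.map_comp]
      exact proj_map_congr (GradedRingHom.ext fun a => (imgHom_res u hU (hU.basicOpen r) (Y.basicOpen_le r) a).symm) _ _
  obtain ⟨O, lam, hO⟩ := S8284.result (imgAlg u) (i ≫ p) chart hch 1
  obtain ⟨F, hF⟩ := exists_hom_of_affine (E := E) (N := (imgAlg u).toModule)
    (fun U => (imgHom u U.1 U.2 : D.S.presheaf.obj (op U.1) →+* (imgAlg u).presheaf.obj (op U.1)).toAddMonoidHom.comp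
      (D.j.app U.1).hom)
    (fun U hU r e => by
      refine (imgHom_res u hU (hU.basicOpen r) (Y.basicOpen_le r) (jsec D.S.toQCAlg D.j e)).trans ?_
      exact congrArg (imgHom u (Y.basicOpen r) (hU.basicOpen r)) (res_jsec D.S.toQCAlg D.j (Y.basicOpen_le r) e))
    (fun U a e => by
      show imgHom u U.1 U.2 (jsec D.S.toQCAlg D.j (a • e)) = ((imgAlg u).str.app (op U.1)).hom a *
        imgHom u U.1 U.2 (jsec D.S.toQCAlg D.j e)
      rw [jsec_smul, map_mul, imgHom_str])
  obtain ⟨v, hvg, hv⟩ := exists_symHom D.hE D.hj F fun U hU x => by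
    rw [hF U hU x]
    exact (imgHom u U hU).map_mem (D.hj.2 U hU x)
  have hve : ∀ (U : Y.Opens) (hU : IsAffineOpen U), RelProj.gradedHomAt v hvg U hU = imgHom u U hU := fun U hU => by
    refine GradedRingHom.ext fun a => ?_
    have ha : a ∈ gen D.S.toQCAlg D.j U := by rw [gen_eq_top _ _ D.hE D.hj.1 hU]; trivial
    induction ha using Subring.closure_induction with
    | mem z hz =>
      rcases hz with ⟨r, rfl⟩ | ⟨e, rfl⟩
      · refine Eq.trans ?_ (imgHom_str u U hU r).symm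
        exact congr(($(NatTrans.congr_app v.comm (op U))).hom r)
      · exact (congr(($hv).app U e)).trans (hF U hU e)
    | zero => simp
    | one => simp
    | add a b _ _ ha hb => rw [map_add, map_add, ha, hb]
    | neg a _ ha => rw [map_neg, map_neg, ha]
    | mul a b _ _ ha hb => rw [map_mul, map_mul, ha, hb]
  have hirr : ∀ (U : Y.Opens) (hU : IsAffineOpen U),
      ((imgAlg u).deg U hU)₊ ≤ ((D.S.deg U hU)₊).map (RelProj.gradedHomAt v hvg U hU) := fun U hU => by
    rw [hve U hU]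
    exact imgHom_irrelevant u U hU
  obtain ⟨τ⟩ := S8287.result v hvg (fun U hU => D.closure_deg hU)
    (fun U hU b => by
      obtain ⟨a, ha⟩ := imgHom_surjective u U hU b
      exact ⟨a, (congrArg (fun t => (t a : (imgAlg u).presheaf.obj (op U))) (hve U hU)).trans ha⟩)
    hirr p (i ≫ p) D.chart chart D.hP hch i
    (fun U hU => by
      rw [← hce U hU]
      congr 1
      show _ ≫ (D.chart U hU).inv ≫ (p ⁻¹ᵁ U).ι = _
      congr 1
      exact proj_map_congr (hve U hU).symm _ _)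
    1 O1 D.lam D.hO1 O lam hO
  exact ⟨imgAlg u, chart, O, lam, isGenDegOne_imgAlg u (fun U hU => D.closure_deg hU),
    isFTDeg_imgAlg u (D.isFTDeg_one hft), hch, hO, ⟨τ⟩⟩

/-- A quasi-projective morphism over a qcqs scheme is a dense open of a projective one. -/
theorem exists_open_projective [CompactSpace Y] [QuasiSeparatedSpace Y] {f : X ⟶ Y}
    (hf : RelProj.IsQuasiProjective f) :
    ∃ (X' : Scheme.{u}) (j : X ⟶ X') (g : X' ⟶ Y),
      IsOpenImmersion j ∧ IsDominant j ∧ RelProj.IsProjective g ∧ j ≫ g = f := by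
  obtain ⟨E, P, p, O1, φ, D, k, hE, hk, hkp⟩ := exists_immersion_ft hf
  haveI := hk
  haveI := D.isSeparated
  haveI := hf.2.1
  haveI : QuasiCompact (k ≫ p) := by rw [hkp]; infer_instance
  haveI : QuasiCompact k := QuasiCompact.of_comp k p
  exact ⟨k.image, k.toImage, k.imageι ≫ p, inferInstance, inferInstance,
    D.isProjective_of_isClosedImmersion hE k.imageι rfl, by rw [← Category.assoc, k.toImage_imageι, hkp]⟩

/-- A quasi-compact immersion into a projective scheme is quasi-projective. -/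
theorem isQuasiProjective_of_immersion {P : Scheme.{u}} {g : P ⟶ Y} (hg : RelProj.IsProjective g) (i : X ⟶ P)
    [IsImmersion i] [QuasiCompact i] {f : X ⟶ Y} (hi : i ≫ g = f) : RelProj.IsQuasiProjective f := by
  obtain ⟨E, Q, q, O1, φ, D, k, hE, hk, hkq⟩ := exists_closed_of_isProjective hg
  haveI := hk
  haveI := D.isProper hE
  have hf : (i ≫ k) ≫ q = f := by rw [Category.assoc, hkq, hi]
  haveI : QuasiCompact f := by rw [← hf]; infer_instance
  haveI : LocallyOfFiniteType f := by rw [← hf]; infer_instance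
  exact ⟨inferInstance, inferInstance, _, D.isRelAmple_pullback (i ≫ k) hf (i ≫ k).isEmbedding.isInducing⟩

/-- Locally over a quasi-projective morphism, there are embeddings in projective spaces. -/
theorem isHQuasiProjective_restrict {f : X ⟶ Y} {U V : Y.Opens} (hVU : V ≤ U) (hV : IsAffineOpen V)
    (h : RelProj.IsQuasiProjective (f ∣_ U)) : RelProj.IsHQuasiProjective (f ∣_ V) := by
  obtain ⟨hft, hqc, L, hL⟩ := h
  haveI : LocallyOfFiniteType (f ∣_ V) := RelProjLib.restrict_of_le f @LocallyOfFiniteType hVU hft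
  haveI : QuasiCompact (f ∣_ V) := RelProjLib.restrict_of_le f @QuasiCompact hVU hqc
  have hW : IsAffineOpen (U.ι ⁻¹ᵁ V) := hV.preimage_of_isOpenImmersion _ (hVU.trans U.opensRange_ι.ge)
  let j : ((f ⁻¹ᵁ V : X.Opens) : Scheme.{u}) ⟶ (f ⁻¹ᵁ U : X.Opens) := X.homOfLE (f.preimage_mono hVU)
  have hj : j.opensRange = (f ∣_ U) ⁻¹ᵁ (U.ι ⁻¹ᵁ V) := by
    refine TopologicalSpace.Opens.ext (Set.ext fun z => ⟨?_, fun hz => ?_⟩)
    · rintro ⟨w, rfl⟩
      show (f ∣_ U ≫ U.ι) (j w) ∈ V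
      rw [morphismRestrict_ι]
      show f ((j ≫ (f ⁻¹ᵁ U).ι) w) ∈ V
      rw [X.homOfLE_ι]
      exact w.2
    · have hz' : (f ∣_ U ≫ U.ι) z ∈ V := hz
      rw [morphismRestrict_ι] at hz'
      refine ⟨⟨z.1, hz'⟩, (f ⁻¹ᵁ U).ι.isOpenEmbedding.injective ?_⟩
      exact congrArg (fun t => t (⟨z.1, hz'⟩ : (f ⁻¹ᵁ V : X.Opens).toScheme)) (X.homOfLE_ι (f.preimage_mono hVU))
  have hamp : CohB1.IsAmple (L.restrict j) := (AmpleLib.ampleOn_iff_of_range j).2 (hj ▸ hL.2 ⟨_, hW⟩)
  obtain ⟨n, i, hi, hif⟩ := AmpleEmb.exists_immersion_of_isAmple (f ∣_ V) hamp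
  haveI := hi
  haveI : QuasiCompact (i ≫ CohB1.ProjSpaceOver.toBase n V) := by rw [hif]; infer_instance
  haveI : QuasiCompact i := QuasiCompact.of_comp i (CohB1.ProjSpaceOver.toBase n V)
  exact ⟨n, i, hi, inferInstance, hif⟩

end Groth.Agent.ProjBundleLib
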