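import Groth.Agent.ProjBundleLib.Chart
import Groth.Agent.ProjBundleLib.Adjunct
import Groth.Agent.GrModLib.Twist

/-! Morphisms to a projective bundle compatible with an invertible quotient, point by point. -/

set_option autoImplicit false
set_option linter.style.haveILetI false
set_option backward.isDefEq.respectTransparency false

universe u

open CategoryTheory CategoryTheory.Limits AlgebraicGeometry TopologicalSpace Opposite
open Groth.Agent.ParaFLib Groth.Agent.RelSpecLib Groth.Agent.PullbackMod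

noncomputable section

namespace Groth.Agent.ProjBundleLib

variable {Y P X : Scheme.{u}} {p : P ⟶ Y} {E : Y.Modules} {O1 : P.Modules}
  {φ : E ⟶ (Scheme.Modules.pushforward p).obj O1}

/-- The germ of the canonical section of `e`. -/
def germφ (φ : E ⟶ (Scheme.Modules.pushforward p).obj O1) {W : Y.Opens} (y : P) (hy : p y ∈ W) (e : Γ(E, W)) :
    O1.presheaf.stalk y :=
  O1.presheaf.germ (p ⁻¹ᵁ W) y hy (φ.app W e)

theorem germφ_res {W W' : Y.Opens} (h : W' ≤ W) (y : P) (hy : p y ∈ W') (e : Γ(E, W)) :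
    germφ φ y hy (E.presheaf.map (homOfLE h).op e) = germφ φ y (h hy) e := by
  unfold germφ
  erw [ConcreteCategory.congr_hom (φ.mapPresheaf.naturality (homOfLE h).op) e]
  exact TopCat.Presheaf.germ_res_apply O1.presheaf (homOfLE (p.preimage_mono h)) y hy _

theorem germφ_smul {W : Y.Opens} (y : P) (hy : p y ∈ W) (r : Γ(Y, W)) (e : Γ(E, W)) :
    germφ φ y hy (r • e) = P.presheaf.germ (p ⁻¹ᵁ W) y hy (p.app W r) • germφ φ y hy e := by
  unfold germφ
  erw [Scheme.Modules.Hom.app_smul φ r e]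
  exact germ_smul' y hy _ _

namespace PData

variable (D : PData p E O1 φ) {U : Y.Opens} (hU : IsAffineOpen U)

include D in
theorem isQCoh_O1 : Coh.IsQCoh O1 :=
  RelTildeLib.isQCoh_of_charts D.hO1.bijective fun V hV => GrModLib.isQCoh_twist (D.S.deg V hV) 1

theorem germ_sec (e₀ e : Γ(E, U)) {y : P} (hy : y ∈ D.DPl hU e₀) :
    O1.presheaf.germ (D.DPl hU e₀) y hy (D.sec hU e₀ e) = germφ φ y (D.DPl_le hU e₀ hy) e :=
  TopCat.Presheaf.germ_res_apply O1.presheaf (homOfLE (D.DPl_le hU e₀)) y hy _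

theorem bijective_germφ (e₀ : Γ(E, U)) {y : P} (hy : y ∈ D.DPl hU e₀) :
    Function.Bijective fun c : P.presheaf.stalk y => c • germφ φ y (D.DPl_le hU e₀ hy) e₀ := by
  rw [← D.germ_sec hU e₀ e₀ hy]
  exact (D.gen_sec hU e₀).bijective_germ y hy

theorem germφ_eq (e₀ e : Γ(E, U)) {y : P} (hy : y ∈ D.DPl hU e₀) :
    germφ φ y (D.DPl_le hU e₀ hy) e =
      P.presheaf.germ (D.DPl hU e₀) y hy (D.coord hU e₀ e) • germφ φ y (D.DPl_le hU e₀ hy) e₀ := by
  rw [← D.germ_sec hU e₀ e₀ hy, ← D.germ_sec hU e₀ e hy, D.sec_eq hU e₀ e]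
  exact germ_smul' y hy _ _

theorem mem_DPl_iff (e : Γ(E, U)) {y : P} (hy : p y ∈ U) :
    y ∈ D.DPl hU e ↔ Function.Bijective fun c : P.presheaf.stalk y => c • germφ φ y hy e := by
  refine ⟨fun h => D.bijective_germφ hU e h, fun h => ?_⟩
  obtain ⟨e₁, h₁⟩ := D.cover hU hy
  rw [D.germφ_eq hU e₁ e h₁, AmpleLib.bijective_smul_iff (D.bijective_germφ hU e₁ h₁)] at h
  have := (Scheme.mem_basicOpen _ (D.coord hU e₁ e) y h₁).2 h
  rw [D.basicOpen_coord hU] at this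
  exact this.2

end PData

/-- Near a point, a section is a multiple of a section over an affine neighbourhood. -/
theorem exists_mult (hE : Coh.IsQCoh E) {U W : Y.Opens} (hU : IsAffineOpen U) {y : Y} (hyU : y ∈ U) (hyW : y ∈ W)
    (e : Γ(E, W)) :
    ∃ (W' : Y.Opens) (h : W' ≤ W) (hh : W' ≤ U) (r : Γ(Y, W')) (e' : Γ(E, U)),
      y ∈ W' ∧ E.presheaf.map (homOfLE h).op e = r • E.presheaf.map (homOfLE hh).op e' := by
  haveI := hE
  obtain ⟨f, hfW, hyf⟩ := hU.exists_basicOpen_le (V := W) ⟨y, hyW⟩ hyU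
  obtain ⟨n, l, hl⟩ := (QCohLib.locAt E hU).extend f (E.presheaf.map (homOfLE hfW).op e)
  rw [CohBase.sc_apply] at hl
  have hu : IsUnit (Y.presheaf.map (homOfLE (Y.basicOpen_le f)).op (f ^ n)) := by
    rw [map_pow]; exact (RingedSpace.isUnit_res_basicOpen _ f).pow n
  obtain ⟨v, hv⟩ := hu.exists_left_inv
  refine ⟨Y.basicOpen f, hfW, Y.basicOpen_le f, v, l, hyf, ?_⟩
  rw [hl, ← mul_smul]
  erw [hv, one_smul]

variable {g : X ⟶ Y} {L : X.Modules}

/-- `k` matches the quotient given by `σ` along `a`. -/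
def Compat (φ : E ⟶ (Scheme.Modules.pushforward p).obj O1) (σ : E ⟶ (Scheme.Modules.pushforward g).obj L)
    {T : Scheme.{u}} (a : T ⟶ X) (k : T ⟶ P) : Prop :=
  k ≫ p = a ≫ g ∧
    ∀ (W : Y.Opens) (e₀ : Γ(E, W)) (t : T) (hy : p (k t) ∈ W) (hx : g (a t) ∈ W),
      ((Function.Bijective fun c : P.presheaf.stalk (k t) => c • germφ φ (k t) hy e₀) ↔
        Function.Bijective fun c : X.presheaf.stalk (a t) => c • germφ σ (a t) hx e₀) ∧
      ∀ (e : Γ(E, W)) (c : P.presheaf.stalk (k t)) (c' : X.presheaf.stalk (a t)),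
        (Function.Bijective fun d : X.presheaf.stalk (a t) => d • germφ σ (a t) hx e₀) →
          c • germφ φ (k t) hy e₀ = germφ φ (k t) hy e → c' • germφ σ (a t) hx e₀ = germφ σ (a t) hx e →
            k.stalkMap t c = a.stalkMap t c'

variable {σ : E ⟶ (Scheme.Modules.pushforward g).obj L}

theorem stalkMap_comp' {A B C : Scheme.{u}} (f : A ⟶ B) (f' : B ⟶ C) (x : A) (c : C.presheaf.stalk (f' (f x))) :
    (f ≫ f').stalkMap x c = f.stalkMap x (f'.stalkMap (f x) c) :=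
  congr(($(Scheme.Hom.stalkMap_comp f f' x)).hom c)

theorem Compat.precomp {T T' : Scheme.{u}} {a : T ⟶ X} {k : T ⟶ P} (h : Compat φ σ a k) (b : T' ⟶ T) :
    Compat φ σ (b ≫ a) (b ≫ k) := by
  refine ⟨by rw [Category.assoc, h.1, Category.assoc], fun W e₀ t hy hx => ?_⟩
  obtain ⟨h1, h2⟩ := h.2 W e₀ (b t) hy hx
  refine ⟨h1, fun e c c' hb hc hc' => ?_⟩
  rw [stalkMap_comp', stalkMap_comp', h2 e c c' hb hc hc']

theorem Compat.of_cover {T : Scheme.{u}} {a : T ⟶ X} {k : T ⟶ P} {ι : Type u} {T' : ι → Scheme.{u}}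
    (b : ∀ i, T' i ⟶ T) [∀ i, IsOpenImmersion (b i)] (hb : ∀ t, ∃ i t', (b i) t' = t)
    (h : ∀ i, Compat φ σ (b i ≫ a) (b i ≫ k)) : Compat φ σ a k := by
  refine ⟨?_, fun W e₀ t hy hx => ?_⟩
  · let 𝒰 : T.OpenCover := Scheme.Cover.mkOfCovers ι T' b (fun t => by
      obtain ⟨i, t', ht⟩ := hb t; exact ⟨i, t', ht⟩) (fun i => inferInstance)
    refine 𝒰.hom_ext _ _ fun (i : ι) => ?_
    have := (h i).1
    rw [Category.assoc, Category.assoc] at this
    exact this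
  · obtain ⟨i, t', rfl⟩ := hb t
    obtain ⟨h1, h2⟩ := (h i).2 W e₀ t' hy hx
    refine ⟨h1, fun e c c' hbb hc hc' => ?_⟩
    have e2 := h2 e c c' hbb hc hc'
    rw [stalkMap_comp', stalkMap_comp'] at e2
    exact (ConcreteCategory.bijective_of_isIso ((b i).stalkMap t')).1 e2

theorem germ_stalkMap_congr {A : Scheme.{u}} {T : Scheme.{u}} (k : T ⟶ A) {O : A.Opens} {V : T.Opens}
    (e : V ≤ k ⁻¹ᵁ O) (t : T) (ht : t ∈ V) (z : Γ(A, O)) :
    k.stalkMap t (A.presheaf.germ O (k t) (e ht) z) = T.presheaf.germ V t ht (k.appLE O V e z) :=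
  PullbackMod.germ_stalkMap_appLE k t (e ht) ht e z

theorem ι_comp_eq {A T : Scheme.{u}} (k : T ⟶ A) {O : A.Opens} (hO : IsAffineOpen O) {V : T.Opens}
    (e : V ≤ k ⁻¹ᵁ O) : V.ι ≫ k = V.toSpecΓ ≫ Spec.map (k.appLE O V e) ≫ hO.fromSpec := by
  rw [Scheme.Hom.appLE, Spec.map_comp, Category.assoc,
    Scheme.Opens.toSpecΓ_SpecMap_presheaf_map_assoc, reassoc_of% Scheme.Opens.toSpecΓ_naturality,
    hO.toSpecΓ_fromSpec, morphismRestrict_ι, Scheme.homOfLE_ι_assoc]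

/-- Compatible morphisms are equal. -/
theorem Compat.eq (D : PData p E O1 φ) (hσ : ∀ x : X, ∀ (U : Y.Opens), IsAffineOpen U → ∀ hx : g x ∈ U, ∃ e : Γ(E, U),
      Function.Bijective fun c : X.presheaf.stalk x => c • germφ σ x hx e)
    {T : Scheme.{u}} {a : T ⟶ X} {k k' : T ⟶ P} (h : Compat φ σ a k) (h' : Compat φ σ a k') : k = k' := by
  let κ := {q : (Σ U : Y.affineOpens, Γ(E, (U : Y.Opens))) // True}
  let O : κ → T.Opens := fun q => k ⁻¹ᵁ D.DPl q.1.1.2 q.1.2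
  have hk : ∀ (k : T ⟶ P), Compat φ σ a k → ∀ t, p (k t) = g (a t) := fun k h t =>
    congrArg (fun f => f t) h.1
  refine (T.openCoverOfIsOpenCover O (eq_top_iff.2 fun t _ => ?_)).hom_ext _ _ fun (q : κ) => ?_
  · obtain ⟨_, ⟨U, hU, rfl⟩, hxU, -⟩ :=
      Y.isBasis_affineOpens.exists_subset_of_mem_open (Set.mem_univ (p (k t))) isOpen_univ
    obtain ⟨e, he⟩ := D.cover hU hxU
    exact Opens.mem_iSup.2 ⟨⟨⟨⟨U, hU⟩, e⟩, trivial⟩, he⟩
  · obtain ⟨⟨⟨U, hU⟩, e₀⟩, -⟩ := q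
    let V := k ⁻¹ᵁ D.DPl hU e₀
    show V.ι ≫ k = V.ι ≫ k'
    have hV : ∀ t ∈ V, ∃ hx : g (a t) ∈ U,
        (Function.Bijective fun c : X.presheaf.stalk (a t) => c • germφ σ (a t) hx e₀) ∧ k' t ∈ D.DPl hU e₀ :=
      fun t ht => by
        have hy : p (k t) ∈ U := D.DPl_le hU e₀ ht
        have hx : g (a t) ∈ U := hk k h t ▸ hy
        have hb := (h.2 U e₀ t hy hx).1.1 ((D.mem_DPl_iff hU e₀ hy).1 ht)
        refine ⟨hx, hb, (D.mem_DPl_iff hU e₀ (show p (k' t) ∈ U from (hk k' h' t).symm ▸ hx)).2 ?_⟩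
        exact (h'.2 U e₀ t _ hx).1.2 hb
    have hle : V ≤ k' ⁻¹ᵁ D.DPl hU e₀ := fun t ht => (hV t ht).2.2
    rw [ι_comp_eq k (D.isAffineOpen_DPl hU e₀) le_rfl, ι_comp_eq k' (D.isAffineOpen_DPl hU e₀) hle]
    congr 3
    refine CommRingCat.hom_ext (RingHom.eq_of_eqOn_set_dense (D.closure_coord hU e₀) ?_)
    · refine Set.eqOn_range.2 (funext fun e => ?_)
      refine TopCat.Presheaf.section_ext T.sheaf V _ _ fun t ht => ?_
      obtain ⟨hx, hb, hk'⟩ := hV t ht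
      obtain ⟨c', hc'⟩ := hb.2 (germφ σ (a t) hx e)
      have e1 := (h.2 U e₀ t (D.DPl_le hU e₀ ht) hx).2 e _ c' hb (D.germφ_eq hU e₀ e ht).symm hc'
      have e2 := (h'.2 U e₀ t (D.DPl_le hU e₀ hk') hx).2 e _ c' hb (D.germφ_eq hU e₀ e hk').symm hc'
      rw [germ_stalkMap_congr k le_rfl t ht] at e1
      rw [germ_stalkMap_congr k' hle t ht] at e2
      exact e1.trans e2.symm

end Groth.Agent.ProjBundleLib
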