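import Groth.Agent.ProjBundleLib.Tensor
import Groth.Agent.ProjBundleLib.FTSub
import Groth.Agent.AmpleEmb.Immersion
import Groth.Agent.QCohLib.FiniteType

/-! Projective bundles of finitely generated modules over an affine base sit in projective spaces. -/

set_option autoImplicit false
set_option linter.style.haveILetI false
set_option backward.isDefEq.respectTransparency false

universe u

open CategoryTheory CategoryTheory.Limits AlgebraicGeometry TopologicalSpace Opposite
open Groth.Agent.ParaFLib Groth.Agent.RelSpecLib Groth.Agent.PullbackMod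

noncomputable section

namespace Groth.Agent.ProjBundleLib

variable {X Y P : Scheme.{u}} {p : P ⟶ Y} {E : Y.Modules} {O1 : P.Modules}
  {φ : E ⟶ (Scheme.Modules.pushforward p).obj O1}

theorem isRelVeryAmplePn_O1 [IsAffine Y] (D : PData p E O1 φ) {n : ℕ} (e : Fin (n + 1) → Γ(E, ⊤))
    (he : ∀ v : Γ(E, ⊤), ∃ c : Fin (n + 1) → Γ(Y, ⊤), ∑ a, c a • e a = v) :
    RelAmple.IsRelVeryAmplePn p O1 := by
  classical
  have hT : IsAffineOpen (⊤ : Y.Opens) := isAffineOpen_top Y
  let coordHom : ∀ e₀ : Γ(E, ⊤), Γ(E, ⊤) →+ Γ(P, D.DPl hT e₀) := fun e₀ =>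
    AddMonoidHom.mk' (D.coord hT e₀) (D.coord_add hT e₀)
  have hsum : ∀ (e₀ : Γ(E, ⊤)) (c : Fin (n + 1) → Γ(Y, ⊤)),
      D.coord hT e₀ (∑ a, c a • e a) =
        ∑ a, (p.appLE ⊤ _ (D.DPl_le hT e₀)).hom (c a) * D.coord hT e₀ (e a) := fun e₀ c =>
    (map_sum (coordHom e₀) _ _).trans (Finset.sum_congr rfl fun a _ => D.coord_smul hT e₀ _ _)
  have hcov : ∀ y : P, ∃ a, y ∈ D.DPl hT (e a) := fun y => by
    obtain ⟨v, hv⟩ := D.cover hT (x := y) trivial
    obtain ⟨c, rfl⟩ := he v
    by_contra hne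
    push Not at hne
    have h1 := D.coord_self hT (∑ a, c a • e a)
    rw [hsum] at h1
    have h2 := congrArg (P.presheaf.germ _ y hv) h1
    rw [map_sum, map_one] at h2
    have hm : (1 : P.presheaf.stalk y) ∈ IsLocalRing.maximalIdeal (P.presheaf.stalk y) := by
      rw [← h2]
      refine Ideal.sum_mem _ fun a _ => ?_
      rw [map_mul]
      refine Ideal.mul_mem_left _ _ fun hu => hne a ?_
      have h3 := (Scheme.mem_basicOpen _ (D.coord hT (∑ a, c a • e a) (e a)) y hv).2 hu
      rw [D.basicOpen_coord hT] at h3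
      exact h3.2
    exact hm isUnit_one
  let F : AmpleEmb.RatioFamily P n :=
    { U := fun a => D.DPl hT (e a)
      affine := fun a => D.isAffineOpen_DPl hT (e a)
      cover := eq_top_iff.2 fun y _ => Opens.mem_iSup.2 (hcov y)
      t := fun i a => D.coord hT (e i) (e a)
      t_self := fun i => D.coord_self hT (e i)
      t_open := fun i a => D.basicOpen_coord hT (e i) (e a)
      t_mul := fun i j a => by
        refine TopCat.Presheaf.section_ext P.sheaf _ _ _ fun y hy => ?_
        show P.presheaf.germ _ y hy (P.presheaf.map _ (D.coord hT (e j) (e a))) =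
          P.presheaf.germ _ y hy (P.presheaf.map _ (D.coord hT (e j) (e i)) * P.presheaf.map _ (D.coord hT (e i) (e a)))
        rw [map_mul, TopCat.Presheaf.germ_res_apply, TopCat.Presheaf.germ_res_apply, TopCat.Presheaf.germ_res_apply]
        have h1 := D.germφ_eq hT (e j) (e a) hy.2
        have h2 := D.germφ_eq hT (e j) (e i) hy.2
        have h3 := D.germφ_eq hT (e i) (e a) hy.1
        refine (D.bijective_germφ hT (e j) hy.2).1 ?_
        show _ • _ = (_ * _) • _
        rw [← h1, mul_comm, mul_smul, ← h2]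
        exact h3 }
  let gl : Fin (n + 1) → Γ(O1, ⊤) := fun a => φ.app ⊤ (e a)
  refine AmpleEmb.isRelVeryAmplePn_of_ratios p F (Iso.refl O1) (fun a => DCohLib.secHom O1 (gl a)) (fun i => ?_)
    (fun i a => ?_) Set.univ (fun i _ => ?_) (fun y => ⟨_, trivial, (hcov y).choose_spec⟩)
  · rw [AmpleLib.sec_secHom]
    exact D.gen_sec hT (e i)
  · rw [AmpleLib.sec_secHom, AmpleLib.sec_secHom]
    exact (D.sec_eq hT (e i) (e a)).symm
  · refine ⟨⊤, hT, D.DPl_le hT (e i), fun z => ?_⟩
    let R := (MvPolynomial.eval₂Hom (p.appLE ⊤ (F.U i) (D.DPl_le hT (e i))).hom (F.t i)).range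
    suffices z ∈ R from this
    refine (Subring.closure_le (t := R)).2 ?_ ((D.closure_coord hT (e i)).ge (Subring.mem_top z))
    rintro _ ⟨v, rfl⟩
    obtain ⟨c, rfl⟩ := he v
    rw [hsum]
    refine sum_mem fun a _ => mul_mem ⟨MvPolynomial.C (c a), MvPolynomial.eval₂_C _ _ _⟩
      ⟨MvPolynomial.X a, MvPolynomial.eval₂_X _ _ _⟩

/-- Over an affine base a very ample module of a morphism of finite type comes from projective space. -/
theorem isRelVeryAmplePn_of_isAffine {q : X ⟶ Y} {L : X.Modules} [IsAffine Y] [QuasiCompact q] [LocallyOfFiniteType q]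
    (hL : PicF.IsInvertible L) (h : RelProj.IsRelVeryAmple q L) : RelAmple.IsRelVeryAmplePn q L := by
  classical
  obtain ⟨E, ι, hE, hft, -, hG, himm⟩ := exists_ft_sub hL h
  obtain ⟨P, p, O1, φ, ⟨D⟩⟩ := exists_bundle hE
  obtain ⟨k, hk, -⟩ := D.existsUnique_compat_of_gens hL hG
  haveI := himm D k hk
  obtain ⟨hkp, τ, -⟩ := D.exists_iso_of_compat
    (((Scheme.Modules.pullbackPushforwardAdjunction q).homEquiv _ _).symm ι) (r := k)
    (by simpa only [sigma, Equiv.apply_symm_apply] using hk)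
  haveI := hE
  have hfin := QCohLib.finite_sections E hft (isAffineOpen_top Y)
  obtain ⟨S, hS⟩ := hfin.fg_top
  let n := S.card
  let e : Fin (n + 1) → Γ(E, ⊤) := Fin.cons 0 fun a => (S.equivFin.symm a : Γ(E, ⊤))
  obtain ⟨m, i, hi, hip, ⟨θ⟩⟩ := isRelVeryAmplePn_O1 D e fun v => by
    have hv : v ∈ Submodule.span Γ(Y, ⊤) (Set.range e) := by
      refine Submodule.span_mono ?_ (hS.ge Submodule.mem_top)
      intro w hw
      exact ⟨(S.equivFin ⟨w, hw⟩).succ, by simp [e]⟩
    exact Submodule.mem_span_range_iff_exists_fun _ |>.1 hv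
  haveI := hi
  exact ⟨m, k ≫ i, inferInstance, by rw [Category.assoc, hip, hkp], ⟨τ.symm ≪≫ (Scheme.Modules.pullback k).mapIso θ ≪≫
    (Scheme.Modules.pullbackComp k i).app _⟩⟩

end Groth.Agent.ProjBundleLib
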