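import Groth.Agent.ProjBundleLib.ProjMor

/-! The structure sheaf is very ample for an affine morphism. -/

set_option autoImplicit false
set_option linter.style.haveILetI false
set_option backward.isDefEq.respectTransparency false

universe u

open CategoryTheory CategoryTheory.Limits AlgebraicGeometry TopologicalSpace Opposite
open Groth.Agent.ParaFLib Groth.Agent.PullbackMod

noncomputable section

namespace Groth.Agent.ProjBundleLib

variable {X Y : Scheme.{u}}

theorem isInvertible_structureModule (X : Scheme.{u}) : PicF.IsInvertible (Coh.structureModule X) :=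
  AmpleLib.isInvertible_of_gen fun _ => ⟨⊤, (1 : Γ(X, ⊤)), trivial, gen_one ⊤⟩

theorem bijective_germ_one {W : X.Opens} {x : X} (hx : x ∈ W) :
    Function.Bijective fun c : X.presheaf.stalk x =>
      c • (Coh.structureModule X).presheaf.germ W x hx (1 : Γ(X, W)) :=
  (gen_one W).bijective_germ x hx

/-- The structure sheaf is very ample for an affine morphism. -/
theorem isRelVeryAmple_of_isAffineHom (f : X ⟶ Y) [IsAffineHom f] :
    RelProj.IsRelVeryAmple f (Coh.structureModule X) := by
  have hL := isInvertible_structureModule X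
  haveI := InvExt.isQCoh_of_isInvertible hL
  obtain ⟨P, p, O1, φ, ⟨D⟩⟩ := exists_bundle (QCohLib.isQCoh_pushforward (Coh.structureModule X) f)
  have hG : Gens (𝟙 ((Scheme.Modules.pushforward f).obj (Coh.structureModule X))) := fun x => by
    obtain ⟨_, ⟨U, hU, rfl⟩, hxU, -⟩ :=
      Y.isBasis_affineOpens.exists_subset_of_mem_open (Set.mem_univ (f x)) isOpen_univ
    exact ⟨U, hxU, (1 : Γ(X, f ⁻¹ᵁ U)), bijective_germ_one (W := f ⁻¹ᵁ U) hxU⟩
  obtain ⟨r, hr, -⟩ := D.existsUnique_compat_of_gens hL hG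
  have hrp : ∀ z, p (r z) = f z := fun z => congrArg (fun k : X ⟶ Y => k z) (hr.1.trans (Category.id_comp f))
  let e₁ : ∀ U : Y.Opens, Γ((Scheme.Modules.pushforward f).obj (Coh.structureModule X), U) :=
    fun U => (1 : Γ(X, f ⁻¹ᵁ U))
  have himm : IsImmersion r := by
    refine isImmersion_of_cover r (fun U : Y.affineOpens => D.DPl U.2 (e₁ U)) (fun a => ?_) fun U => ?_
    · obtain ⟨_, ⟨U, hU, rfl⟩, haU, -⟩ :=
        Y.isBasis_affineOpens.exists_subset_of_mem_open (Set.mem_univ (f a)) isOpen_univ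
      exact ⟨⟨U, hU⟩, (D.mem_DPl_iff hU _ ((hrp a).symm ▸ haU)).2
        ((hr.2 U (e₁ U) a _ haU).1.2 (bijective_germ_one (W := f ⁻¹ᵁ U) haU))⟩
    · let O := D.DPl U.2 (e₁ U)
      have hO : IsAffineOpen O := D.isAffineOpen_DPl U.2 (e₁ U)
      have hle : r ⁻¹ᵁ O ≤ f ⁻¹ᵁ U.1 := fun z hz => by
        show f z ∈ U.1
        rw [← hrp z]
        exact D.DPl_le U.2 _ hz
      have hge : f ⁻¹ᵁ U.1 ≤ r ⁻¹ᵁ O := fun z hz =>
        (D.mem_DPl_iff U.2 _ (show p (r z) ∈ U.1 from (hrp z).symm ▸ hz)).2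
          ((hr.2 U.1 (e₁ U) z _ hz).1.2 (bijective_germ_one hz))
      have hpre : r ⁻¹ᵁ O = f ⁻¹ᵁ U.1 := le_antisymm hle hge
      haveI : IsAffine (O : Scheme.{u}) := hO
      haveI : IsAffine ((r ⁻¹ᵁ O : X.Opens) : Scheme.{u}) := by rw [hpre]; exact U.2.preimage f
      have hsurj : Function.Surjective (r.app O).hom := fun b => by
        refine ⟨D.coord U.2 (e₁ U) (show Γ(X, f ⁻¹ᵁ U.1) from
          X.presheaf.map (homOfLE hge).op b), ?_⟩
        refine TopCat.Presheaf.section_ext X.sheaf (r ⁻¹ᵁ O) _ _ fun z hz => ?_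
        have h1 := (hr.2 U.1 (e₁ U) z (D.DPl_le U.2 _ hz) (hle hz)).2
          (show Γ(X, f ⁻¹ᵁ U.1) from X.presheaf.map (homOfLE hge).op b) _
          (X.presheaf.germ (r ⁻¹ᵁ O) z hz b) (bijective_germ_one (hle hz)) (D.germφ_eq U.2 (e₁ U) _ hz).symm ?_
        · rw [germ_stalkMap_congr r (le_refl (r ⁻¹ᵁ O)) z hz, Scheme.Hom.stalkMap_id, ← Scheme.Hom.app_eq_appLE] at h1
          exact h1
        · show X.presheaf.germ (r ⁻¹ᵁ O) z hz b • (Coh.structureModule X).presheaf.germ (f ⁻¹ᵁ U.1) z (hle hz) (1 : Γ(X, f ⁻¹ᵁ U.1)) =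
            (Coh.structureModule X).presheaf.germ (f ⁻¹ᵁ U.1) z (hle hz) (X.presheaf.map (homOfLE hge).op b)
          rw [← TopCat.Presheaf.germ_res_apply X.presheaf (homOfLE hge) z (hle hz) b]
          refine (germ_smul' (M := Coh.structureModule X) z (hle hz) _ _).symm.trans ?_
          exact congrArg _ (mul_one (X.presheaf.map (homOfLE hge).op b))
      haveI : IsClosedImmersion (r ∣_ O) := IsClosedImmersion.of_surjective_of_isAffine _ (by
        rw [morphismRestrict_appTop]
        show Function.Surjective ((X.presheaf.map (eqToHom (image_morphismRestrict_preimage r O ⊤)).op).hom ∘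
          (r.app (O.ι ''ᵁ ⊤)).hom)
        refine Function.Surjective.comp (ConcreteCategory.bijective_of_isIso
          (X.presheaf.map (eqToHom (image_morphismRestrict_preimage r O ⊤)).op)).2 ?_
        rw [O.ι_image_top]
        exact hsurj)
      infer_instance
  obtain ⟨hrq, τ, -⟩ := D.exists_iso_of_compat
    (((Scheme.Modules.pullbackPushforwardAdjunction f).homEquiv _ _).symm (𝟙 _)) (r := r)
    (by simpa only [sigma, Equiv.apply_symm_apply] using hr)
  haveI := himm
  exact isRelVeryAmple_of_pdata D r hrq τ.symm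

end Groth.Agent.ProjBundleLib
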