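import Groth.Agent.ProjBundleLib.Closed
import Groth.Agent.ProjBundleLib.Exist
import Groth.Agent.DCohLib.QCohAbelian
import Groth.Agent.RelProjLib.Basic
import Mathlib.AlgebraicGeometry.Limits

/-! Two projective bundles inside the bundle of the direct sum. -/

set_option autoImplicit false
set_option linter.style.haveILetI false
set_option backward.isDefEq.respectTransparency false

universe u

open CategoryTheory CategoryTheory.Limits AlgebraicGeometry TopologicalSpace Opposite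
open Groth.Agent.RelSpecLib
open scoped HomogeneousIdeal

noncomputable section

namespace Groth.Agent.ProjBundleLib

/-- Two closed immersions with disjoint images. -/
theorem isClosedImmersion_desc {A B P : Scheme.{u}} (f : A ⟶ P) (g : B ⟶ P) [IsClosedImmersion f] [IsClosedImmersion g]
    (hd : ∀ a b, f a ≠ g b) : IsClosedImmersion (coprod.desc f g) := by
  let U : P.Opens := ⟨(Set.range g)ᶜ, g.isClosedEmbedding.isClosed_range.isOpen_compl⟩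
  let V : P.Opens := ⟨(Set.range f)ᶜ, f.isClosedEmbedding.isClosed_range.isOpen_compl⟩
  have hUV : ⨆ b : Bool, cond b U V = ⊤ := eq_top_iff.2 fun y _ => Opens.mem_iSup.2 (by
    by_cases h : y ∈ Set.range g
    · exact ⟨false, fun ⟨a, ha⟩ => by obtain ⟨b, hb⟩ := h; exact hd a b (ha.trans hb.symm)⟩
    · exact ⟨true, h⟩)
  have step : ∀ {C : Scheme.{u}} (k : C ⟶ A ⨿ B) [IsOpenImmersion k] (O : P.Opens),
      IsClosedImmersion (k ≫ coprod.desc f g) → (∀ z, coprod.desc f g z ∈ O → z ∈ Set.range k) →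
      IsClosedImmersion (coprod.desc f g ∣_ O) := by
    intro C k _ O hk hO
    haveI : IsIso (k ∣_ coprod.desc f g ⁻¹ᵁ O) := by
      haveI : Surjective (k ∣_ coprod.desc f g ⁻¹ᵁ O) := ⟨fun z => by
        obtain ⟨c, hc⟩ := hO z.1 z.2
        refine ⟨⟨c, Eq.mpr (congrArg (· ∈ coprod.desc f g ⁻¹ᵁ O) hc) z.2⟩,
          (coprod.desc f g ⁻¹ᵁ O).ι.isOpenEmbedding.injective ?_⟩
        show ((k ∣_ coprod.desc f g ⁻¹ᵁ O) ≫ (coprod.desc f g ⁻¹ᵁ O).ι) _ = z.1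
        rw [morphismRestrict_ι]
        exact hc⟩
      haveI : Epi (k ∣_ coprod.desc f g ⁻¹ᵁ O).base :=
        (TopCat.epi_iff_surjective _).2 (k ∣_ coprod.desc f g ⁻¹ᵁ O).surjective
      exact IsOpenImmersion.isIso _
    have h := IsZariskiLocalAtTarget.restrict (P := @IsClosedImmersion) hk O
    rw [morphismRestrict_comp, MorphismProperty.cancel_left_of_respectsIso (P := @IsClosedImmersion)] at h
    exact h
  have hr := isCompl_opensRange_inl_inr A B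
  refine (IsZariskiLocalAtTarget.iff_of_iSup_eq_top (P := @IsClosedImmersion) _ hUV).2 fun b => ?_
  cases b
  · refine step coprod.inr V (by rw [coprod.inr_desc]; infer_instance) fun z hz => ?_
    rcases hr.sup_eq_top.ge (Set.mem_univ z) with h | h
    · obtain ⟨a, rfl⟩ := h
      exact absurd ⟨a, (congrArg (fun k : A ⟶ P => k a) (coprod.inl_desc f g)).symm⟩ hz
    · exact h
  · refine step coprod.inl U (by rw [coprod.inl_desc]; infer_instance) fun z hz => ?_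
    rcases hr.sup_eq_top.ge (Set.mem_univ z) with h | h
    · exact h
    · obtain ⟨b, rfl⟩ := h
      exact absurd ⟨b, (congrArg (fun k : B ⟶ P => k b) (coprod.inr_desc f g)).symm⟩ hz

variable {Y PE PF P : Scheme.{u}} {E F : Y.Modules}

/-- Degree-one elements come from the module. -/
theorem exists_deg_one (hE : Coh.IsQCoh E) {𝒮 : RelProj.QCGrAlg Y} {j : E ⟶ 𝒮.toModule}
    (hj : RelProj.IsGrSymAlg E 𝒮 j) {p : P ⟶ Y}
    {chart : ∀ (U : Y.Opens) (hU : IsAffineOpen U), ((p ⁻¹ᵁ U : P.Opens) : Scheme.{u}) ≅ Proj (𝒮.deg U hU)}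
    (hP : RelProj.IsRelProj 𝒮 p chart) {U : Y.Opens} (hU : IsAffineOpen U) :
    (∀ b ∈ 𝒮.deg U hU 1, ∃ e : Γ(E, U), jsec 𝒮.toQCAlg j e = b) ∧
      Subring.closure ((𝒮.deg U hU 0 : Set (𝒮.presheaf.obj (op U))) ∪ (𝒮.deg U hU 1 : Set _)) = ⊤ := by
  obtain ⟨O1, lam, hO1⟩ := Groth.Agent.S8284.result 𝒮 p chart hP 1
  obtain ⟨φ, hφ⟩ := exists_φ_val hE hj hP hO1
  let D : PData p E O1 φ := ⟨hE, 𝒮, j, hj, chart, hP, lam, hO1, hφ⟩
  exact ⟨fun b hb => let ⟨e, he⟩ := D.exists_el hU ⟨b, hb⟩; ⟨e, congrArg Subtype.val he⟩, D.closure_deg hU⟩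

variable (hE : Coh.IsQCoh E) (hF : Coh.IsQCoh F) {𝒮E 𝒮F 𝒮 : RelProj.QCGrAlg Y}
  {jE : E ⟶ 𝒮E.toModule} (hjE : RelProj.IsGrSymAlg E 𝒮E jE) {jF : F ⟶ 𝒮F.toModule} (hjF : RelProj.IsGrSymAlg F 𝒮F jF)
  {j : E ⊞ F ⟶ 𝒮.toModule} (hj : RelProj.IsGrSymAlg (E ⊞ F) 𝒮 j)
  {p : P ⟶ Y} {chart : ∀ (U : Y.Opens) (hU : IsAffineOpen U), ((p ⁻¹ᵁ U : P.Opens) : Scheme.{u}) ≅ Proj (𝒮.deg U hU)}
  (hP : RelProj.IsRelProj 𝒮 p chart)

include hE hjE hj in
/-- A projection of a direct sum gives a closed immersion of bundles. -/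
theorem isClosedImmersion_proj {ι : E ⟶ E ⊞ F} {π : E ⊞ F ⟶ E} (hιπ : ι ≫ π = 𝟙 E) {pE : PE ⟶ Y}
    {chartE : ∀ (U : Y.Opens) (hU : IsAffineOpen U), ((pE ⁻¹ᵁ U : PE.Opens) : Scheme.{u}) ≅ Proj (𝒮E.deg U hU)}
    (hPE : RelProj.IsRelProj 𝒮E pE chartE) (πE : 𝒮.toQCAlg ⟶ 𝒮E.toQCAlg) (hπE : RelProj.IsGradedHom πE)
    (hjπ : j ≫ RelSpec.QCAlg.Hom.toModuleMap πE = π ≫ jE)
    (hirr : ∀ (U : Y.Opens) (hU : IsAffineOpen U),
      (𝒮E.deg U hU)₊ ≤ ((𝒮.deg U hU)₊).map (RelProj.gradedHomAt πE hπE U hU))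
    (h : PE ⟶ P) (hh : RelProj.IsRelProjMap πE hπE hirr chart chartE h) (hP : RelProj.IsRelProj 𝒮 p chart) :
    IsClosedImmersion h := by
  refine RelProjLib.of_charts_map hP hPE hh @IsClosedImmersion fun U hU =>
    isClosedImmersion_map_pos _ _ fun n hn b hb => ?_
  obtain ⟨hdeg, hgen⟩ := exists_deg_one hE hjE hPE hU
  refine exists_preimage_pos (πE.hom.app (op U)).hom hgen (fun b hb => ?_) n hn b hb
  obtain ⟨e, rfl⟩ := hdeg b hb
  refine ⟨(j.app U) (ι.app U e), hj.2 U hU _, (congr(($hjπ).app U (ι.app U e))).trans ?_⟩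
  exact congrArg (jE.app U) (congr(($hιπ).app U e))

include hE hF hjE hjF hj hP in
theorem range_disjoint (hπ1 : biprod.fst ≫ biprod.inl + biprod.snd ≫ biprod.inr = 𝟙 (E ⊞ F)) {pE : PE ⟶ Y}
    {pF : PF ⟶ Y}
    {chartE : ∀ (U : Y.Opens) (hU : IsAffineOpen U), ((pE ⁻¹ᵁ U : PE.Opens) : Scheme.{u}) ≅ Proj (𝒮E.deg U hU)}
    {chartF : ∀ (U : Y.Opens) (hU : IsAffineOpen U), ((pF ⁻¹ᵁ U : PF.Opens) : Scheme.{u}) ≅ Proj (𝒮F.deg U hU)}
    (hPE : RelProj.IsRelProj 𝒮E pE chartE) (hPF : RelProj.IsRelProj 𝒮F pF chartF)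
    (πE : 𝒮.toQCAlg ⟶ 𝒮E.toQCAlg) (hπE : RelProj.IsGradedHom πE)
    (hjπE : j ≫ RelSpec.QCAlg.Hom.toModuleMap πE = biprod.fst ≫ jE)
    (hirrE : ∀ (U : Y.Opens) (hU : IsAffineOpen U),
      (𝒮E.deg U hU)₊ ≤ ((𝒮.deg U hU)₊).map (RelProj.gradedHomAt πE hπE U hU))
    (πF : 𝒮.toQCAlg ⟶ 𝒮F.toQCAlg) (hπF : RelProj.IsGradedHom πF)
    (hjπF : j ≫ RelSpec.QCAlg.Hom.toModuleMap πF = biprod.snd ≫ jF)
    (hirrF : ∀ (U : Y.Opens) (hU : IsAffineOpen U),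
      (𝒮F.deg U hU)₊ ≤ ((𝒮.deg U hU)₊).map (RelProj.gradedHomAt πF hπF U hU))
    (f : PE ⟶ P) (hf : RelProj.IsRelProjMap πE hπE hirrE chart chartE f)
    (g : PF ⟶ P) (hg : RelProj.IsRelProjMap πF hπF hirrF chart chartF g) : ∀ a b, f a ≠ g b := by
  intro a b hab
  obtain ⟨_, ⟨U, hU, rfl⟩, haU, -⟩ :=
    Y.isBasis_affineOpens.exists_subset_of_mem_open (Set.mem_univ (pE a)) isOpen_univ
  have hbU : pF b ∈ U := by
    have h1 := congrArg (fun k => k a) (RelProjLib.comp_eq hP hPE hf)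
    have h2 := congrArg (fun k => k b) (RelProjLib.comp_eq hP hPF hg)
    have : pF b = pE a := h2.symm.trans ((congrArg p hab.symm).trans h1)
    rw [this]; exact haU
  let yE : Proj (𝒮E.deg U hU) := (chartE U hU).hom ⟨a, haU⟩
  let yF : Proj (𝒮F.deg U hU) := (chartF U hU).hom ⟨b, hbU⟩
  let mE := Proj.map (RelProj.gradedHomAt πE hπE U hU) (hirrE U hU) yE
  let mF := Proj.map (RelProj.gradedHomAt πF hπF U hU) (hirrF U hU) yF
  have hm : mE = mF := by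
    have e1 := congrArg (fun k : (pE ⁻¹ᵁ U : PE.Opens).toScheme ⟶ P => k ⟨a, haU⟩) (hf U hU)
    have e2 := congrArg (fun k : (pF ⁻¹ᵁ U : PF.Opens).toScheme ⟶ P => k ⟨b, hbU⟩) (hg U hU)
    exact ((chart U hU).inv ≫ (p ⁻¹ᵁ U).ι).isOpenEmbedding.injective (e1.symm.trans (hab.trans e2))
  obtain ⟨hdeg, hgen⟩ := exists_deg_one (DCohLib.isQCoh_biprod' hE hF) hj hP hU
  obtain ⟨⟨d, hd⟩, hmem⟩ := GrModLib.exists_mem_one_notMem (RelTildeLib.irrelevant_eq_span_one hgen) mE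
  obtain ⟨e, rfl⟩ := hdeg d hd
  refine hmem (show jsec 𝒮.toQCAlg j e ∈ mE.asHomogeneousIdeal.toIdeal from ?_)
  have hsum : jsec 𝒮.toQCAlg j e =
      jsec 𝒮.toQCAlg j ((biprod.inl : E ⟶ E ⊞ F).app U ((biprod.fst : E ⊞ F ⟶ E).app U e)) +
        jsec 𝒮.toQCAlg j ((biprod.inr : F ⟶ E ⊞ F).app U ((biprod.snd : E ⊞ F ⟶ F).app U e)) := by
    refine Eq.trans ?_ (map_add (j.app U).hom _ _)
    exact congrArg (j.app U) (congr(($hπ1).app U e)).symm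
  rw [hsum]
  refine Ideal.add_mem _ ?_ ?_
  · rw [hm]
    show (πF.hom.app (op U)).hom ((j.app U) _) ∈ yF.asHomogeneousIdeal.toIdeal
    erw [congr(($hjπF).app U ((biprod.inl : E ⟶ E ⊞ F).app U ((biprod.fst : E ⊞ F ⟶ E).app U e)))]
    have h0 := congr(($(biprod.inl_snd (X := E) (Y := F))).app U ((biprod.fst : E ⊞ F ⟶ E).app U e))
    show (jF.app U) ((biprod.snd : E ⊞ F ⟶ F).app U ((biprod.inl : E ⟶ E ⊞ F).app U _)) ∈ _
    erw [h0, map_zero]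
    exact (show (0 : 𝒮F.presheaf.obj (op U)) ∈ yF.asHomogeneousIdeal.toIdeal from Ideal.zero_mem _)
  · show (πE.hom.app (op U)).hom ((j.app U) _) ∈ yE.asHomogeneousIdeal.toIdeal
    erw [congr(($hjπE).app U ((biprod.inr : F ⟶ E ⊞ F).app U ((biprod.snd : E ⊞ F ⟶ F).app U e)))]
    have h0 := congr(($(biprod.inr_fst (X := E) (Y := F))).app U ((biprod.snd : E ⊞ F ⟶ F).app U e))
    show (jE.app U) ((biprod.fst : E ⊞ F ⟶ E).app U ((biprod.inr : F ⟶ E ⊞ F).app U _)) ∈ _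
    erw [h0, map_zero]
    exact (show (0 : 𝒮E.presheaf.obj (op U)) ∈ yE.asHomogeneousIdeal.toIdeal from Ideal.zero_mem _)

end Groth.Agent.ProjBundleLib
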