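import Groth.Agent.ProjBundleLib.Frac
import Groth.Agent.RelSpecLib.SymData
import Groth.Agent.RelTildeLib.Trivial
import Groth.Agent.GrModLib.Pair
import Groth.Prelude.Def_RelProj2

/-! The standard opens of a projective bundle and the values of the canonical map on them. -/

set_option autoImplicit false
set_option linter.style.haveILetI false
set_option backward.isDefEq.respectTransparency false

universe u

open CategoryTheory CategoryTheory.Limits AlgebraicGeometry TopologicalSpace Opposite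
open Groth.Agent.ParaFLib Groth.Agent.RelSpecLib

noncomputable section

namespace Groth.Agent.ProjBundleLib

/-- A projective bundle with its tautological quotient. -/
structure PData {Y P : Scheme.{u}} (p : P ⟶ Y) (E : Y.Modules) (O1 : P.Modules)
    (φ : E ⟶ (Scheme.Modules.pushforward p).obj O1) where
  hE : Coh.IsQCoh E
  S : RelProj.QCGrAlg Y
  j : E ⟶ S.toModule
  hj : RelProj.IsGrSymAlg E S j
  chart : ∀ (U : Y.Opens) (hU : IsAffineOpen U), ((p ⁻¹ᵁ U : P.Opens) : Scheme.{u}) ≅ Proj (S.deg U hU)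
  hP : RelProj.IsRelProj S p chart
  lam : ∀ (U : Y.Opens) (hU : IsAffineOpen U),
    O1 ⟶ (Scheme.Modules.pushforward (RelProj.emb p chart U hU)).obj (GrTwist.twist (S.deg U hU) 1)
  hO1 : RelProj.IsRelTwist S p chart 1 O1 lam
  hφ : ∀ (U : Y.Opens) (hU : IsAffineOpen U) (e : Γ(E, U))
    (y : ↥(RelProj.emb p chart U hU ⁻¹ᵁ (p ⁻¹ᵁ U))),
    GrTwist.val (V := RelProj.emb p chart U hU ⁻¹ᵁ (p ⁻¹ᵁ U))
        ((lam U hU).app (p ⁻¹ᵁ U) ((φ.app U) e)) y =
      algebraMap (S.presheaf.obj (op U)) (GrTwist.Loc (S.deg U hU) y.1)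
        ((j.app U) e : S.presheaf.obj (op U))

namespace PData

variable {Y P : Scheme.{u}} {p : P ⟶ Y} {E : Y.Modules} {O1 : P.Modules}
  {φ : E ⟶ (Scheme.Modules.pushforward p).obj O1} (D : PData p E O1 φ)
  {U : Y.Opens} (hU : IsAffineOpen U)

/-- A section of `E`, in degree one. -/
def el (e : Γ(E, U)) : D.S.deg U hU 1 := ⟨jsec D.S.toQCAlg D.j e, D.hj.2 U hU e⟩

theorem el_smul (a : Γ(Y, U)) (e : Γ(E, U)) :
    (D.el hU (a • e)).1 = (D.S.str.app (op U)).hom a * (D.el hU e).1 := jsec_smul D.S.toQCAlg D.j a e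

theorem exists_low (a : D.S.presheaf.obj (op U)) :
    (∃ r, (D.S.str.app (op U)).hom r = (DirectSum.decompose (D.S.deg U hU) a 0 : D.S.presheaf.obj (op U))) ∧
      ∃ e, (D.el hU e).1 = (DirectSum.decompose (D.S.deg U hU) a 1 : D.S.presheaf.obj (op U)) := by
  classical
  have h0 : (0 : D.S.presheaf.obj (op U)) = (D.el hU (0 : Γ(E, U))).1 := (map_zero (D.j.app U).hom).symm
  have ha : a ∈ gen D.S.toQCAlg D.j U := by rw [gen_eq_top _ _ D.hE D.hj.1 hU]; trivial
  induction ha using Subring.closure_induction with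
  | mem z hz =>
    rcases hz with ⟨r, rfl⟩ | ⟨e, rfl⟩
    · have hr := D.S.str_mem U hU r
      exact ⟨⟨r, (DirectSum.decompose_of_mem_same _ hr).symm⟩,
        0, h0.symm.trans (DirectSum.decompose_of_mem_ne (D.S.deg U hU) hr zero_ne_one).symm⟩
    · have he : jsec D.S.toQCAlg D.j e ∈ D.S.deg U hU 1 := D.hj.2 U hU e
      exact ⟨⟨0, (map_zero _).trans (DirectSum.decompose_of_mem_ne (D.S.deg U hU) he one_ne_zero).symm⟩,
        e, (DirectSum.decompose_of_mem_same _ he).symm⟩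
  | zero => exact ⟨⟨0, by simp⟩, 0, by simpa using h0.symm⟩
  | one =>
    have h1 : (1 : D.S.presheaf.obj (op U)) ∈ D.S.deg U hU 0 := SetLike.GradedOne.one_mem
    exact ⟨⟨1, (map_one _).trans (DirectSum.decompose_of_mem_same _ h1).symm⟩,
      0, h0.symm.trans (DirectSum.decompose_of_mem_ne (D.S.deg U hU) h1 zero_ne_one).symm⟩
  | add a b _ _ ha hb =>
    obtain ⟨⟨r, hr⟩, e, he⟩ := ha
    obtain ⟨⟨r', hr'⟩, e', he'⟩ := hb
    refine ⟨⟨r + r', by simp [hr, hr']⟩, e + e', ?_⟩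
    rw [show (D.el hU (e + e')).1 = (D.el hU e).1 + (D.el hU e').1 from map_add (D.j.app U).hom e e', he, he']
    simp
  | neg a _ ha =>
    obtain ⟨⟨r, hr⟩, e, he⟩ := ha
    refine ⟨⟨-r, by simp [hr, DirectSum.decompose_neg]; rfl⟩, -e, ?_⟩
    rw [show (D.el hU (-e)).1 = -(D.el hU e).1 from map_neg (D.j.app U).hom e, he]
    simp [DirectSum.decompose_neg]
    rfl
  | mul a b _ _ ha hb =>
    obtain ⟨⟨r, hr⟩, e, he⟩ := ha
    obtain ⟨⟨r', hr'⟩, e', he'⟩ := hb
    refine ⟨⟨r * r', ?_⟩, r • e' + r' • e, ?_⟩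
    · rw [map_mul, hr, hr', DirectSum.decompose_mul, DirectSum.coe_mul_apply_eq_sum_antidiagonal]
      simp
    · rw [show (D.el hU (r • e' + r' • e)).1 = (D.el hU (r • e')).1 + (D.el hU (r' • e)).1 from
        map_add (D.j.app U).hom _ _, el_smul, el_smul, hr, hr', he, he', DirectSum.decompose_mul,
        DirectSum.coe_mul_apply_eq_sum_antidiagonal, Finset.Nat.antidiagonal_succ]
      simp [mul_comm]

theorem exists_el (a : D.S.deg U hU 1) : ∃ e, D.el hU e = a := by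
  obtain ⟨-, e, he⟩ := D.exists_low hU a.1
  exact ⟨e, Subtype.ext (he.trans (DirectSum.decompose_of_mem_same _ a.2))⟩

include D in
theorem closure_deg : Subring.closure ((D.S.deg U hU 0 : Set (D.S.presheaf.obj (op U))) ∪
    (D.S.deg U hU 1 : Set (D.S.presheaf.obj (op U)))) = ⊤ := by
  rw [eq_top_iff, ← gen_eq_top _ _ D.hE D.hj.1 hU]
  refine Subring.closure_mono ?_
  rintro _ (⟨r, rfl⟩ | ⟨e, rfl⟩)
  · exact Or.inl (D.S.str_mem U hU r)
  · exact Or.inr (D.hj.2 U hU e)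

/-- The chart over `U`. -/
abbrev emb : Proj (D.S.deg U hU) ⟶ P := RelProj.emb p D.chart U hU

/-- `D_+` of a section of `E`. -/
def DPl (e : Γ(E, U)) : P.Opens := D.emb hU ''ᵁ Proj.basicOpen (D.S.deg U hU) (D.el hU e).1

theorem DPl_le (e : Γ(E, U)) : D.DPl hU e ≤ p ⁻¹ᵁ U :=
  (Scheme.Hom.image_le_opensRange _ _).trans (RelTildeLib.opensRange_emb (chart := D.chart) U hU).le

theorem isAffineOpen_DPl (e : Γ(E, U)) : IsAffineOpen (D.DPl hU e) :=
  (Proj.isAffineOpen_basicOpen (D.S.deg U hU) _ (D.el hU e).2 one_pos).image_of_isOpenImmersion _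

theorem cover {x : P} (hx : p x ∈ U) : ∃ e, x ∈ D.DPl hU e := by
  obtain ⟨y, rfl⟩ := (RelTildeLib.opensRange_emb (chart := D.chart) U hU).ge (show x ∈ p ⁻¹ᵁ U from hx)
  obtain ⟨g, hg⟩ := GrModLib.exists_mem_one_notMem
    (RelTildeLib.irrelevant_eq_span_one (D.closure_deg hU)) y
  obtain ⟨e, rfl⟩ := D.exists_el hU g
  exact ⟨e, y, hg, rfl⟩

theorem preimage_DPl (e : Γ(E, U)) :
    D.emb hU ⁻¹ᵁ D.DPl hU e = Proj.basicOpen (D.S.deg U hU) (D.el hU e).1 :=
  Scheme.Hom.preimage_image_eq _ _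

/-- The functions on `D_+(e)`, read in the chart. -/
def pull (e : Γ(E, U)) :
    Γ(P, D.DPl hU e) →+* Γ(Proj (D.S.deg U hU), Proj.basicOpen (D.S.deg U hU) (D.el hU e).1) :=
  ((D.emb hU).appLE (D.DPl hU e) _ (D.preimage_DPl hU e).ge).hom

theorem pull_bijective (e : Γ(E, U)) : Function.Bijective (D.pull hU e) := by
  haveI := (D.emb hU).isIso_app (D.DPl hU e) (Scheme.Hom.image_le_opensRange _ _)
  haveI : IsIso ((Proj (D.S.deg U hU)).presheaf.map (homOfLE (D.preimage_DPl hU e).ge).op) := by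
    have : (homOfLE (D.preimage_DPl hU e).ge).op = eqToHom (congrArg op (D.preimage_DPl hU e)) :=
      Subsingleton.elim _ _
    rw [this]; infer_instance
  haveI : IsIso ((D.emb hU).appLE (D.DPl hU e) _ (D.preimage_DPl hU e).ge) :=
    inferInstanceAs (IsIso (_ ≫ _))
  exact ConcreteCategory.bijective_of_isIso
    ((D.emb hU).appLE (D.DPl hU e) _ (D.preimage_DPl hU e).ge)

/-- The coordinate `e / e₀`. -/
def coord (e₀ e : Γ(E, U)) : Γ(P, D.DPl hU e₀) :=
  (RingEquiv.ofBijective _ (D.pull_bijective hU e₀)).symm (frac1 (D.el hU e₀) (D.el hU e))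

theorem pull_coord (e₀ e : Γ(E, U)) :
    D.pull hU e₀ (D.coord hU e₀ e) = frac1 (D.el hU e₀) (D.el hU e) :=
  (RingEquiv.ofBijective _ (D.pull_bijective hU e₀)).apply_symm_apply _

theorem closure_coord (e₀ : Γ(E, U)) : Subring.closure (Set.range (D.coord hU e₀)) = ⊤ := by
  let T := (RingEquiv.ofBijective _ (D.pull_bijective hU e₀)).symm
  refine eq_top_iff.2 fun c _ => ?_
  have h1 : T.symm c ∈ Subring.closure (Set.range (frac1 (D.el hU e₀))) := by
    rw [closure_frac1 (D.closure_deg hU)]; trivial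
  have h2 := (Subring.mem_map (f := T.toRingHom)).2 ⟨_, h1, rfl⟩
  rw [RingHom.map_closure, ← Set.range_comp, RingEquiv.toRingHom_eq_coe, RingHom.coe_coe, T.apply_symm_apply] at h2
  refine Subring.closure_mono ?_ h2
  rintro _ ⟨a, rfl⟩
  obtain ⟨e, rfl⟩ := D.exists_el hU a
  exact ⟨e, rfl⟩

/-- A linear form sending `e₀` to one gives a ring map on `D_+(e₀)`. -/
theorem exists_hom (e₀ : Γ(E, U)) {R : Type u} [CommRing R] (ρ : Γ(Y, U) →+* R) (c : Γ(E, U) →+ R)
    (hc : ∀ r e, c (r • e) = ρ r * c e) (h1 : c e₀ = 1) :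
    ∃ θ : Γ(P, D.DPl hU e₀) →+* R, ∀ e, θ (D.coord hU e₀ e) = c e := by
  haveI := D.hE
  letI : Algebra Γ(Y, U) R := ρ.toAlgebra
  let l : Γ(E, U) →ₗ[Γ(Y, U)] R :=
    { toFun := c, map_add' := map_add c, map_smul' := fun r e => hc r e }
  let b := RingEquiv.ofBijective _ (bijective_symEval E D.hj.1 hU)
  let χ : D.S.presheaf.obj (op U) →+* R := (SymmetricAlgebra.lift l).toRingHom.comp b.symm.toRingHom
  have hχ : ∀ e, χ (D.el hU e).1 = c e := fun e => by
    show SymmetricAlgebra.lift l (b.symm (jsec D.S.toQCAlg D.j e)) = _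
    rw [show b.symm (jsec D.S.toQCAlg D.j e) = SymmetricAlgebra.ι _ _ e from
      b.injective ((b.apply_symm_apply _).trans (symEval_ι D.S.toQCAlg D.j U e).symm)]
    exact SymmetricAlgebra.lift_ι_apply l e
  obtain ⟨θ, hθ⟩ := ProjBundleLib.exists_hom (D.el hU e₀) χ (by rw [hχ, h1]; exact isUnit_one)
  refine ⟨θ.comp (D.pull hU e₀), fun e => ?_⟩
  have h := hθ (D.el hU e)
  rw [hχ, hχ, h1, mul_one] at h
  rw [RingHom.comp_apply, pull_coord, h]

theorem basicOpen_coord (e₀ e : Γ(E, U)) :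
    P.basicOpen (D.coord hU e₀ e) = D.DPl hU e₀ ⊓ D.DPl hU e := by
  have h1 := (D.emb hU).preimage_basicOpen (D.coord hU e₀ e)
  have h2 : (Proj (D.S.deg U hU)).basicOpen (D.pull hU e₀ (D.coord hU e₀ e)) =
      D.emb hU ⁻¹ᵁ P.basicOpen (D.coord hU e₀ e) := by
    rw [h1, pull, Scheme.Hom.appLE, CommRingCat.comp_apply]
    rw [Scheme.basicOpen_res, inf_eq_right]
    exact ((Proj (D.S.deg U hU)).basicOpen_le _).trans (D.preimage_DPl hU e₀).le
  rw [pull_coord, basicOpen_frac1] at h2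
  have h3 := congrArg (D.emb hU ''ᵁ ·) h2
  simp only [Scheme.Hom.image_preimage_eq_opensRange_inf] at h3
  rw [inf_eq_right.2 ((P.basicOpen_le _).trans (Scheme.Hom.image_le_opensRange _ _))] at h3
  rw [← h3]
  refine TopologicalSpace.Opens.ext ?_
  exact Set.image_inter (D.emb hU).isOpenEmbedding.injective

/-- `φ(e)` on `D_+(e₀)`. -/
def sec (e₀ e : Γ(E, U)) : Γ(O1, D.DPl hU e₀) :=
  O1.presheaf.map (homOfLE (D.DPl_le hU e₀)).op (φ.app U e)

theorem lam_sec (e₀ e : Γ(E, U)) :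
    (lam D U hU).app (D.DPl hU e₀) (D.sec hU e₀ e) =
      GrModLib.fracT (D.S.deg U hU) (D.el hU e) (⟨1, SetLike.GradedOne.one_mem⟩ : D.S.deg U hU 0) 1 (by simp)
        (fun z _ h => z.isPrime.ne_top ((Ideal.eq_top_iff_one _).2 h)) := by
  rw [sec]
  erw [ConcreteCategory.congr_hom ((D.lam U hU).mapPresheaf.naturality (homOfLE (D.DPl_le hU e₀)).op) (φ.app U e)]
  refine Subtype.ext (funext fun y => Subtype.ext ?_)
  refine (D.hφ U hU e ⟨y.1, (D.emb hU).preimage_mono (D.DPl_le hU e₀) y.2⟩).trans ?_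
  rw [← Localization.mk_one_eq_algebraMap]
  rfl

theorem gen_sec (e₀ : Γ(E, U)) : Gen (D.DPl hU e₀) (D.sec hU e₀ e₀) := by
  refine RelTildeLib.gen_of_chart (D.emb hU) (D.lam U hU)
    (fun W hW => D.hO1.bijective U hU W (hW.trans (RelTildeLib.opensRange_emb (chart := D.chart) U hU).le))
    (Scheme.Hom.image_le_opensRange _ _) ?_
  rw [lam_sec]
  exact GrModLib.gen_fracT _ _ 1 _ _ (D.preimage_DPl hU e₀).le

theorem sec_eq (e₀ e : Γ(E, U)) : D.sec hU e₀ e = D.coord hU e₀ e • D.sec hU e₀ e₀ := by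
  refine (D.hO1.bijective U hU _ (D.DPl_le hU e₀)).1 ?_
  rw [Scheme.Modules.Hom.app_smul]
  erw [lam_sec, lam_sec]
  refine Subtype.ext (funext fun y => Subtype.ext ?_)
  have hy : y.1 ∈ Proj.basicOpen (D.S.deg U hU) (D.el hU e₀).1 := (D.preimage_DPl hU e₀).le y.2
  refine Eq.trans ?_ (GrTwist.coe_smul_val 1 y.1
    (((D.emb hU).app (D.DPl hU e₀) (D.coord hU e₀ e) : GrTwist.O (𝒜 := D.S.deg U hU) (op _)).1 y) _).symm
  have hv : ((((D.emb hU).app (D.DPl hU e₀) (D.coord hU e₀ e) : GrTwist.O (𝒜 := D.S.deg U hU) (op _)).1 y).val :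
      GrTwist.Loc (D.S.deg U hU) y.1) = Localization.mk (D.el hU e).1 ⟨(D.el hU e₀).1, hy⟩ := by
    rw [← frac1_val (D.el hU e₀) (D.el hU e) ⟨y.1, hy⟩, ← pull_coord]
    rfl
  rw [hv]
  show Localization.mk (D.el hU e).1 _ = Localization.mk (D.el hU e).1 _ * Localization.mk (D.el hU e₀).1 _
  rw [Localization.mk_mul, Localization.mk_eq_mk_iff, Localization.r_iff_exists]
  exact ⟨1, by simp [mul_comm]⟩

end PData

end Groth.Agent.ProjBundleLib
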