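import Groth.Agent.ProjBundleLib.Canon
import Groth.Agent.RelProjLib.RLpsiImm
import Groth.Agent.S12143

/-! The morphism attached to a map of graded algebras, read through the projective bundle. -/

set_option autoImplicit false
set_option linter.style.haveILetI false
set_option backward.isDefEq.respectTransparency false

universe u

open CategoryTheory CategoryTheory.Limits AlgebraicGeometry TopologicalSpace Opposite
open Groth.Agent.ParaFLib Groth.Agent.RelSpecLib Groth.Agent.PullbackMod Groth.Agent.RelProjLib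

noncomputable section

namespace Groth.Agent.ProjBundleLib

namespace PData

variable {Y P : Scheme.{u}} {p : P ⟶ Y} {E : Y.Modules} {O1 : P.Modules}
  {φ : E ⟶ (Scheme.Modules.pushforward p).obj O1} (D : PData p E O1 φ) {U : Y.Opens} (hU : IsAffineOpen U)
  (e : Γ(E, U))

/-- The functions on a standard open, as fractions. -/
theorem exists_awayι_emb : ∃ A : Γ(P, D.DPl hU e) ⟶ CommRingCat.of (HomogeneousLocalization.Away (D.S.deg U hU) (D.el hU e).1),
    Proj.awayι (D.S.deg U hU) (D.el hU e).1 (D.el hU e).2 one_pos ≫ D.emb hU = Spec.map A ≫ (D.isAffineOpen_DPl hU e).fromSpec ∧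
      ∀ e', A (D.coord hU e e') = awayFrac (D.el hU e) (D.el hU e') := by
  let W := Proj.basicOpen (D.S.deg U hU) (D.el hU e).1
  let iso := Proj.basicOpenIsoAway (D.S.deg U hU) (D.el hU e).1 (D.el hU e).2 one_pos
  refine ⟨(D.emb hU).appLE (D.DPl hU e) W (D.preimage_DPl hU e).ge ≫ iso.inv, ?_, fun e' => ?_⟩
  · rw [Spec.map_comp, Category.assoc, ← cancel_epi (Proj.basicOpenIsoSpec (D.S.deg U hU) _ (D.el hU e).2 one_pos).hom,
      show Proj.awayι (D.S.deg U hU) (D.el hU e).1 (D.el hU e).2 one_pos =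
        (Proj.basicOpenIsoSpec (D.S.deg U hU) _ (D.el hU e).2 one_pos).inv ≫ W.ι from rfl,
      Category.assoc, Iso.hom_inv_id_assoc, ι_comp_eq (D.emb hU) (D.isAffineOpen_DPl hU e) (D.preimage_DPl hU e).ge,
      Proj.basicOpenIsoSpec_hom, Proj.basicOpenToSpec, Category.assoc, ← Spec.map_comp_assoc iso.inv]
    rw [show iso.inv ≫ Proj.awayToSection (D.S.deg U hU) (D.el hU e).1 = 𝟙 _ from iso.inv_hom_id, Spec.map_id]
    simp only [Category.id_comp]
    rfl
  · show iso.inv (D.pull hU e (D.coord hU e e')) = _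
    rw [pull_coord]
    exact ConcreteCategory.congr_hom iso.hom_inv_id (awayFrac (D.el hU e) (D.el hU e'))

end PData

variable {X Y : Scheme.{u}} {q : X ⟶ Y} {L : X.Modules} (hL : PicF.IsInvertible L)
  {E : Y.Modules} (hE : Coh.IsQCoh E) {σ : E ⟶ (Scheme.Modules.pushforward q).obj L}
  {𝒮L : RelProj.QCGrAlg X} {jL : L ⟶ 𝒮L.toModule} (hjL : RelProj.IsGrSymAlg L 𝒮L jL)
  {PL : Scheme.{u}} {pL : PL ⟶ X}
  {chartL : ∀ (U : X.Opens) (hU : IsAffineOpen U), (((pL ⁻¹ᵁ U : PL.Opens) : Scheme.{u}) ≅ Proj (𝒮L.deg U hU))}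
  (hPL : RelProj.IsRelProj 𝒮L pL chartL)
  {𝒜 : RelProj.QCGrAlg Y} {jE : E ⟶ 𝒜.toModule} (h𝒜 : RelProj.IsGrSymAlg E 𝒜 jE)
  (u : RelProj.QGrHom q 𝒜 𝒮L)
  (hu : ∀ (U : Y.Opens) (x : Γ(E, U)), (u.app U).hom ((jE.app U) x) = (jL.app (q ⁻¹ᵁ U)) (σ.app U x))
  {P : Scheme.{u}} {p : P ⟶ Y}
  {chart : ∀ (U : Y.Opens) (hU : IsAffineOpen U), (((p ⁻¹ᵁ U : P.Opens) : Scheme.{u}) ≅ Proj (𝒜.deg U hU))}
  (hP : RelProj.IsRelProj 𝒜 p chart)

include hL hjL hPL h𝒜 hu hP in
/-- The morphism of the graded map is the morphism of the quotient. -/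
theorem eq_compat {O1 : P.Modules}
    {lam : ∀ (U : Y.Opens) (hU : IsAffineOpen U),
      O1 ⟶ (Scheme.Modules.pushforward (RelProj.emb p chart U hU)).obj (GrTwist.twist (𝒜.deg U hU) 1)}
    (hO1 : RelProj.IsRelTwist 𝒜 p chart 1 O1 lam) {φ : E ⟶ (Scheme.Modules.pushforward p).obj O1}
    (hφ : ∀ (U : Y.Opens) (hU : IsAffineOpen U) (e : Γ(E, U)) (y : ↥(RelProj.emb p chart U hU ⁻¹ᵁ (p ⁻¹ᵁ U))),
      GrTwist.val (V := RelProj.emb p chart U hU ⁻¹ᵁ (p ⁻¹ᵁ U)) ((lam U hU).app (p ⁻¹ᵁ U) (φ.app U e)) y =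
        algebraMap (𝒜.presheaf.obj (op U)) (GrTwist.Loc (𝒜.deg U hU) y.1) (jE.app U e : 𝒜.presheaf.obj (op U)))
    (hE : Coh.IsQCoh E) (hG : Gens σ) {k : X ⟶ P} (hk : Compat φ σ (𝟙 X) k)
    (r : ((RelProj.domQ u pL chartL : PL.Opens) : Scheme.{u}) ⟶ P)
    (hr : RelProj.IsProjQMapOn u p chart pL chartL (RelProj.domQ u pL chartL) r) :
    RelProj.domQ u pL chartL = ⊤ ∧ r = (RelProj.domQ u pL chartL).ι ≫ pL ≫ k := by
  haveI := InvExt.isQCoh_of_isInvertible hL
  haveI hiso : IsIso pL := Groth.Agent.S12143.result L hL inferInstance 𝒮L jL hjL pL chartL hPL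
  let D : PData p E O1 φ := ⟨hE, 𝒜, jE, h𝒜, chart, hP, lam, hO1, hφ⟩
  have hp : ∀ x, p (k x) = q x := fun x => congrArg (fun f => f x) (hk.1.trans (Category.id_comp q))
  have key : ∀ x : X, ∃ i : QMap.Idx (g := q) (𝒮 := 𝒜), (∀ z : PL, pL z = x → z ∈ Set.range (QMap.cMap u pL chartL i).base) ∧
      QMap.lMap u pL chartL i ≫ r = QMap.lMap u pL chartL i ≫ (RelProj.domQ u pL chartL).ι ≫ pL ≫ k := fun x => by
    obtain ⟨_, ⟨U, hU, rfl⟩, hxU, -⟩ :=
      Y.isBasis_affineOpens.exists_subset_of_mem_open (Set.mem_univ (q x)) isOpen_univ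
    obtain ⟨e, he⟩ := hG.affine hE hL x U hU hxU
    have hy : p (k x) ∈ U := (hp x).symm ▸ hxU
    have hxD : k x ∈ D.DPl hU e := (D.mem_DPl_iff hU e hy).2 ((hk.2 U e x hy hxU).1.2 he)
    obtain ⟨_, ⟨V, hV, rfl⟩, hxV, hVk⟩ :=
      X.isBasis_affineOpens.exists_subset_of_mem_open (show x ∈ k ⁻¹ᵁ D.DPl hU e from hxD) (k ⁻¹ᵁ D.DPl hU e).2
    have hVD : V ≤ k ⁻¹ᵁ D.DPl hU e := hVk
    have hVU : V ≤ q ⁻¹ᵁ U := fun z hz => by
      show q z ∈ U
      rw [← hp]
      exact D.DPl_le hU e (hVD hz)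
    have hb : ∀ z (hz : z ∈ V), Function.Bijective fun c : X.presheaf.stalk z => c • germφ σ z (hVU hz) e := fun z hz =>
      (hk.2 U e z (D.DPl_le hU e (hVD hz)) (hVU hz)).1.1 (D.bijective_germφ hU e (hVD hz))
    let eV := L.presheaf.map (homOfLE hVU).op (σ.app U e)
    have heV : Gen V eV := AmpleLib.gen_of_germ fun z hz => by
      erw [TopCat.Presheaf.germ_res_apply L.presheaf (homOfLE hVU) z hz]
      exact hb z hz
    have hu' : ∀ e' : Γ(E, U), (u.appLE U V hVU).hom ((jE.app U) e') =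
        jsec 𝒮L.toQCAlg jL (L.presheaf.map (homOfLE hVU).op (σ.app U e')) := fun e' => by
      rw [← res_jsec]
      show (𝒮L.presheaf.map (homOfLE hVU).op).hom ((u.app U).hom ((jE.app U) e')) = _
      rw [hu]
      rfl
    let i : QMap.Idx (g := q) (𝒮 := 𝒜) := ⟨U, hU, V, hV, hVU, 1, one_pos, (D.el hU e).1, (D.el hU e).2⟩
    have hψ : u.gradedAt U hU V hV hVU (D.el hU e).1 = (RelSpecLib.gen₁ hV hjL eV).1 := hu' e
    refine ⟨i, fun z hz => ?_, ?_⟩
    · rw [QMap.range_cMap]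
      have hzV : z ∈ (RelProj.emb pL chartL V hV).opensRange := by
        rw [RelTildeLib.opensRange_emb (chart := chartL) V hV]
        show pL z ∈ V
        rw [hz]; exact hxV
      obtain ⟨w, rfl⟩ := hzV
      refine ⟨w, ?_, rfl⟩
      show w ∈ Proj.basicOpen _ (u.gradedAt U hU V hV hVU (D.el hU e).1)
      rw [hψ, RelSpecLib.basicOpen_gen₁ hV hjL heV]
      trivial
    · rw [QMap.lMap_ι_assoc]
      refine (hr U hU V hV hVU 1 one_pos (D.el hU e).1 (D.el hU e).2 _).trans ?_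
      obtain ⟨A, hA, hAc⟩ := D.exists_awayι_emb hU e
      show _ ≫ Proj.awayι _ _ _ _ ≫ D.emb hU = _
      rw [hA]
      show _ = (Proj.awayι _ _ _ _ ≫ RelProj.emb pL chartL V hV) ≫ pL ≫ k
      rw [Category.assoc, reassoc_of% (QMap.awayι_emb hPL V hV one_pos _ _),
        ← IsAffineOpen.SpecMap_appLE_fromSpec k (D.isAffineOpen_DPl hU e) hV hVD, ← Spec.map_comp_assoc,
        ← Spec.map_comp_assoc]
      congr 2
      refine CommRingCat.hom_ext (RingHom.eq_of_eqOn_set_dense (D.closure_coord hU e) (Set.eqOn_range.2 (funext fun e' => ?_)))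
      show HomogeneousLocalization.Away.map (u.gradedAt U hU V hV hVU) (D.el hU e).1 (A (D.coord hU e e')) =
        HomogeneousLocalization.fromZeroRingHom (𝒮L.deg V hV) _ ((𝒮L.strZero V hV).hom (k.appLE (D.DPl hU e) V hVD (D.coord hU e e')))
      rw [hAc, awayFrac]
      have hc : k.appLE (D.DPl hU e) V hVD (D.coord hU e e') • eV = L.presheaf.map (homOfLE hVU).op (σ.app U e') := by
        refine TopCat.Presheaf.section_ext (⟨L.presheaf, L.isSheaf⟩ : TopCat.Sheaf Ab X) V _ _ fun z hz => ?_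
        obtain ⟨lam', hlam⟩ := (hb z hz).2 (germφ σ z (hVU hz) e')
        have e1 := (hk.2 U e z (D.DPl_le hU e (hVD hz)) (hVU hz)).2 e' _ lam' (hb z hz) (D.germφ_eq hU e e' (hVD hz)).symm hlam
        rw [germ_stalkMap_congr k hVD z hz, Scheme.Hom.stalkMap_id] at e1
        show L.presheaf.germ V z hz (_ • _) = L.presheaf.germ V z hz _
        rw [germ_smul' z hz, e1]
        erw [TopCat.Presheaf.germ_res_apply L.presheaf (homOfLE hVU) z hz,
          TopCat.Presheaf.germ_res_apply L.presheaf (homOfLE hVU) z hz]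
        exact hlam
      refine HomogeneousLocalization.val_injective _ ?_
      rw [HomogeneousLocalization.Away.map_mk, HomogeneousLocalization.Away.val_mk]
      show Localization.mk (u.gradedAt U hU V hV hVU (D.el hU e').1) _ =
        Localization.mk ((𝒮L.str.app (op V)).hom (k.appLE (D.DPl hU e) V hVD (D.coord hU e e'))) 1
      rw [show u.gradedAt U hU V hV hVU (D.el hU e').1 =
        (𝒮L.str.app (op V)).hom (k.appLE (D.DPl hU e) V hVD (D.coord hU e e')) * jsec 𝒮L.toQCAlg jL eV by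
          refine (hu' e').trans ?_
          rw [← hc, jsec_smul]]
      refine Localization.mk_eq_mk_iff.2 (Localization.r_iff_exists.2 ⟨1, ?_⟩)
      simp only [OneMemClass.coe_one, one_mul, pow_one]
      rw [hψ]
      exact mul_comm _ _
  choose i hi hir using key
  have htop : RelProj.domQ u pL chartL = ⊤ := eq_top_iff.2 fun z _ => by
    obtain ⟨w, hw⟩ := hi (pL z) z rfl
    rw [← hw]
    exact QMap.cMap_mem_domQ u pL chartL _ w
  refine ⟨htop, ?_⟩
  let 𝒰 : ((RelProj.domQ u pL chartL : PL.Opens) : Scheme.{u}).OpenCover :=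
    Scheme.Cover.mkOfCovers X (fun x => QMap.src u (i x)) (fun x => QMap.lMap u pL chartL (i x))
      (fun z => by
        obtain ⟨w, hw⟩ := hi (pL z.1) z.1 rfl
        refine ⟨pL z.1, w, (RelProj.domQ u pL chartL).ι.isOpenEmbedding.injective ?_⟩
        exact (congrArg (fun t : QMap.src u (i (pL z.1)) ⟶ PL => t w) (QMap.lMap_ι u pL chartL (i (pL z.1)))).trans hw)
      (fun _ => inferInstance)
  exact 𝒰.hom_ext _ _ fun x => hir x

include hL hjL hPL h𝒜 hu hP in
theorem isImmersion_qmap (hE : Coh.IsQCoh E) (hG : Gens σ) (r : ((RelProj.domQ u pL chartL : PL.Opens) : Scheme.{u}) ⟶ P)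
    (hr : RelProj.IsProjQMapOn u p chart pL chartL (RelProj.domQ u pL chartL) r)
    (himm : ∀ (O1 : P.Modules) (φ : E ⟶ (Scheme.Modules.pushforward p).obj O1) (_ : PData p E O1 φ) (k : X ⟶ P),
      Compat φ σ (𝟙 X) k → IsImmersion k) :
    RelProj.domQ u pL chartL = ⊤ ∧ IsImmersion r := by
  obtain ⟨O1, lam, hO1⟩ := S8284.result 𝒜 p chart hP 1
  obtain ⟨φ, hφ⟩ := exists_φ_val hE h𝒜 hP hO1
  let D : PData p E O1 φ := ⟨hE, 𝒜, jE, h𝒜, chart, hP, lam, hO1, hφ⟩
  obtain ⟨k, hk, -⟩ := D.existsUnique_compat_of_gens hL hG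
  haveI := InvExt.isQCoh_of_isInvertible hL
  haveI : IsIso pL := Groth.Agent.S12143.result L hL inferInstance 𝒮L jL hjL pL chartL hPL
  haveI := himm O1 φ D k hk
  obtain ⟨htop, hrk⟩ := eq_compat hL hjL hPL h𝒜 u hu hP hO1 hφ hE hG hk r hr
  refine ⟨htop, ?_⟩
  rw [hrk]
  infer_instance

end Groth.Agent.ProjBundleLib
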