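import Groth.Agent.ProjBundleLib.ImgAlg
import Groth.Agent.ProjBundleLib.QMapCanon
import Groth.Agent.ProjBundleLib.Closed

/-! A closed subscheme of a projective bundle is a relative `Proj`. -/

set_option autoImplicit false
set_option linter.style.haveILetI false
set_option backward.isDefEq.respectTransparency false

universe u

open CategoryTheory CategoryTheory.Limits AlgebraicGeometry TopologicalSpace Opposite
open Groth.Agent.ParaFLib Groth.Agent.RelSpecLib Groth.Agent.PullbackMod Groth.Agent.RelProjLib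
open scoped HomogeneousIdeal

noncomputable section

namespace Groth.Agent.ProjBundleLib

theorem proj_map_congr {A σ B τ : Type u} [CommRing A] [SetLike σ A] [AddSubgroupClass σ A] {𝒜 : ℕ → σ}
    [GradedRing 𝒜] [CommRing B] [SetLike τ B] [AddSubgroupClass τ B] {ℬ : ℕ → τ} [GradedRing ℬ]
    {f f' : 𝒜 →+*ᵍ ℬ} (e : f = f') (h : HomogeneousIdeal.irrelevant ℬ ≤ (HomogeneousIdeal.irrelevant 𝒜).map f)
    (h' : HomogeneousIdeal.irrelevant ℬ ≤ (HomogeneousIdeal.irrelevant 𝒜).map f') :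
    Proj.map f h = Proj.map f' h' := by
  subst e
  rfl

/-- A fraction of a graded map vanishes when the numerator is killed by a power of the denominator. -/
theorem away_map_mk_eq_zero_iff {A σ B τ : Type u} [CommRing A] [SetLike σ A] [AddSubgroupClass σ A] {𝒜 : ℕ → σ}
    [GradedRing 𝒜] [CommRing B] [SetLike τ B] [AddSubgroupClass τ B] {ℬ : ℕ → τ} [GradedRing ℬ]
    (f : 𝒜 →+*ᵍ ℬ) {g : A} (hg : g ∈ 𝒜 1) {n : ℕ} {a : A} (ha : a ∈ 𝒜 (n • 1)) :
    HomogeneousLocalization.Away.map f g (HomogeneousLocalization.Away.mk 𝒜 hg n a ha) = 0 ↔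
      ∃ k : ℕ, f (g ^ k * a) = 0 := by
  rw [HomogeneousLocalization.Away.map_mk, ← (HomogeneousLocalization.val_injective _).eq_iff,
    HomogeneousLocalization.Away.val_mk, HomogeneousLocalization.val_zero, ← Localization.mk_zero 1,
    Localization.mk_eq_mk_iff, Localization.r_iff_exists]
  constructor
  · rintro ⟨⟨_, k, rfl⟩, hk⟩
    refine ⟨k, ?_⟩
    simpa [map_mul, map_pow] using hk
  · rintro ⟨k, hk⟩
    refine ⟨⟨f g ^ k, k, rfl⟩, ?_⟩
    simpa [map_mul, map_pow] using hk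

variable {X Y P : Scheme.{u}} {p : P ⟶ Y} {E : Y.Modules} {O1 : P.Modules}
  {φ : E ⟶ (Scheme.Modules.pushforward p).obj O1} (D : PData p E O1 φ)
  {g : X ⟶ Y} [QuasiCompact g] {L : X.Modules} {σ : E ⟶ (Scheme.Modules.pushforward g).obj L}
  (i : X ⟶ P) [IsClosedImmersion i]
  {𝒮L : RelProj.QCGrAlg X} {jL : L ⟶ 𝒮L.toModule} (u : RelProj.QGrHom g D.S 𝒮L)

section affine

variable (hc : Compat φ σ (𝟙 X) i) (hL : PicF.IsInvertible L) (hjL : RelProj.IsGrSymAlg L 𝒮L jL)
  (hu : ∀ (U : Y.Opens) (x : Γ(E, U)), (u.app U).hom ((D.j.app U) x) = (jL.app (g ⁻¹ᵁ U)) (σ.app U x))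
  {U : Y.Opens} (hU : IsAffineOpen U) (e : Γ(E, U))

include hc in
theorem preimage_DPl_le : i ⁻¹ᵁ D.DPl hU e ≤ g ⁻¹ᵁ U := fun z hz => by
  have h := congrArg (fun f : X ⟶ Y => f z) (hc.1.trans (Category.id_comp g))
  show g z ∈ U
  rw [← h]
  exact D.DPl_le hU e hz

include hc hu hL hjL in
/-- A fraction vanishes on the subscheme when its numerator is killed by `u` up to a power of the denominator. -/
theorem app_eq_zero_iff {n : ℕ} {a : D.S.presheaf.obj (op U)} (ha : a ∈ D.S.deg U hU (n • 1))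
    (c : Γ(P, D.DPl hU e))
    (hcv : D.pull hU e c = Proj.awayToSection (D.S.deg U hU) (D.el hU e).1
      (HomogeneousLocalization.Away.mk (D.S.deg U hU) (D.el hU e).2 n a ha)) :
    (i.app (D.DPl hU e)).hom c = 0 ↔ ∃ k : ℕ, (D.el hU e).1 ^ k * a ∈ kerAt u U := by
  haveI := InvExt.isQCoh_of_isInvertible hL
  let V := i ⁻¹ᵁ D.DPl hU e
  have hV : IsAffineOpen V := (D.isAffineOpen_DPl hU e).preimage i
  have hVU : V ≤ g ⁻¹ᵁ U := preimage_DPl_le D i hc hU e
  have hb : ∀ z (hz : z ∈ V), Function.Bijective fun c : X.presheaf.stalk z => c • germφ σ z (hVU hz) e := fun z hz =>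
    (hc.2 U e z (D.DPl_le hU e hz) (hVU hz)).1.1 (D.bijective_germφ hU e hz)
  let eV := L.presheaf.map (homOfLE hVU).op (σ.app U e)
  have heV : Gen V eV := AmpleLib.gen_of_germ fun z hz => by
    erw [TopCat.Presheaf.germ_res_apply L.presheaf (homOfLE hVU) z hz]
    exact hb z hz
  have hu' : ∀ e' : Γ(E, U), u.gradedAt U hU V hV hVU (D.el hU e').1 =
      jsec 𝒮L.toQCAlg jL (L.presheaf.map (homOfLE hVU).op (σ.app U e')) := fun e' => by
    rw [← res_jsec]
    show (𝒮L.presheaf.map (homOfLE hVU).op).hom ((u.app U).hom ((D.j.app U) e')) = _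
    rw [hu]
    rfl
  let A := RingEquiv.ofBijective _ (D.pull_bijective hU e)
  let str := (HomogeneousLocalization.fromZeroRingHom (𝒮L.deg V hV)
    (Submonoid.powers (u.gradedAt U hU V hV hVU (D.el hU e).1))).comp (𝒮L.strZero V hV).hom
  let χ₁ : HomogeneousLocalization.Away (D.S.deg U hU) (D.el hU e).1 →+*
      HomogeneousLocalization.Away (𝒮L.deg V hV) (u.gradedAt U hU V hV hVU (D.el hU e).1) :=
    str.comp ((i.app (D.DPl hU e)).hom.comp (A.symm.toRingHom.comp
      (Proj.awayToSection (D.S.deg U hU) (D.el hU e).1).hom))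
  have hstr : Function.Injective str := fun r r' h => by
    have h' := congrArg HomogeneousLocalization.val h
    change Localization.mk ((𝒮L.str.app (op V)).hom r) 1 = Localization.mk ((𝒮L.str.app (op V)).hom r') 1 at h'
    rw [Localization.mk_eq_mk_iff, Localization.r_iff_exists] at h'
    obtain ⟨⟨_, k, rfl⟩, hk⟩ := h'
    refine RelSpecLib.str_mul_pow_injective hV hjL heV k ?_
    simp only [OneMemClass.coe_one, one_mul] at hk
    show _ * jsec 𝒮L.toQCAlg jL eV ^ k = _ * jsec 𝒮L.toQCAlg jL eV ^ k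
    rw [← hu' e, mul_comm, hk, mul_comm]
  have hχ : χ₁ = HomogeneousLocalization.Away.map (u.gradedAt U hU V hV hVU) (D.el hU e).1 := by
    refine RingHom.eq_of_eqOn_set_dense (closure_awayFrac (D.closure_deg hU) (D.el hU e))
      (Set.eqOn_range.2 (funext fun a' => ?_))
    obtain ⟨e', rfl⟩ := D.exists_el hU a'
    show str ((i.app (D.DPl hU e)).hom (D.coord hU e e')) =
      HomogeneousLocalization.Away.map (u.gradedAt U hU V hV hVU) (D.el hU e).1
        (awayFrac (D.el hU e) (D.el hU e'))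
    have hceq : (i.app (D.DPl hU e)).hom (D.coord hU e e') • eV = L.presheaf.map (homOfLE hVU).op (σ.app U e') := by
      refine TopCat.Presheaf.section_ext (⟨L.presheaf, L.isSheaf⟩ : TopCat.Sheaf Ab X) V _ _ fun z hz => ?_
      obtain ⟨lam', hlam⟩ := (hb z hz).2 (germφ σ z (hVU hz) e')
      have e1 := (hc.2 U e z (D.DPl_le hU e hz) (hVU hz)).2 e' _ lam' (hb z hz) (D.germφ_eq hU e e' hz).symm hlam
      rw [germ_stalkMap_congr i (le_refl V) z hz, Scheme.Hom.stalkMap_id, ← Scheme.Hom.app_eq_appLE] at e1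
      show L.presheaf.germ V z hz (_ • _) = L.presheaf.germ V z hz _
      rw [germ_smul' z hz, e1]
      erw [TopCat.Presheaf.germ_res_apply L.presheaf (homOfLE hVU) z hz,
        TopCat.Presheaf.germ_res_apply L.presheaf (homOfLE hVU) z hz]
      exact hlam
    refine HomogeneousLocalization.val_injective _ ?_
    rw [show awayFrac (D.el hU e) (D.el hU e') = HomogeneousLocalization.Away.mk (D.S.deg U hU) (D.el hU e).2 1
      (D.el hU e').1 (by simpa using (D.el hU e').2) from rfl, HomogeneousLocalization.Away.map_mk,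
      HomogeneousLocalization.Away.val_mk]
    show Localization.mk ((𝒮L.str.app (op V)).hom ((i.app (D.DPl hU e)).hom (D.coord hU e e'))) 1 = _
    rw [Localization.mk_eq_mk_iff, Localization.r_iff_exists]
    refine ⟨1, ?_⟩
    simp only [OneMemClass.coe_one, one_mul, pow_one]
    rw [hu' e', ← hceq, jsec_smul, hu' e]
    exact mul_comm _ _
  have hAc : A.symm ((Proj.awayToSection (D.S.deg U hU) (D.el hU e).1).hom
      (HomogeneousLocalization.Away.mk (D.S.deg U hU) (D.el hU e).2 n a ha)) = c := by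
    rw [← hcv]
    exact A.symm_apply_apply c
  have h1 : (i.app (D.DPl hU e)).hom c = 0 ↔
      ∃ k : ℕ, u.gradedAt U hU V hV hVU ((D.el hU e).1 ^ k * a) = 0 := by
    rw [← away_map_mk_eq_zero_iff (u.gradedAt U hU V hV hVU) (D.el hU e).2 ha, ← hχ, ← hAc]
    exact ((map_eq_zero_iff str hstr).symm)
  rw [h1]
  refine ⟨fun ⟨k, hk⟩ => ?_, fun ⟨k, hk⟩ => ⟨k, ?_⟩⟩
  swap
  · show (𝒮L.presheaf.map (homOfLE hVU).op).hom ((u.app U).hom _) = 0
    rw [show (u.app U).hom ((D.el hU e).1 ^ k * a) = 0 from hk, map_zero]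
  obtain ⟨m, hm⟩ := exists_pow_mul_eq_zero 𝒮L.toQCAlg (g.isCompact_preimage hU.isCompact)
    ((u.app U).hom ((D.el hU e).1 ^ k * a)) ((u.app U).hom (D.el hU e).1) fun z hz => by
      obtain ⟨W₀, ε₀, hzW₀, hε₀⟩ := exists_gen_nhd hL z
      obtain ⟨_, ⟨W, hW, rfl⟩, hzW, hWle⟩ :=
        X.isBasis_affineOpens.exists_subset_of_mem_open (show z ∈ g ⁻¹ᵁ U ⊓ W₀ from ⟨hz, hzW₀⟩) (g ⁻¹ᵁ U ⊓ W₀).2
      have hWU : W ≤ g ⁻¹ᵁ U := hWle.trans (fun _ h => h.1)
      have hW0 : W ≤ W₀ := hWle.trans (fun _ h => h.2)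
      have hε := hε₀.res hW0
      obtain ⟨d, hd⟩ := (bijective_smul_of_gen hε).2 (L.presheaf.map (homOfLE hWU).op (σ.app U e))
      refine ⟨W, hWU, hzW, ?_⟩
      have hle : X.basicOpen d ≤ V := fun w hw => by
        have hwW : w ∈ W := X.basicOpen_le d hw
        have hbσ : Function.Bijective fun c : X.presheaf.stalk w => c • germφ σ w (hWU hwW) e := by
          have h1 : germφ σ w (hWU hwW) e = X.presheaf.germ W w hwW d •
              L.presheaf.germ W w hwW (L.presheaf.map (homOfLE hW0).op ε₀) := by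
            refine Eq.trans ?_ (germ_smul' w hwW _ _)
            refine Eq.trans ?_ (congrArg (L.presheaf.germ W w hwW) hd.symm)
            exact (TopCat.Presheaf.germ_res_apply L.presheaf (homOfLE hWU) w hwW _).symm
          rw [h1, AmpleLib.bijective_smul_iff (hε.bijective_germ w hwW)]
          exact (Scheme.mem_basicOpen _ d w hwW).1 hw
        have hy : p (i w) ∈ U := by
          have h := congrArg (fun f : X ⟶ Y => f w) (hc.1.trans (Category.id_comp g))
          show (i ≫ p) w ∈ U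
          rw [h]
          exact hWU hwW
        exact (D.mem_DPl_iff hU e hy).2 ((hc.2 U e w hy (hWU hwW)).1.2 hbσ)
      letI := (𝒮L.presheaf.map (homOfLE (X.basicOpen_le d)).op).hom.toAlgebra
      haveI := 𝒮L.isQC W hW d
      have h0 : algebraMap _ (𝒮L.presheaf.obj (op (X.basicOpen d)))
          ((𝒮L.presheaf.map (homOfLE hWU).op).hom ((u.app U).hom ((D.el hU e).1 ^ k * a))) = 0 := by
        have e1 := congrArg (𝒮L.presheaf.map (homOfLE hle).op).hom hk
        rw [map_zero] at e1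
        show (𝒮L.presheaf.map (homOfLE (X.basicOpen_le d)).op).hom _ = 0
        rw [RelSpecLib.res_res]
        refine Eq.trans ?_ e1
        show _ = (𝒮L.presheaf.map (homOfLE hle).op).hom ((𝒮L.presheaf.map (homOfLE hVU).op).hom _)
        rw [RelSpecLib.res_res]
        rfl
      obtain ⟨⟨_, m, rfl⟩, hm⟩ := (IsLocalization.map_eq_zero_iff
        (Submonoid.powers ((𝒮L.str.app (op W)).hom d)) _ _).1 h0
      refine ⟨m, ?_⟩
      rw [map_mul, map_pow]
      have hy : (𝒮L.presheaf.map (homOfLE hWU).op).hom ((u.app U).hom (D.el hU e).1) =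
          (𝒮L.str.app (op W)).hom d * jsec 𝒮L.toQCAlg jL (L.presheaf.map (homOfLE hW0).op ε₀) := by
        show (𝒮L.presheaf.map (homOfLE hWU).op).hom ((u.app U).hom ((D.j.app U) e)) = _
        rw [hu, ← jsec_smul]
        refine (res_jsec 𝒮L.toQCAlg jL hWU (σ.app U e)).trans ?_
        exact congrArg (jsec 𝒮L.toQCAlg jL) hd.symm
      change (𝒮L.str.app (op W)).hom d ^ m * _ = 0 at hm
      rw [hy, mul_pow, mul_right_comm, hm, zero_mul]
  refine ⟨m + k, ?_⟩
  show (u.app U).hom _ = 0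
  rw [pow_add, mul_assoc, map_mul, map_pow]
  exact hm

include hc hu hL hjL in
/-- Over an affine open, the subscheme is the `Proj` of the image algebra. -/
theorem exists_iso : ∃ θ : ((g ⁻¹ᵁ U : X.Opens) : Scheme.{u}) ≅ Proj ((imgAlg u).deg U hU),
    θ.hom ≫ Proj.map (imgHom u U hU) (imgHom_irrelevant u U hU) ≫ D.emb hU = (g ⁻¹ᵁ U).ι ≫ i := by
  have hi : i ≫ p = g := hc.1.trans (Category.id_comp g)
  have he : g ⁻¹ᵁ U = i ⁻¹ᵁ (p ⁻¹ᵁ U) := by rw [← hi]; rfl
  let iU : ((g ⁻¹ᵁ U : X.Opens) : Scheme.{u}) ⟶ Proj (D.S.deg U hU) :=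
    (X.isoOfEq he).hom ≫ (i ∣_ (p ⁻¹ᵁ U)) ≫ (D.chart U hU).hom
  have hiU : iU ≫ D.emb hU = (g ⁻¹ᵁ U).ι ≫ i := by
    show ((X.isoOfEq he).hom ≫ (i ∣_ (p ⁻¹ᵁ U)) ≫ (D.chart U hU).hom) ≫ (D.chart U hU).inv ≫ (p ⁻¹ᵁ U).ι = _
    simp only [Category.assoc, Iso.hom_inv_id_assoc, morphismRestrict_ι]
    rw [Scheme.isoOfEq_hom_ι_assoc]
  haveI : IsClosedImmersion iU := by
    haveI : IsClosedImmersion (i ∣_ (p ⁻¹ᵁ U)) := IsZariskiLocalAtTarget.restrict (P := @IsClosedImmersion) ‹_› _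
    infer_instance
  let j := Proj.map (imgHom u U hU) (imgHom_irrelevant u U hU)
  haveI : IsClosedImmersion j := isClosedImmersion_map_pos _ _ fun n _ b hb => by
    obtain ⟨a, ha, rfl⟩ := hb
    exact ⟨a, ha, rfl⟩
  have hcov : (⨆ e : Γ(E, U), Proj.basicOpen (D.S.deg U hU) (D.el hU e).1) = ⊤ := eq_top_iff.2 fun y _ => by
    have hy : p (D.emb hU y) ∈ U :=
      (RelTildeLib.opensRange_emb (chart := D.chart) U hU).le ⟨y, rfl⟩
    obtain ⟨e, he⟩ := D.cover hU hy
    exact Opens.mem_iSup.2 ⟨e, (D.preimage_DPl hU e).le he⟩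
  have hker : j.ker = iU.ker := by
    refine Scheme.IdealSheafData.ext_of_iSup_eq_top
      (fun e : Γ(E, U) => ⟨Proj.basicOpen (D.S.deg U hU) (D.el hU e).1,
        Proj.isAffineOpen_basicOpen (D.S.deg U hU) _ (D.el hU e).2 one_pos⟩) hcov fun e => ?_
    rw [Scheme.Hom.ker_apply, Scheme.Hom.ker_apply]
    refine Ideal.ext fun s => ?_
    obtain ⟨c, rfl⟩ := (D.pull_bijective hU e).2 s
    obtain ⟨y, hy⟩ : ∃ y, (Proj.awayToSection (D.S.deg U hU) (D.el hU e).1).hom y = D.pull hU e c :=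
      ⟨(Proj.basicOpenIsoAway (D.S.deg U hU) _ (D.el hU e).2 one_pos).inv.hom (D.pull hU e c),
        congr(($((Proj.basicOpenIsoAway (D.S.deg U hU) _ (D.el hU e).2 one_pos).inv_hom_id)).hom (D.pull hU e c))⟩
    obtain ⟨n, a, ha, rfl⟩ := HomogeneousLocalization.Away.mk_surjective _ (D.el hU e).2 y
    rw [RingHom.mem_ker, RingHom.mem_ker]
    have hj : (j.app (Proj.basicOpen (D.S.deg U hU) (D.el hU e).1)).hom (D.pull hU e c) = 0 ↔
        HomogeneousLocalization.Away.map (imgHom u U hU) (D.el hU e).1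
          (HomogeneousLocalization.Away.mk (D.S.deg U hU) (D.el hU e).2 n a ha) = 0 := by
      have h1 : Proj.awayToSection (D.S.deg U hU) (D.el hU e).1 ≫ j.app _ =
          CommRingCat.ofHom (HomogeneousLocalization.Away.map (imgHom u U hU) (D.el hU e).1) ≫
            Proj.awayToSection ((imgAlg u).deg U hU) (imgHom u U hU (D.el hU e).1) := by
        rw [Scheme.Hom.app_eq_appLE]
        exact Proj.awayToSection_comp_appLE _ (imgHom_irrelevant u U hU) (D.el hU e).2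
      rw [← hy]
      erw [congr(($h1).hom (HomogeneousLocalization.Away.mk (D.S.deg U hU) (D.el hU e).2 n a ha))]
      exact map_eq_zero_iff _ (ConcreteCategory.bijective_of_isIso (Proj.basicOpenIsoAway ((imgAlg u).deg U hU)
        (imgHom u U hU (D.el hU e).1) ((imgHom u U hU).map_mem (D.el hU e).2) one_pos).hom).1
    rw [hj, away_map_mk_eq_zero_iff]
    refine (exists_congr fun k => imgHom_eq_zero_iff u U hU _).trans ?_
    rw [← app_eq_zero_iff D i u hc hL hjL hu hU e ha c hy.symm]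
    let O := Proj.basicOpen (D.S.deg U hU) (D.el hU e).1
    have hle : (g ⁻¹ᵁ U).ι ''ᵁ (iU ⁻¹ᵁ O) ≤ i ⁻¹ᵁ D.DPl hU e := by
      rintro _ ⟨w, hw, rfl⟩
      show i ((g ⁻¹ᵁ U).ι w) ∈ D.DPl hU e
      exact Eq.mp (congrArg (fun f : ((g ⁻¹ᵁ U : X.Opens) : Scheme.{u}) ⟶ P => f w ∈ D.DPl hU e) hiU)
        ((D.preimage_DPl hU e).ge hw)
    have hge : i ⁻¹ᵁ D.DPl hU e ≤ (g ⁻¹ᵁ U).ι ''ᵁ (iU ⁻¹ᵁ O) := fun w hw => by
      have hwU : w ∈ g ⁻¹ᵁ U := preimage_DPl_le D i hc hU e hw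
      refine ⟨⟨w, hwU⟩, ?_, rfl⟩
      refine (D.preimage_DPl hU e).le ?_
      show D.emb hU (iU ⟨w, hwU⟩) ∈ D.DPl hU e
      rw [show D.emb hU (iU ⟨w, hwU⟩) = i w from
        congrArg (fun f : ((g ⁻¹ᵁ U : X.Opens) : Scheme.{u}) ⟶ P => f ⟨w, hwU⟩) hiU]
      exact hw
    have hW : iU ⁻¹ᵁ O ≤ ((g ⁻¹ᵁ U).ι ≫ i) ⁻¹ᵁ D.DPl hU e := by
      intro w hw
      exact hle ⟨w, hw, rfl⟩
    have h2 : (iU.app O).hom (D.pull hU e c) = (((g ⁻¹ᵁ U).ι ≫ i).appLE (D.DPl hU e) (iU ⁻¹ᵁ O) hW).hom c := by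
      have h3 := Scheme.Hom.appLE_comp_appLE iU (D.emb hU) (D.DPl hU e) O (iU ⁻¹ᵁ O) (D.preimage_DPl hU e).ge le_rfl
      rw [iU.app_eq_appLE]
      refine (congr(($h3).hom c)).trans ?_
      simp only [hiU]
    have h4 : (((g ⁻¹ᵁ U).ι ≫ i).appLE (D.DPl hU e) (iU ⁻¹ᵁ O) hW).hom c =
        (X.presheaf.map (homOfLE hle).op).hom ((i.app (D.DPl hU e)).hom c) := by
      rw [Scheme.Hom.comp_appLE, Scheme.Opens.ι_appLE]
      rfl
    rw [h2, h4]
    refine ⟨fun h => by rw [h, map_zero], fun h => ?_⟩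
    have h5 := congrArg (X.presheaf.map (homOfLE hge).op).hom h
    rw [map_zero, ← CommRingCat.comp_apply, ← Functor.map_comp] at h5
    rw [show ((homOfLE hle).op ≫ (homOfLE hge).op) = 𝟙 _ from Subsingleton.elim _ _, X.presheaf.map_id] at h5
    exact h5
  haveI := IsClosedImmersion.isIso_lift j iU hker
  refine ⟨asIso (IsClosedImmersion.lift j iU hker.le), ?_⟩
  rw [← hiU]
  exact (Category.assoc _ _ _).symm.trans (congrArg (· ≫ D.emb hU) (IsClosedImmersion.lift_fac _ _ _))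

end affine

include D i u in
/-- A closed subscheme of a projective bundle is the relative `Proj` of the image algebra. -/
theorem exists_relProj_imgAlg (hc : Compat φ σ (𝟙 X) i) (hL : PicF.IsInvertible L) (hjL : RelProj.IsGrSymAlg L 𝒮L jL)
    (hu : ∀ (U : Y.Opens) (x : Γ(E, U)), (u.app U).hom ((D.j.app U) x) = (jL.app (g ⁻¹ᵁ U)) (σ.app U x)) :
    ∃ chart : ∀ (U : Y.Opens) (hU : IsAffineOpen U), ((g ⁻¹ᵁ U : X.Opens) : Scheme.{u}) ≅ Proj ((imgAlg u).deg U hU),
      RelProj.IsRelProj (imgAlg u) g chart := by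
  choose θ hθ using fun (U : Y.Opens) (hU : IsAffineOpen U) => exists_iso D i u hc hL hjL hu hU
  have hi : i ≫ p = g := hc.1.trans (Category.id_comp g)
  refine ⟨θ, ⟨fun U hU => ?_, fun U hU r => ?_⟩⟩
  · rw [show (g ⁻¹ᵁ U).ι ≫ g = (g ⁻¹ᵁ U).ι ≫ i ≫ p from congrArg ((g ⁻¹ᵁ U).ι ≫ ·) hi.symm,
      ← reassoc_of% hθ U hU]
    congr 1
    have hp : D.emb hU ≫ p = Proj.toSpecZero (D.S.deg U hU) ≫ Spec.map (D.S.strZero U hU) ≫ hU.fromSpec := by
      show ((D.chart U hU).inv ≫ (p ⁻¹ᵁ U).ι) ≫ p = _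
      rw [Category.assoc, ← D.hP.chart_over U hU, Iso.inv_hom_id_assoc]
    rw [hp, reassoc_of% map_toSpecZero, ← Spec.map_comp_assoc]
    congr 3
    exact CommRingCat.hom_ext (RingHom.ext fun r => Subtype.ext (imgHom_str u U hU r).symm)
  · haveI : ∀ (V : Y.Opens) (hV : IsAffineOpen V), IsClosedImmersion
        (Proj.map (imgHom u V hV) (imgHom_irrelevant u V hV)) := fun V hV =>
      isClosedImmersion_map_pos _ _ fun n _ b hb => by
        obtain ⟨a, ha, rfl⟩ := hb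
        exact ⟨a, ha, rfl⟩
    rw [← cancel_mono (Proj.map (imgHom u U hU) (imgHom_irrelevant u U hU) ≫ D.emb hU)]
    simp only [Category.assoc]
    rw [hθ U hU, Scheme.homOfLE_ι_assoc, ← hθ (Y.basicOpen r) (hU.basicOpen r)]
    congr 1
    have hr : Proj.map (D.S.res hU (hU.basicOpen r) (Y.basicOpen_le r)) (D.S.irrelevant_le_map U hU r) ≫ D.emb hU =
        D.emb (hU.basicOpen r) := by
      show _ ≫ (D.chart U hU).inv ≫ (p ⁻¹ᵁ U).ι = (D.chart _ _).inv ≫ (p ⁻¹ᵁ Y.basicOpen r).ι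
      rw [← cancel_epi (D.chart _ (hU.basicOpen r)).hom, Iso.hom_inv_id_assoc, ← reassoc_of% D.hP.chart_res U hU r,
        Iso.hom_inv_id_assoc, Scheme.homOfLE_ι]
    rw [← hr, ← Category.assoc, ← Category.assoc]
    congr 1
    rw [← Proj.map_comp, ← Proj.map_comp]
    exact proj_map_congr (GradedRingHom.ext fun a => (imgHom_res u hU (hU.basicOpen r) (Y.basicOpen_le r) a).symm) _ _

end Groth.Agent.ProjBundleLib
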