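import Groth.Agent.ProjBundleLib.PnTwist
import Groth.Agent.ProjBundleLib.ProjMor
import Groth.Agent.AmpleEmb.SectionsGe
import Groth.Agent.AmpleLib.Rel

/-! Relatively ample modules have very ample powers; quasi-projective morphisms. -/

set_option autoImplicit false
set_option linter.style.haveILetI false
set_option backward.isDefEq.respectTransparency false

universe u

open CategoryTheory CategoryTheory.Limits AlgebraicGeometry TopologicalSpace Opposite
open Groth.Agent.ParaFLib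

noncomputable section

namespace Groth.Agent.ProjBundleLib

variable {X Y : Scheme.{u}} {f : X ⟶ Y} {L : X.Modules}

theorem exists_affine_cover_bound [CompactSpace Y] (Q : Y.affineOpens → ℕ → Prop)
    (h : ∀ V, ∃ N, ∀ n, N ≤ n → Q V n) :
    ∃ (t : Finset Y.affineOpens) (N : ℕ), (⨆ V : t, (V.1 : Y.Opens)) = ⊤ ∧ ∀ V ∈ t, ∀ n, N ≤ n → Q V n := by
  classical
  choose N hN using h
  obtain ⟨t, ht⟩ := isCompact_univ.elim_finite_subcover (fun V : Y.affineOpens => ((V : Y.Opens) : Set Y))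
    (fun V => (V : Y.Opens).2) fun y _ => by
      obtain ⟨_, ⟨U, hU, rfl⟩, hy, -⟩ :=
        Y.isBasis_affineOpens.exists_subset_of_mem_open (Set.mem_univ y) isOpen_univ
      exact Set.mem_iUnion.2 ⟨⟨U, hU⟩, hy⟩
  refine ⟨t, t.sup N, eq_top_iff.2 fun y _ => ?_, fun V hV n hn => hN V n ((Finset.le_sup hV).trans hn)⟩
  obtain ⟨V, hVt, hy⟩ := Set.mem_iUnion₂.1 (ht (Set.mem_univ y))
  exact Opens.mem_iSup.2 ⟨⟨V, hVt⟩, hy⟩

/-- High powers of a relatively ample module, twisted by an invertible module, are very ample. -/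
theorem eventually_tensor_isRelVeryAmple [CompactSpace Y] [QuasiCompact f] [LocallyOfFiniteType f]
    (hL : PicF.IsInvertible L) {L' : X.Modules} (hL' : PicF.IsInvertible L') (h : RelAmple.IsRelAmple f L) :
    ∃ N, ∀ n, N ≤ n → RelProj.IsRelVeryAmple f (CohB1.tensorMod (CohB1.tensorPow L n) L') := by
  obtain ⟨t, N, hcov, hN⟩ := exists_affine_cover_bound
    (fun V n => RelAmple.IsRelVeryAmplePn (f ∣_ V.1)
      (CohB1.tensorMod (CohB1.tensorPow (L.restrict (f ⁻¹ᵁ V.1).ι) n) (L'.restrict (f ⁻¹ᵁ V.1).ι)))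
    fun V => AmpleEmb.eventually_isRelVeryAmplePn_tensor (f ∣_ V.1) (h.2 V) (isInvertible_restrict _ hL')
  refine ⟨N, fun n hn => isRelVeryAmple_of_pn_cover
    (AmpleLib.isInvertible_tensor (AmpleLib.isInvertible_tensorPow hL n) hL') (fun V : t => (V.1 : Y.Opens)) hcov
    fun V => ?_⟩
  obtain ⟨m, i, hi, hq, ⟨θ⟩⟩ := hN V.1 V.2 n hn
  let j := (f ⁻¹ᵁ (V.1 : Y.Opens)).ι
  let e : (CohB1.tensorMod (CohB1.tensorPow L n) L').restrict j ≅
      CohB1.tensorMod (CohB1.tensorPow (L.restrict j) n) (L'.restrict j) :=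
    AmpleLib.restrictTensor j _ L' ≪≫ AmpleLib.tIso (AmpleLib.restrictPow j L n) (Iso.refl _)
  exact ⟨m, i, hi, hq, ⟨e ≪≫ θ⟩⟩

/-- High powers of a relatively ample module are very ample. -/
theorem eventually_isRelVeryAmple [CompactSpace Y] [QuasiCompact f] [LocallyOfFiniteType f]
    (hL : PicF.IsInvertible L) (h : RelAmple.IsRelAmple f L) :
    ∃ N, ∀ n, N ≤ n → RelProj.IsRelVeryAmple f (CohB1.tensorPow L n) := by
  obtain ⟨t, N, hcov, hN⟩ := exists_affine_cover_bound
    (fun V n => RelAmple.IsRelVeryAmplePn (f ∣_ V.1) (CohB1.tensorPow (L.restrict (f ⁻¹ᵁ V.1).ι) n))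
    fun V => AmpleEmb.eventually_isRelVeryAmplePn (f ∣_ V.1) (h.2 V)
  refine ⟨N, fun n hn => isRelVeryAmple_of_pn_cover (AmpleLib.isInvertible_tensorPow hL n)
    (fun V : t => (V.1 : Y.Opens)) hcov fun V => ?_⟩
  obtain ⟨m, i, hi, hq, ⟨θ⟩⟩ := hN V.1 V.2 n hn
  exact ⟨m, i, hi, hq, ⟨AmpleLib.restrictPow _ L n ≪≫ θ⟩⟩

/-- A quasi-projective morphism over a qcqs scheme embeds in the bundle of a module of finite type. -/
theorem exists_immersion_ft [CompactSpace Y] [QuasiSeparatedSpace Y] (hf : RelProj.IsQuasiProjective f) :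
    ∃ (E : Y.Modules) (P : Scheme.{u}) (p : P ⟶ Y) (O1 : P.Modules)
      (φ : E ⟶ (Scheme.Modules.pushforward p).obj O1) (_ : PData p E O1 φ) (k : X ⟶ P),
      CohB1.IsFT E ∧ IsImmersion k ∧ k ≫ p = f := by
  obtain ⟨hft, hqc, L, hA⟩ := hf
  haveI := hft
  haveI := hqc
  have hL := AmpleLib.isInvertible_of_isRelAmple hA
  obtain ⟨N, hN⟩ := eventually_isRelVeryAmple hL hA
  have hLN := AmpleLib.isInvertible_tensorPow hL N
  obtain ⟨E, ι, hE, hEft, -, hG, himm⟩ := exists_ft_sub hLN (hN N le_rfl)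
  obtain ⟨P, p, O1, φ, ⟨D⟩⟩ := exists_bundle hE
  obtain ⟨k, hk, -⟩ := D.existsUnique_compat_of_gens hLN hG
  exact ⟨E, P, p, O1, φ, D, k, hEft, himm D k hk, hk.1.trans (Category.id_comp f)⟩

/-- A quasi-projective proper morphism over a qcqs scheme is projective. -/
theorem isProjective_of_isProper [CompactSpace Y] [QuasiSeparatedSpace Y] [IsProper f]
    (hf : RelProj.IsQuasiProjective f) : RelProj.IsProjective f := by
  obtain ⟨E, P, p, O1, φ, D, k, hE, hk, hkp⟩ := exists_immersion_ft hf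
  haveI := hk
  haveI := D.isSeparated
  haveI : IsProper (k ≫ p) := by rw [hkp]; infer_instance
  haveI : IsProper k := IsProper.of_comp k p
  haveI : IsClosedImmersion k := IsClosedImmersion.of_isPreimmersion k k.isClosedMap.isClosed_range
  exact D.isProjective_of_isClosedImmersion hE k hkp

end Groth.Agent.ProjBundleLib
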