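import Groth.Agent.ProjBundleLib.EpiClosed
import Groth.Agent.ProjBundleLib.FTSub
import Groth.Agent.ProjBundleLib.RelAmpleVA
import Groth.Agent.ProjBundleLib.Ample
import Groth.Agent.ProjBundleLib.Canon
import Groth.Agent.AmpleEmb.Generated
import Groth.Agent.AmpleEmb.ComposeRel

/-! Very ample modules relative to a composite. -/

set_option autoImplicit false
set_option linter.style.haveILetI false
set_option backward.isDefEq.respectTransparency false

universe u

open CategoryTheory CategoryTheory.Limits AlgebraicGeometry TopologicalSpace Opposite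
open Groth.Agent.ParaFLib Groth.Agent.RelSpecLib Groth.Agent.PullbackMod Groth.Agent.DCohLib

noncomputable section

namespace Groth.Agent.ProjBundleLib

variable {X Y Z P : Scheme.{u}} {p : P ⟶ Y} {E E' : Y.Modules} {O1 : P.Modules}
  {φ : E ⟶ (Scheme.Modules.pushforward p).obj O1} {q : X ⟶ Y} {L L' : X.Modules}

/-- The Segre immersion into the bundle of the tensor product. -/
theorem exists_tensor_immersion (D : PData p E O1 φ) {P' : Scheme.{u}} {p' : P' ⟶ Y} {O1' : P'.Modules}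
    {φ' : E' ⟶ (Scheme.Modules.pushforward p').obj O1'} (D' : PData p' E' O1' φ')
    {r : X ⟶ P} {r' : X ⟶ P'} (hr : r ≫ p = q) (hr' : r' ≫ p' = q)
    [IsImmersion (pullback.lift r r' (hr.trans hr'.symm))] (e : L ≅ (Scheme.Modules.pullback r).obj O1)
    (e' : L' ≅ (Scheme.Modules.pullback r').obj O1') :
    ∃ (P'' : Scheme.{u}) (p'' : P'' ⟶ Y) (O1'' : P''.Modules)
      (φ'' : tmod E E' ⟶ (Scheme.Modules.pushforward p'').obj O1'') (_ : PData p'' (tmod E E') O1'' φ'')
      (k : X ⟶ P''), IsImmersion k ∧ k ≫ p'' = q ∧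
        Nonempty (CohB1.tensorMod L L' ≅ (Scheme.Modules.pullback k).obj O1'') := by
  haveI := D.hE
  haveI := D'.hE
  obtain ⟨P'', p'', O1'', φ'', ⟨D''⟩⟩ := exists_bundle (BCLib.isQCoh_tmod E E')
  have hL := AmpleLib.isInvertible_pullback r D.isInvertible_O1
  have hL' := AmpleLib.isInvertible_pullback r' D'.isInvertible_O1
  have hG := (D.gens_taut hr).tensQ (D'.gens_taut hr')
  obtain ⟨r'', h'', -⟩ := D''.existsUnique_compat_of_gens (AmpleLib.isInvertible_tensor hL hL') hG
  haveI := isImmersion_of_tensQ D D' D'' hL hL' (D.gens_taut hr) (D'.gens_taut hr')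
    (D.compat_taut hr) (D'.compat_taut hr') h'' (hr.trans hr'.symm)
  obtain ⟨hr2, τ, -⟩ := D''.exists_iso_of_compat
    (((Scheme.Modules.pullbackPushforwardAdjunction q).homEquiv _ _).symm (tensQ (D.taut hr) (D'.taut hr'))) (r := r'')
    (by simpa only [sigma, Equiv.apply_symm_apply] using h'')
  exact ⟨P'', p'', O1'', φ'', D'', r'', inferInstance, hr2, ⟨AmpleLib.tIso e e' ≪≫ τ.symm⟩⟩

/-- A globally generated module is a quotient of the inverse image of its direct image. -/
theorem epi_counit_of_isGloballyGenerated (g : Y ⟶ Z) {M : Y.Modules} (h : Curv2.IsGloballyGenerated M) :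
    Epi ((Scheme.Modules.pullbackPushforwardAdjunction g).counit.app M) := by
  obtain ⟨ι, a, ha⟩ := h
  let adj := Scheme.Modules.pullbackPushforwardAdjunction g
  let c : ∀ i : ι, Coh.structureModule Y ⟶ M := fun i => SheafOfModules.ιFree i ≫ a
  let b : (SheafOfModules.free ι : Y.Modules) ⟶ (Scheme.Modules.pullback g).obj ((Scheme.Modules.pushforward g).obj M) :=
    Sigma.desc fun i => (AmpleLib.pullO g).inv ≫
      (Scheme.Modules.pullback g).map (adj.homEquiv _ _ ((AmpleLib.pullO g).hom ≫ c i))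
  haveI := ha
  refine epi_of_epi_fac (f := b) (h := a) (Sigma.hom_ext _ _ fun i => ?_)
  show Sigma.ι _ i ≫ b ≫ _ = Sigma.ι _ i ≫ a
  rw [Sigma.ι_desc_assoc, Category.assoc]
  have key : (Scheme.Modules.pullback g).map (adj.homEquiv _ _ ((AmpleLib.pullO g).hom ≫ c i)) ≫ adj.counit.app M =
      (AmpleLib.pullO g).hom ≫ c i := (adj.homEquiv_counit _ _ (adj.homEquiv _ _ ((AmpleLib.pullO g).hom ≫ c i))).symm.trans
      (Equiv.symm_apply_apply _ _)
  erw [key, Iso.inv_hom_id_assoc]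
  rfl

variable {f : X ⟶ Y} {g : Y ⟶ Z} {K : Y.Modules}

/-- Over an affine base, `L ⊗ f^*K^n` is very ample for the composite when `n` is large. -/
theorem eventually_va_comp_of_isAffine [IsAffine Z] [QuasiCompact f] [LocallyOfFiniteType f] [QuasiCompact g]
    (hL : PicF.IsInvertible L) (hva : RelProj.IsRelVeryAmple f L) (hK : PicF.IsInvertible K)
    (hKva : RelProj.IsRelVeryAmple g K) :
    ∃ N, ∀ n, N ≤ n → RelProj.IsRelVeryAmple (f ≫ g)
      (CohB1.tensorMod L ((Scheme.Modules.pullback f).obj (CohB1.tensorPow K n))) := by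
  haveI := isSeparated_of_isRelVeryAmple hKva
  haveI : CompactSpace Y := QuasiCompact.compactSpace_of_compactSpace g
  haveI : QuasiSeparatedSpace Y := quasiSeparatedSpace_of_quasiSeparated g
  haveI : IsSeparated f := isSeparated_of_isRelVeryAmple hva
  obtain ⟨E, ι, hE, hEft, -, hG, himm⟩ := exists_ft_sub hL hva
  obtain ⟨P, p, O1, φ, ⟨D⟩⟩ := exists_bundle hE
  obtain ⟨i, hic, -⟩ := D.existsUnique_compat_of_gens hL hG
  haveI hii : IsImmersion i := himm D i hic
  obtain ⟨hip, τ, -⟩ := D.exists_iso_of_compat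
    (((Scheme.Modules.pullbackPushforwardAdjunction f).homEquiv _ _).symm ι) (r := i)
    (by simpa only [sigma, Equiv.apply_symm_apply] using hic)
  have hA : CohB1.IsAmple K := (AmpleLib.isRelAmple_iff_isAmple g).1 (isRelAmple_of_isRelVeryAmple hKva)
  obtain ⟨N, hN⟩ := AmpleEmb.eventually_isGloballyGenerated hA ⟨hE, hEft⟩
  refine ⟨N + 1, fun n hn => ?_⟩
  obtain ⟨m, rfl⟩ := Nat.exists_eq_succ_of_ne_zero (show n ≠ 0 by omega)
  have hKm := AmpleLib.isInvertible_tensorPow hK m
  haveI := InvExt.isQCoh_of_isInvertible hKm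
  haveI := hE
  obtain ⟨P', p', O1', φ', ⟨D'⟩⟩ := exists_bundle (InvExt.isQCoh_of_isInvertible hKm)
  obtain ⟨r', ⟨hr', τ', -⟩, -⟩ := D'.existsUnique_factor (AmpleLib.isInvertible_pullback f hKm) (𝟙 _)
  haveI : IsImmersion (pullback.lift i r' (hip.trans hr'.symm) ≫ pullback.fst p p') := by
    rw [pullback.lift_fst]; exact hii
  haveI := IsImmersion.of_comp (pullback.lift i r' (hip.trans hr'.symm)) (pullback.fst p p')
  obtain ⟨P₂, p₂, O₂, φ₂, D₂, k, hk, hkp, ⟨e⟩⟩ := exists_tensor_immersion D D' hip hr' τ.symm τ'.symm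
  haveI : Coh.IsQCoh (tmod E (CohB1.tensorPow K m)) := D₂.hE
  haveI hF := QCohLib.isQCoh_pushforward (tmod E (CohB1.tensorPow K m)) g
  haveI : Epi ((Scheme.Modules.pullbackPushforwardAdjunction g).counit.app (tmod E (CohB1.tensorPow K m))) :=
    epi_counit_of_isGloballyGenerated g (hN m (by omega))
  obtain ⟨PY, pY, OY, φY, ⟨DY⟩⟩ := exists_bundle
    (PullbackMod.isQCoh_pullback g ((Scheme.Modules.pushforward g).obj (tmod E (CohB1.tensorPow K m))))
  obtain ⟨P₀, p₀, O₀, φ₀, ⟨D₀⟩⟩ := exists_bundle hF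
  obtain ⟨c, hc, hcp, -, ⟨τc⟩⟩ := exists_closed_of_epi DY D₂
    ((Scheme.Modules.pullbackPushforwardAdjunction g).counit.app (tmod E (CohB1.tensorPow K m)))
  obtain ⟨k₀, hk₀, -⟩ := D₀.existsUnique_compat_of_gens DY.isInvertible_O1 (DY.gens.down g D₀.hE)
  obtain ⟨hk₀p, τ₀, -⟩ := D₀.exists_iso_of_compat
    (((Scheme.Modules.pullbackPushforwardAdjunction (pY ≫ g)).homEquiv _ _).symm (down g φY)) (r := k₀)
    (by simpa only [sigma, Equiv.apply_symm_apply] using hk₀)
  choose cl hcl hclu using fun s : PullbackCone p₀ g => exists_lift g DY hk₀ D₀ s.fst s.snd s.condition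
  have hsq : IsPullback k₀ pY p₀ g := IsPullback.of_isLimit' ⟨hk₀p⟩
    (PullbackCone.IsLimit.mk hk₀p cl (fun s => (hcl s).1) (fun s => (hcl s).2) fun s m a b => hclu s m ⟨a, b⟩)
  have h₀ : RelProj.IsRelVeryAmple p₀ O₀ := isRelVeryAmple_of_pdata D₀ (𝟙 P₀) (Category.id_comp _)
    ((Scheme.Modules.pullbackId P₀).app O₀).symm
  haveI : IsImmersion (k ≫ c) := by haveI := hk; haveI := hc; infer_instance
  have h1 := isRelVeryAmple_precomp (k ≫ c) (isRelVeryAmple_external hsq rfl h₀ hKva)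
  have hq : (k ≫ c) ≫ k₀ ≫ p₀ = f ≫ g := by
    rw [hk₀p, Category.assoc, reassoc_of% hcp, reassoc_of% hkp]
  rw [hq] at h1
  refine isRelVeryAmple_of_iso ?_ h1
  have hj : (k ≫ c) ≫ pY = f := by rw [Category.assoc, hcp, hkp]
  let a : (Scheme.Modules.pullback (k ≫ c)).obj ((Scheme.Modules.pullback k₀).obj O₀) ≅
      CohB1.tensorMod L ((Scheme.Modules.pullback f).obj (CohB1.tensorPow K m)) :=
    (Scheme.Modules.pullback (k ≫ c)).mapIso τ₀ ≪≫ ((Scheme.Modules.pullbackComp k c).app OY).symm ≪≫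
      (Scheme.Modules.pullback k).mapIso τc ≪≫ e.symm
  let b : (Scheme.Modules.pullback (k ≫ c)).obj ((Scheme.Modules.pullback pY).obj K) ≅
      (Scheme.Modules.pullback f).obj K :=
    (Scheme.Modules.pullbackComp (k ≫ c) pY).app K ≪≫ (Scheme.Modules.pullbackCongr hj).app K
  exact AmpleLib.tIso (Iso.refl L) (AmpleLib.pullTensor f (CohB1.tensorPow K m) K) ≪≫ (AmpleLib.assoc _ _ _).symm ≪≫
    AmpleLib.tIso a.symm b.symm ≪≫ (AmpleLib.pullTensor _ _ _).symm

/-- Over a quasi-compact base, `L ⊗ f^*K^n` is very ample for the composite when `n` is large. -/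
theorem eventually_va_comp [CompactSpace Z] [QuasiCompact f] [LocallyOfFiniteType f] [QuasiCompact g]
    (hL : PicF.IsInvertible L) (hva : RelProj.IsRelVeryAmple f L) (hK : PicF.IsInvertible K)
    (hKva : RelProj.IsRelVeryAmple g K) :
    ∃ N, ∀ n, N ≤ n → RelProj.IsRelVeryAmple (f ≫ g)
      (CohB1.tensorMod L ((Scheme.Modules.pullback f).obj (CohB1.tensorPow K n))) := by
  have fwd : ∀ {A B : Scheme.{u}} (h : A ⟶ B) (M : A.Modules) (V : B.Opens), RelProj.IsRelVeryAmple h M →
      RelProj.IsRelVeryAmple (h ∣_ V) (M.restrict (h ⁻¹ᵁ V).ι) := fun h M V hh =>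
    isRelVeryAmple_of_iso ((Scheme.Modules.restrictFunctorIsoPullback _).app M)
      (isRelVeryAmple_baseChange (isPullback_morphismRestrict h V).flip hh)
  obtain ⟨t, N, hcov, hN⟩ := exists_affine_cover_bound
    (fun V n => RelProj.IsRelVeryAmple ((f ≫ g) ∣_ (V.1 : Z.Opens))
      ((CohB1.tensorMod L ((Scheme.Modules.pullback f).obj (CohB1.tensorPow K n))).restrict ((f ≫ g) ⁻¹ᵁ V.1).ι))
    fun V => by
      haveI : IsAffine (V.1 : Scheme.{u}) := V.2
      let W := g ⁻¹ᵁ (V.1 : Z.Opens)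
      obtain ⟨M, hM⟩ := eventually_va_comp_of_isAffine (f := f ∣_ W) (g := g ∣_ V.1)
        (isInvertible_restrict _ hL) (fwd f L W hva) (isInvertible_restrict _ hK) (fwd g K V.1 hKva)
      refine ⟨M, fun n hn => ?_⟩
      have h := hM n hn
      rw [← morphismRestrict_comp] at h
      exact isRelVeryAmple_of_iso (AmpleLib.restrictTensor _ L _ ≪≫ AmpleLib.tIso (Iso.refl _)
        (AmpleLib.pullRestr f _ _ _ (morphismRestrict_ι f W).symm _ ≪≫
          (Scheme.Modules.pullback (f ∣_ W)).mapIso (AmpleLib.restrictPow W.ι K n))) h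
  refine ⟨N, fun n hn => ?_⟩
  exact (isRelVeryAmple_iff_of_cover (q := f ≫ g)
    (AmpleLib.isInvertible_tensor hL (AmpleLib.isInvertible_pullback f (AmpleLib.isInvertible_tensorPow hK n)))
    (fun V : t => (V.1 : Z.Opens)) hcov).2 fun V => hN V.1 V.2 n hn

end Groth.Agent.ProjBundleLib
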