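import Groth.Agent.ProjBundleLib.Canon
import Groth.Agent.PullbackMod.Sections
import Groth.Agent.DCohLib.QCohAbelian

/-! Relative very ampleness on a disjoint union. -/

set_option autoImplicit false
set_option linter.style.haveILetI false
set_option backward.isDefEq.respectTransparency false

universe u

open CategoryTheory CategoryTheory.Limits AlgebraicGeometry TopologicalSpace Opposite
open Groth.Agent.ParaFLib Groth.Agent.PullbackMod

noncomputable section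

namespace Groth.Agent.ProjBundleLib

variable {W X Y : Scheme.{u}} {g : W ⟶ Y} {L : W.Modules}

/-- A quotient on a clopen part, extended by zero. -/
theorem exists_extend (j : X ⟶ W) [IsOpenImmersion j] (B : W.Opens) (hB : j.opensRange ⊓ B = ⊥)
    (hcov : j.opensRange ⊔ B = ⊤) {E : Y.Modules}
    (σ : E ⟶ (Scheme.Modules.pushforward (j ≫ g)).obj (L.restrict j)) :
    ∃ τ : E ⟶ (Scheme.Modules.pushforward g).obj L,
      ∀ (U : Y.Opens) (e : Γ(E, U)) (h : j ''ᵁ ((j ≫ g) ⁻¹ᵁ U) ≤ g ⁻¹ᵁ U),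
        L.presheaf.map (homOfLE h).op (τ.app U e) = (show Γ(L, j ''ᵁ ((j ≫ g) ⁻¹ᵁ U)) from σ.app U e) ∧
          ∀ (O : W.Opens) (hO : O ≤ g ⁻¹ᵁ U), O ≤ B → L.presheaf.map (homOfLE hO).op (τ.app U e) = 0 := by
  let F : TopCat.Sheaf Ab.{u} W.carrier := ⟨L.presheaf, L.isSheaf⟩
  have hA : ∀ U : Y.Opens, j ''ᵁ ((j ≫ g) ⁻¹ᵁ U) ≤ g ⁻¹ᵁ U := fun U => by
    rintro _ ⟨z, hz, rfl⟩; exact hz
  have hAR : ∀ U : Y.Opens, j ''ᵁ ((j ≫ g) ⁻¹ᵁ U) ≤ j.opensRange := fun U => j.image_le_opensRange _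
  have hcov' : ∀ (U : Y.Opens) (x : W), x ∈ g ⁻¹ᵁ U → x ∈ j ''ᵁ ((j ≫ g) ⁻¹ᵁ U) ∨ x ∈ g ⁻¹ᵁ U ⊓ B := fun U x hx => by
    rcases hcov.ge (Set.mem_univ x) with h | h
    · obtain ⟨z, rfl⟩ := h
      exact Or.inl ⟨z, hx, rfl⟩
    · exact Or.inr ⟨hx, h⟩
  have huniq : ∀ (U : Y.Opens) (t t' : Γ(L, g ⁻¹ᵁ U)),
      L.presheaf.map (homOfLE (hA U)).op t = L.presheaf.map (homOfLE (hA U)).op t' →
      L.presheaf.map (homOfLE (inf_le_left : g ⁻¹ᵁ U ⊓ B ≤ g ⁻¹ᵁ U)).op t =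
        L.presheaf.map (homOfLE (inf_le_left : g ⁻¹ᵁ U ⊓ B ≤ g ⁻¹ᵁ U)).op t' → t = t' := fun U t t' h1 h2 =>
    TopCat.Sheaf.eq_of_locally_eq₂ F (homOfLE (hA U)) (homOfLE inf_le_left)
      (fun x hx => (hcov' U x hx).elim (fun h => Or.inl h) fun h => Or.inr h) t t' h1 h2
  have hex : ∀ (U : Y.Opens) (e : Γ(E, U)), ∃ t : Γ(L, g ⁻¹ᵁ U),
      L.presheaf.map (homOfLE (hA U)).op t = (show Γ(L, j ''ᵁ ((j ≫ g) ⁻¹ᵁ U)) from σ.app U e) ∧
        L.presheaf.map (homOfLE (inf_le_left : g ⁻¹ᵁ U ⊓ B ≤ g ⁻¹ᵁ U)).op t = 0 := fun U e => by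
    let V : Bool → W.Opens := fun b => bif b then j ''ᵁ ((j ≫ g) ⁻¹ᵁ U) else g ⁻¹ᵁ U ⊓ B
    let s : ∀ b, Γ(L, V b) := fun b => match b with
      | true => σ.app U e
      | false => (0 : Γ(L, g ⁻¹ᵁ U ⊓ B))
    have hbot : ∀ (O : W.Opens), O ≤ ⊥ → ∀ a b : Γ(L, O), a = b := fun O hO a b =>
      TopCat.Presheaf.section_ext F O a b fun x hx => absurd (hO hx) (fun h => h)
    obtain ⟨t, ht, -⟩ := F.existsUnique_gluing' V (g ⁻¹ᵁ U) (fun b => homOfLE (by cases b; exacts [inf_le_left, hA U]))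
      (fun x hx => Opens.mem_iSup.2 ((hcov' U x hx).elim (fun h => ⟨true, h⟩) fun h => ⟨false, h⟩)) s (by
        intro a b
        have h1 : V true ⊓ V false ≤ ⊥ := (inf_le_inf (hAR U) inf_le_right).trans hB.le
        cases a <;> cases b
        · rfl
        · exact hbot _ (inf_comm (V false) (V true) ▸ h1) _ _
        · exact hbot _ h1 _ _
        · rfl)
    exact ⟨t, ht true, ht false⟩
  choose f hf hf0 using hex
  let fA : ∀ U : Y.Opens, Γ(E, U) →+ Γ((Scheme.Modules.pushforward g).obj L, U) := fun U =>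
    { toFun := f U
      map_zero' := huniq U _ _ (by rw [hf]; exact (map_zero (σ.app U).hom).trans (map_zero _).symm)
        (by rw [hf0]; exact (map_zero _).symm)
      map_add' := fun a b => huniq U _ _
        (by rw [hf]; refine (map_add (σ.app U).hom a b).trans ?_; refine Eq.trans ?_ (map_add _ _ _).symm; erw [hf, hf])
        (by rw [hf0]; refine Eq.trans ?_ (map_add _ _ _).symm; erw [hf0, hf0]; exact (add_zero _).symm) }
  let Fp : E.presheaf ⟶ ((Scheme.Modules.pushforward g).obj L).presheaf :=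
    { app := fun U => AddCommGrpCat.ofHom (fA U.unop)
      naturality := fun U V i => AddCommGrpCat.hom_ext (AddMonoidHom.ext fun e => by
        obtain ⟨U⟩ := U; obtain ⟨V⟩ := V
        have hle : V ≤ U := i.unop.le
        rw [show i = (homOfLE hle).op from Subsingleton.elim _ _]
        show f V (E.presheaf.map (homOfLE hle).op e) = L.presheaf.map (homOfLE (g.preimage_mono hle)).op (f U e)
        refine huniq V _ _ ?_ ?_
        · rw [hf, res_res]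
          refine Eq.trans ?_ (res_res (hA U) (j.image_mono ((j ≫ g).preimage_mono hle)) _)
          rw [hf]
          exact ConcreteCategory.congr_hom (σ.mapPresheaf.naturality (homOfLE hle).op) e
        · rw [hf0, res_res]
          refine Eq.trans ?_ (res_res (inf_le_left : g ⁻¹ᵁ U ⊓ B ≤ _) (inf_le_inf_right B (g.preimage_mono hle)) _)
          rw [hf0]
          exact (map_zero _).symm) }
  refine ⟨⟨PresheafOfModules.homMk Fp fun U r e => ?_⟩, fun U e h => ⟨hf U e, fun O hO hOB => ?_⟩⟩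
  · obtain ⟨U⟩ := U
    refine huniq U _ _ ?_ ?_
    · refine (hf U _).trans ?_
      refine Eq.trans ?_ (L.map_smul (homOfLE (hA U)) (g.app U r) (f U e)).symm
      rw [hf]
      refine (Scheme.Modules.Hom.app_smul σ r e).trans ?_
      have key : (j.appIso ((j ≫ g) ⁻¹ᵁ U)).inv ((j ≫ g).app U r) = W.presheaf.map (homOfLE (hA U)).op (g.app U r) := by
        rw [Scheme.Hom.comp_app]
        exact congr(($(Scheme.Hom.app_appIso_inv j (g ⁻¹ᵁ U))).hom (g.app U r))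
      exact congrArg (fun a : Γ(W, j ''ᵁ ((j ≫ g) ⁻¹ᵁ U)) => a • (show Γ(L, j ''ᵁ ((j ≫ g) ⁻¹ᵁ U)) from σ.app U e)) key
    · refine (hf0 U _).trans ?_
      refine Eq.trans ?_ (L.map_smul (homOfLE inf_le_left) (g.app U r) (f U e)).symm
      rw [hf0]
      exact (smul_zero _).symm
  · show L.presheaf.map (homOfLE hO).op (f U e) = 0
    have hle : O ≤ g ⁻¹ᵁ U ⊓ B := le_inf hO hOB
    rw [← res_res (inf_le_left : g ⁻¹ᵁ U ⊓ B ≤ g ⁻¹ᵁ U) hle, hf0, map_zero]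

/-- Very ample on both parts gives very ample on the union. -/
theorem isRelVeryAmple_of_clopen {X' : Scheme.{u}} (j : X ⟶ W) (j' : X' ⟶ W) [IsOpenImmersion j] [IsOpenImmersion j']
    (hd : j.opensRange ⊓ j'.opensRange = ⊥) (hc : j.opensRange ⊔ j'.opensRange = ⊤) (hL : PicF.IsInvertible L)
    (h : RelProj.IsRelVeryAmple (j ≫ g) (L.restrict j)) (h' : RelProj.IsRelVeryAmple (j' ≫ g) (L.restrict j')) :
    RelProj.IsRelVeryAmple g L := by
  obtain ⟨E, P₁, p₁, O₁, φ₁, D₁, i, hi, hip, ⟨e⟩⟩ := exists_pdata h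
  obtain ⟨E', P₂, p₂, O₂, φ₂, D₂, i', hi', hip', ⟨e'⟩⟩ := exists_pdata h'
  haveI := D₁.hE
  haveI := D₂.hE
  let σ₁ : E ⟶ (Scheme.Modules.pushforward (j ≫ g)).obj (L.restrict j) := sigma (pullAdj hip φ₁ ≫ e.inv)
  let σ₂ : E' ⟶ (Scheme.Modules.pushforward (j' ≫ g)).obj (L.restrict j') := sigma (pullAdj hip' φ₂ ≫ e'.inv)
  have hc₁ : Compat φ₁ σ₁ (𝟙 X) i := D₁.compat_of_iso _ hip e.symm rfl
  have hc₂ : Compat φ₂ σ₂ (𝟙 X') i' := D₂.compat_of_iso _ hip' e'.symm rfl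
  obtain ⟨τ₁, hτ₁⟩ := exists_extend j j'.opensRange hd hc σ₁
  obtain ⟨τ₂, hτ₂⟩ := exists_extend j' j.opensRange (inf_comm j.opensRange _ ▸ hd) (sup_comm j.opensRange _ ▸ hc) σ₂
  let σ : E ⊞ E' ⟶ (Scheme.Modules.pushforward g).obj L := biprod.desc τ₁ τ₂
  obtain ⟨P, p, O1, φ, ⟨D⟩⟩ := exists_bundle (DCohLib.isQCoh_biprod' D₁.hE D₂.hE)
  -- one part
  have key : ∀ {X₁ : Scheme.{u}} (k : X₁ ⟶ W) [IsOpenImmersion k] (B : W.Opens), k.opensRange ⊔ B = ⊤ →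
      ∀ {E₁ : Y.Modules} {P' : Scheme.{u}} {p' : P' ⟶ Y} {O' : P'.Modules}
      {φ' : E₁ ⟶ (Scheme.Modules.pushforward p').obj O'} (D' : PData p' E₁ O' φ') (ι₁ : E₁ ⟶ E ⊞ E')
      (σ' : E₁ ⟶ (Scheme.Modules.pushforward (k ≫ g)).obj (L.restrict k)) (i₁ : X₁ ⟶ P'),
      IsImmersion i₁ → Compat φ' σ' (𝟙 X₁) i₁ →
      (∀ (U : Y.Opens) (e : Γ(E₁, U)) (h : k ''ᵁ ((k ≫ g) ⁻¹ᵁ U) ≤ g ⁻¹ᵁ U),
        L.presheaf.map (homOfLE h).op ((ι₁ ≫ σ).app U e) = (show Γ(L, k ''ᵁ ((k ≫ g) ⁻¹ᵁ U)) from σ'.app U e) ∧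
          ∀ (O : W.Opens) (hO : O ≤ g ⁻¹ᵁ U), O ≤ B → L.presheaf.map (homOfLE hO).op ((ι₁ ≫ σ).app U e) = 0) →
      ∀ x₁ : X₁, ∃ (U : Y.Opens) (hU : IsAffineOpen U) (te : Γ(E ⊞ E', U)) (hx : g (k x₁) ∈ U),
        (Function.Bijective fun c : W.presheaf.stalk (k x₁) => c • germφ σ (k x₁) hx te) ∧
          ∀ r : W ⟶ P, Compat φ σ (𝟙 W) r → IsImmersion (r ∣_ D.DPl hU te) := by
    intro X₁ k _ B hkB E₁ P' p' O' φ' D' ι₁ σ' i₁ hi₁ hc' hτ x₁
    obtain ⟨_, ⟨U, hU, rfl⟩, hxU, -⟩ :=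
      Y.isBasis_affineOpens.exists_subset_of_mem_open (Set.mem_univ (g (k x₁))) isOpen_univ
    have hy : p' (i₁ x₁) ∈ U := (congrArg (fun f => f x₁) (hc'.1.trans (Category.id_comp (k ≫ g)))).symm ▸ hxU
    obtain ⟨e₀, he₀⟩ := D'.cover hU hy
    have hh : k ''ᵁ ((k ≫ g) ⁻¹ᵁ U) ≤ g ⁻¹ᵁ U := by rintro _ ⟨z, hz, rfl⟩; exact hz
    let μ : Γ(E₁, U) →+ Γ(E ⊞ E', U) := (ι₁.app U).hom
    refine ⟨U, hU, μ e₀, hxU, ?_, fun r hr => isImmersion_morphismRestrict D D' hr k hc' hU hU hh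
      (RingHom.id _) μ (fun a f => Scheme.Modules.Hom.app_smul ι₁ a f) (fun f => (hτ U f hh).1) e₀ fun z hz => ?_⟩
    · obtain ⟨Q, ε, hxQ, hε⟩ := exists_gen_nhd hL (k x₁)
      let Q₁ := k ⁻¹ᵁ Q ⊓ (k ≫ g) ⁻¹ᵁ U
      have hQ₁ : k ''ᵁ Q₁ ≤ Q := by rintro _ ⟨z, hz, rfl⟩; exact hz.1
      have hε₁ := (AmpleLib.gen_restrict_iff k L Q₁ _).2 (hε.res hQ₁)
      have hb₁ : Function.Bijective fun c : X₁.presheaf.stalk x₁ => c • germφ σ' x₁ (W := U) hxU e₀ :=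
        (hc'.2 U e₀ x₁ hy hxU).1.1 (D'.bijective_germφ hU e₀ he₀)
      obtain ⟨a, ha⟩ := (hε₁ Q₁ le_rfl).2
        ((L.restrict k).presheaf.map (homOfLE (inf_le_right : Q₁ ≤ _)).op (σ'.app U e₀))
      simp only [ParaFLib.res_self] at ha
      have hxQ₁ : x₁ ∈ Q₁ := ⟨hxQ, hxU⟩
      have hu : IsUnit (X₁.presheaf.germ Q₁ x₁ hxQ₁ a) := by
        rw [← AmpleLib.bijective_smul_iff (hε₁.bijective_germ x₁ hxQ₁)]
        have h1 := congrArg ((L.restrict k).presheaf.germ Q₁ x₁ hxQ₁) ha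
        rw [germ_smul' x₁ hxQ₁] at h1
        erw [TopCat.Presheaf.germ_res_apply (L.restrict k).presheaf] at h1
        simp only [h1]
        exact hb₁
      let Q₂ := X₁.basicOpen a
      have hxQ₂ : x₁ ∈ Q₂ := (Scheme.mem_basicOpen _ a x₁ hxQ₁).2 hu
      have hgQ : Gen Q₂ ((L.restrict k).presheaf.map
          (homOfLE ((X₁.basicOpen_le a).trans inf_le_right : Q₂ ≤ (k ≫ g) ⁻¹ᵁ U)).op (σ'.app U e₀)) := by
        have h1 := (hε₁.res (X₁.basicOpen_le a)).smul (RingedSpace.isUnit_res_basicOpen X₁.toRingedSpace a)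
        erw [← (L.restrict k).map_smul, ha, ParaFLib.res_res] at h1
        exact h1
      have h2 := ((AmpleLib.gen_restrict_iff k L Q₂ _).1 hgQ).bijective_germ (k x₁) ⟨x₁, hxQ₂, rfl⟩
      show Function.Bijective fun c : W.presheaf.stalk (k x₁) =>
        c • L.presheaf.germ (g ⁻¹ᵁ U) (k x₁) hxU ((ι₁ ≫ σ).app U e₀)
      erw [TopCat.Presheaf.germ_res_apply L.presheaf] at h2
      rw [← TopCat.Presheaf.germ_res_apply L.presheaf (homOfLE hh) (k x₁) ⟨x₁, hxU, rfl⟩, (hτ U e₀ hh).1]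
      exact h2
    · have hp : p (r z) = g z := congrArg (fun f => f z) (hr.1.trans (Category.id_comp g))
      have hzU : g z ∈ U := hp ▸ D.DPl_le hU _ hz
      rcases hkB.ge (Set.mem_univ z) with h | h
      · obtain ⟨w, rfl⟩ := h
        exact ⟨w, hzU, rfl⟩
      · have hb := (hr.2 U (μ e₀) z (D.DPl_le hU _ hz) hzU).1.1 (D.bijective_germφ hU (μ e₀) hz)
        have h0 : germφ σ z hzU (μ e₀) = 0 := by
          show L.presheaf.germ (g ⁻¹ᵁ U) z hzU ((ι₁ ≫ σ).app U e₀) = 0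
          rw [← TopCat.Presheaf.germ_res_apply L.presheaf (homOfLE (inf_le_left : g ⁻¹ᵁ U ⊓ B ≤ _)) z ⟨hzU, h⟩,
            (hτ U e₀ hh).2 _ inf_le_left inf_le_right, map_zero]
        refine absurd (hb.1 (a₁ := 0) (a₂ := 1) ?_) zero_ne_one
        show (0 : W.presheaf.stalk z) • germφ σ z hzU (μ e₀) = (1 : W.presheaf.stalk z) • germφ σ z hzU (μ e₀)
        rw [h0, smul_zero, smul_zero]
  have hk₁ := key j j'.opensRange hc D₁ biprod.inl σ₁ i hi hc₁ (by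
    intro U e h; simp only [σ, biprod.inl_desc]; exact hτ₁ U e h)
  have hk₂ := key j' j.opensRange (sup_comm j.opensRange _ ▸ hc) D₂ biprod.inr σ₂ i' hi' hc₂ (by
    intro U e h; simp only [σ, biprod.inr_desc]; exact hτ₂ U e h)
  have hall : ∀ w : W, ∃ (U : Y.Opens) (hU : IsAffineOpen U) (te : Γ(E ⊞ E', U)) (hx : g w ∈ U),
      (Function.Bijective fun c : W.presheaf.stalk w => c • germφ σ w hx te) ∧
        ∀ r : W ⟶ P, Compat φ σ (𝟙 W) r → IsImmersion (r ∣_ D.DPl hU te) := fun w => by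
    rcases hc.ge (Set.mem_univ w) with h | h
    · obtain ⟨x, rfl⟩ := h; exact hk₁ x
    · obtain ⟨x, rfl⟩ := h; exact hk₂ x
  choose U hU te hwU hte himm using hall
  obtain ⟨r, hr, -⟩ := D.existsUnique_compat_of_gens hL fun w => ⟨U w, hwU w, te w, hte w⟩
  haveI : IsImmersion r := isImmersion_of_cover r (fun w : W => D.DPl (hU w) (te w))
    (fun w => ⟨w, (D.mem_DPl_iff (hU w) (te w)
      (show p (r w) ∈ U w from (congrArg (fun f => f w) (hr.1.trans (Category.id_comp g))).symm ▸ hwU w)).2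
      ((hr.2 (U w) (te w) w _ (hwU w)).1.2 (hte w))⟩)
    fun w => himm w r hr
  obtain ⟨hrg, τ, -⟩ := D.exists_iso_of_compat
    (((Scheme.Modules.pullbackPushforwardAdjunction g).homEquiv _ _).symm σ) (r := r)
    (by simpa only [sigma, Equiv.apply_symm_apply] using hr)
  exact isRelVeryAmple_of_pdata D r hrg τ.symm

end Groth.Agent.ProjBundleLib
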