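import Groth.Agent.AmpleEmb.Disjoint
import Groth.Prelude.Def_RelProj
import Groth.Prelude.Def_RelProj2

/-! A disjoint union of quasi-projective schemes is quasi-projective. -/

set_option autoImplicit false
set_option linter.style.haveILetI false
set_option backward.isDefEq.respectTransparency false

universe u

open CategoryTheory CategoryTheory.Limits AlgebraicGeometry TopologicalSpace Opposite
open Groth.Agent.AmpleLib Groth.Agent.ParaFLib

noncomputable section

namespace Groth.Agent.ProjBundleLib

variable {A B W : Scheme.{u}} (j : A ⟶ W) (j' : B ⟶ W) [IsOpenImmersion j] [IsOpenImmersion j']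

theorem isZero_restrict_pushforward (hd : j.opensRange ⊓ j'.opensRange = ⊥) (M : B.Modules) :
    IsZero (((Scheme.Modules.pushforward j').obj M).restrict j) := by
  rw [IsZero.iff_id_eq_zero]
  refine Scheme.Modules.hom_ext _ _ fun U => AddCommGrpCat.hom_ext (AddMonoidHom.ext fun s => ?_)
  refine TopCat.Presheaf.section_ext (⟨M.presheaf, M.isSheaf⟩ : TopCat.Sheaf Ab B) (j' ⁻¹ᵁ (j ''ᵁ U)) _ _ fun x hx => ?_
  exact absurd (hd.le ⟨j.image_le_opensRange U hx, ⟨x, rfl⟩⟩) (fun h => h)

/-- The first summand of the direct sum of two direct images is its restriction. -/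
def restrictBiprodIso (hd : j.opensRange ⊓ j'.opensRange = ⊥) (L : A.Modules) (M : B.Modules) :
    ((Scheme.Modules.pushforward j).obj L ⊞ (Scheme.Modules.pushforward j').obj M).restrict j ≅ L where
  hom := (Scheme.Modules.restrictFunctor j).map biprod.fst ≫ (Scheme.Modules.restrictAdjunction j).counit.app L
  inv := inv ((Scheme.Modules.restrictAdjunction j).counit.app L) ≫ (Scheme.Modules.restrictFunctor j).map biprod.inl
  hom_inv_id := by
    haveI : PreservesBinaryBiproducts (Scheme.Modules.restrictFunctor j) :=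
      preservesBinaryBiproducts_of_preservesBinaryCoproducts _
    haveI : (Scheme.Modules.restrictFunctor j).Additive := Functor.additive_of_preservesBinaryBiproducts _
    rw [Category.assoc, IsIso.hom_inv_id_assoc, ← Functor.map_comp, ← CategoryTheory.Functor.map_id]
    have h0 : (Scheme.Modules.restrictFunctor j).map (biprod.snd ≫ biprod.inr :
        (Scheme.Modules.pushforward j).obj L ⊞ (Scheme.Modules.pushforward j').obj M ⟶
          (Scheme.Modules.pushforward j).obj L ⊞ (Scheme.Modules.pushforward j').obj M) = 0 := by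
      rw [Functor.map_comp, (isZero_restrict_pushforward j j' hd M).eq_of_tgt
        ((Scheme.Modules.restrictFunctor j).map biprod.snd) 0, zero_comp]
    conv_rhs => rw [← biprod.total, Functor.map_add, h0, add_zero]
  inv_hom_id := by
    rw [Category.assoc, ← Functor.map_comp_assoc, biprod.inl_fst, CategoryTheory.Functor.map_id,
      Category.id_comp, IsIso.inv_hom_id]

/-- A disjoint union of quasi-projective morphisms. -/
theorem isQuasiProjective_coprod {Y : Scheme.{u}} (f : A ⟶ Y) (f' : B ⟶ Y)
    (hf : RelProj.IsQuasiProjective f) (hf' : RelProj.IsQuasiProjective f') :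
    RelProj.IsQuasiProjective (coprod.desc f f') := by
  obtain ⟨hft, hqc, L, hL⟩ := hf
  obtain ⟨hft', hqc', L', hL'⟩ := hf'
  haveI := hft
  haveI := hft'
  haveI := hqc
  haveI := hqc'
  let i : A ⟶ A ⨿ B := coprod.inl
  let i' : B ⟶ A ⨿ B := coprod.inr
  let g := coprod.desc f f'
  have hig : i ≫ g = f := coprod.inl_desc f f'
  have hig' : i' ≫ g = f' := coprod.inr_desc f f'
  have hd : i.opensRange ⊓ i'.opensRange = ⊥ := Opens.ext (isCompl_range_inl_inr A B).inf_eq_bot
  have hd' : i'.opensRange ⊓ i.opensRange = ⊥ := by rw [inf_comm]; exact hd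
  have hcov : ∀ x : (A ⨿ B : Scheme.{u}), x ∈ i.opensRange ∨ x ∈ i'.opensRange := fun x =>
    (isCompl_range_inl_inr A B).sup_eq_top.ge (Set.mem_univ x)
  let M := (Scheme.Modules.pushforward i).obj L ⊞ (Scheme.Modules.pushforward i').obj L'
  let e : M.restrict i ≅ L := restrictBiprodIso i i' hd L L'
  let e' : M.restrict i' ≅ L' :=
    (Scheme.Modules.restrictFunctor i').mapIso (biprod.braiding _ _) ≪≫ restrictBiprodIso i' i hd' L' L
  have hpre : ∀ V : Y.Opens, i ''ᵁ (f ⁻¹ᵁ V) ⊔ i' ''ᵁ (f' ⁻¹ᵁ V) = g ⁻¹ᵁ V := fun V => by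
    refine le_antisymm (sup_le ?_ ?_) fun x hx => ?_
    · rintro _ ⟨a, ha, rfl⟩
      show (i ≫ g) a ∈ V
      rw [hig]; exact ha
    · rintro _ ⟨a, ha, rfl⟩
      show (i' ≫ g) a ∈ V
      rw [hig']; exact ha
    · rcases hcov x with ⟨a, rfl⟩ | ⟨a, rfl⟩
      · exact Or.inl ⟨a, show f a ∈ V by rw [← hig]; exact hx, rfl⟩
      · exact Or.inr ⟨a, show f' a ∈ V by rw [← hig']; exact hx, rfl⟩
  haveI : QuasiCompact g := quasiCompact_iff_forall_isAffineOpen.2 fun V hV => by
    rw [← hpre V]
    exact ((f.isCompact_preimage hV.isCompact).image i.continuous).union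
      ((f'.isCompact_preimage hV.isCompact).image i'.continuous)
  haveI : LocallyOfFiniteType g :=
    (IsZariskiLocalAtSource.iff_of_openCover (P := @LocallyOfFiniteType) (coprodOpenCover.{u, u} A B)).2 fun b => by
      rcases b with _ | _
      · show LocallyOfFiniteType (i ≫ g)
        rw [hig]; infer_instance
      · show LocallyOfFiniteType (i' ≫ g)
        rw [hig']; infer_instance
  refine ⟨inferInstance, inferInstance, M, inferInstance, fun V => ?_⟩
  show AmpleOn M (g ⁻¹ᵁ (V.1 : Y.Opens))
  rw [← hpre V.1]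
  refine AmpleEmb.ampleOn_sup ?_ ?_ ?_
  · refine le_antisymm (le_trans (inf_le_inf (i.image_le_opensRange _) (i'.image_le_opensRange _)) hd.le) bot_le
  · refine (AmpleEmb.ampleOn_pullback_iff M i _).1 ?_
    exact isAmple_of_iso ((Scheme.Modules.restrictFunctor _).mapIso
      (e.symm ≪≫ (Scheme.Modules.restrictFunctorIsoPullback i).app M)) (hL.2 V)
  · refine (AmpleEmb.ampleOn_pullback_iff M i' _).1 ?_
    exact isAmple_of_iso ((Scheme.Modules.restrictFunctor _).mapIso
      (e'.symm ≪≫ (Scheme.Modules.restrictFunctorIsoPullback i').app M)) (hL'.2 V)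

end Groth.Agent.ProjBundleLib
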