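import Groth.Agent.ProjBundleLib.FTSub

/-! Finite type submodules of a module with an immersion into its bundle. -/

set_option autoImplicit false
set_option linter.style.haveILetI false
set_option backward.isDefEq.respectTransparency false

universe u

open CategoryTheory CategoryTheory.Limits AlgebraicGeometry TopologicalSpace Opposite
open Groth.Agent.ParaFLib Groth.Agent.PullbackMod

noncomputable section

namespace Groth.Agent.ProjBundleLib

variable {X Y : Scheme.{u}} {q : X ⟶ Y} {L : X.Modules}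

theorem germ_sub {E F : Y.Modules} {ι : E ⟶ F} (σ : F ⟶ (Scheme.Modules.pushforward q).obj L) {U : Y.Opens} {z : X}
    (hz : q z ∈ U) (e : Γ(E, U)) (s : Γ(F, U)) (h : ι.app U e = s) :
    germφ (ι ≫ σ) z hz e = germφ σ z hz s := by
  subst h
  rfl

/-- An immersion into the bundle of a module comes from the bundle of a submodule of finite type. -/
theorem exists_ft_sub_gen [CompactSpace Y] [QuasiSeparatedSpace Y] [QuasiCompact q] [LocallyOfFiniteType q]
    {F : Y.Modules} {σ : F ⟶ (Scheme.Modules.pushforward q).obj L} {P₀ : Scheme.{u}} {p₀ : P₀ ⟶ Y} {O₀ : P₀.Modules}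
    {φ₀ : F ⟶ (Scheme.Modules.pushforward p₀).obj O₀} (D₀ : PData p₀ F O₀ φ₀) {r : X ⟶ P₀}
    (hr : Compat φ₀ σ (𝟙 X) r) [hri : IsImmersion r] :
    ∃ (E : Y.Modules) (ι : E ⟶ F), Coh.IsQCoh E ∧ CohB1.IsFT E ∧
      (∀ U : Y.Opens, Function.Injective (ι.app U)) ∧ Gens (ι ≫ σ) ∧
      ∀ {P : Scheme.{u}} {p : P ⟶ Y} {O1 : P.Modules} {φ : E ⟶ (Scheme.Modules.pushforward p).obj O1}
        (_ : PData p E O1 φ) (k : X ⟶ P), Compat φ (ι ≫ σ) (𝟙 X) k → IsImmersion k := by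
  classical
  haveI : Coh.IsQCoh F := D₀.hE
  haveI : CompactSpace X := QuasiCompact.compactSpace_of_compactSpace q
  have hrp : r ≫ p₀ = q := hr.1.trans (Category.id_comp q)
  have loc : ∀ x : X, ∃ (U : Y.Opens) (hU : IsAffineOpen U) (e : Γ(F, U))
      (S : Finset Γ(F, U)) (f : Γ(P₀, D₀.DPl hU e)),
      x ∈ r ⁻¹ᵁ P₀.basicOpen f ∧ IsAffineOpen (r ⁻¹ᵁ P₀.basicOpen f) ∧ f ∈ Subring.closure (D₀.coord hU e '' S) ∧
      ∃ hVU : r ⁻¹ᵁ P₀.basicOpen f ≤ q ⁻¹ᵁ U,
      ∃ G : Finset Γ(X, r ⁻¹ᵁ P₀.basicOpen f),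
        Subring.closure (Set.range (q.appLE U _ hVU).hom ∪ (G : Set _)) = ⊤ ∧
        ∀ g ∈ G, ∃ (m : ℕ) (a : Γ(P₀, D₀.DPl hU e)), a ∈ Subring.closure (D₀.coord hU e '' S) ∧
          g * ((r.appLE (D₀.DPl hU e) _ (r.preimage_mono (P₀.basicOpen_le f))).hom f) ^ m =
            (r.appLE (D₀.DPl hU e) _ (r.preimage_mono (P₀.basicOpen_le f))).hom a := fun x => by
    obtain ⟨_, ⟨U, hU, rfl⟩, hxU, -⟩ :=
      Y.isBasis_affineOpens.exists_subset_of_mem_open (Set.mem_univ (q x)) isOpen_univ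
    have hy : p₀ (r x) ∈ U := (congrArg (fun k : X ⟶ Y => k x) hrp).symm ▸ hxU
    obtain ⟨e, he⟩ := D₀.cover hU hy
    obtain ⟨f, hf, hxf⟩ := (D₀.isAffineOpen_DPl hU e).exists_basicOpen_le
      (V := r.coborderRange) ⟨r x, subset_coborder ⟨x, rfl⟩⟩ he
    let O := P₀.basicOpen f
    have hO : IsAffineOpen O := (D₀.isAffineOpen_DPl hU e).basicOpen f
    haveI : IsAffine (O : Scheme.{u}) := hO
    haveI : IsImmersion (r ∣_ O) := IsZariskiLocalAtTarget.restrict (P := @IsImmersion) hri O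
    haveI : IsClosedImmersion (r ∣_ O) := by
      refine IsClosedImmersion.of_isPreimmersion _ ?_
      have : Set.range (r ∣_ O) = O.ι ⁻¹' closure (Set.range r) := by
        refine Set.ext fun y => ⟨?_, fun hy => ?_⟩
        · rintro ⟨z, rfl⟩
          refine subset_closure ⟨(r ⁻¹ᵁ O).ι z, ?_⟩
          exact (congrArg (fun k : (r ⁻¹ᵁ O : X.Opens).toScheme ⟶ P₀ => k z) (morphismRestrict_ι r O)).symm
        · have h2 : y.1 ∈ Set.range r := by
            rw [← closure_inter_coborder (s := Set.range r)]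
            exact ⟨hy, hf y.2⟩
          obtain ⟨z, hz⟩ := h2
          refine ⟨⟨z, show r z ∈ O from hz ▸ y.2⟩, O.ι.isOpenEmbedding.injective ?_⟩
          refine (congrArg (fun k : (r ⁻¹ᵁ O : X.Opens).toScheme ⟶ P₀ => k ⟨z, show r z ∈ O from hz ▸ y.2⟩)
            (morphismRestrict_ι r O)).trans ?_
          exact hz
      rw [this]
      exact isClosed_closure.preimage O.ι.continuous
    obtain ⟨hVa, hsurj⟩ := (HasAffineProperty.iff_of_isAffine (P := @IsClosedImmersion)).1 ‹IsClosedImmersion (r ∣_ O)›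
    have hV : IsAffineOpen (r ⁻¹ᵁ O) := hVa
    have hsurj' : Function.Surjective (r.app O).hom := by
      rw [morphismRestrict_appTop] at hsurj
      have h2 : Function.Surjective (r.app (O.ι ''ᵁ ⊤)).hom := fun b => by
        obtain ⟨a, ha⟩ := hsurj ((X.presheaf.map (eqToHom (image_morphismRestrict_preimage r O ⊤)).op).hom b)
        exact ⟨a, (ConcreteCategory.bijective_of_isIso
          (X.presheaf.map (eqToHom (image_morphismRestrict_preimage r O ⊤)).op)).1 ha⟩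
      rwa [O.ι_image_top] at h2
    have hVU : r ⁻¹ᵁ O ≤ q ⁻¹ᵁ U := fun z hz => by
      show q z ∈ U
      rw [← congrArg (fun k : X ⟶ Y => k z) hrp]
      exact D₀.DPl_le hU e (P₀.basicOpen_le f hz)
    have hft := q.finiteType_appLE hU hV hVU
    letI := (q.appLE U (r ⁻¹ᵁ O) hVU).hom.toAlgebra
    haveI : Algebra.FiniteType Γ(Y, U) Γ(X, r ⁻¹ᵁ O) := hft
    obtain ⟨G, hG⟩ := Algebra.FiniteType.out (R := Γ(Y, U)) (A := Γ(X, r ⁻¹ᵁ O))
    have hGt : Subring.closure (Set.range (q.appLE U (r ⁻¹ᵁ O) hVU).hom ∪ (G : Set _)) = ⊤ := by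
      rw [eq_top_iff]
      intro z _
      have hz : z ∈ Algebra.adjoin Γ(Y, U) (G : Set Γ(X, r ⁻¹ᵁ O)) := by rw [hG]; trivial
      exact (Algebra.mem_adjoin_iff).1 hz
    letI := (P₀.presheaf.map (homOfLE (P₀.basicOpen_le f)).op).hom.toAlgebra
    haveI : IsLocalization.Away f Γ(P₀, O) := (D₀.isAffineOpen_DPl hU e).isLocalization_basicOpen f
    have hnum : ∀ g : Γ(X, r ⁻¹ᵁ O), ∃ (m : ℕ) (a : Γ(P₀, D₀.DPl hU e)),
        g * ((r.appLE (D₀.DPl hU e) _ (r.preimage_mono (P₀.basicOpen_le f))).hom f) ^ m =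
          (r.appLE (D₀.DPl hU e) _ (r.preimage_mono (P₀.basicOpen_le f))).hom a := fun g => by
      obtain ⟨b, rfl⟩ := hsurj' g
      obtain ⟨m, a, ha⟩ := IsLocalization.Away.surj (S := Γ(P₀, O)) f b
      have hfac : r.appLE (D₀.DPl hU e) (r ⁻¹ᵁ O) (r.preimage_mono (P₀.basicOpen_le f)) =
          P₀.presheaf.map (homOfLE (P₀.basicOpen_le f)).op ≫ r.app O := by
        rw [Scheme.Hom.app_eq_appLE, Scheme.Hom.map_appLE]
      refine ⟨m, a, ?_⟩
      rw [hfac, CommRingCat.comp_apply, CommRingCat.comp_apply, ← map_pow, ← map_mul]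
      exact congrArg (r.app O).hom ha
    choose m a ha using hnum
    have hfin : ∀ c : Γ(P₀, D₀.DPl hU e), ∃ S : Finset Γ(F, U),
        c ∈ Subring.closure (D₀.coord hU e '' S) := fun c => by
      obtain ⟨t, ht, hc⟩ := exists_finset_closure
        (show c ∈ Subring.closure (Set.range (D₀.coord hU e)) by rw [D₀.closure_coord hU e]; trivial)
      choose pre hpre using fun z : t => ht z.2
      refine ⟨Finset.univ.image pre, Subring.closure_mono ?_ hc⟩
      intro z hz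
      exact ⟨pre ⟨z, hz⟩, by simp, hpre ⟨z, hz⟩⟩
    choose Sof hSof using hfin
    refine ⟨U, hU, e, insert e (Sof f ∪ G.biUnion fun g => Sof (a g)), f, hxf, hV, ?_, hVU, G, hGt, fun g hg => ?_⟩
    · refine Subring.closure_mono (Set.image_mono ?_) (hSof f)
      intro z hz; simp [Finset.mem_coe.1 hz]
    · refine ⟨m g, a g, Subring.closure_mono (Set.image_mono ?_) (hSof (a g)), ha g⟩
      intro z hz
      simp only [Finset.coe_insert, Finset.coe_union, Finset.coe_biUnion, Set.mem_insert_iff, Set.mem_union,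
        Set.mem_iUnion]
      exact Or.inr (Or.inr ⟨g, hg, hz⟩)
  choose U hU e S f hx hV hfS hVU G hG ha using loc
  obtain ⟨t, ht⟩ := isCompact_univ.elim_finite_subcover (fun x : X => ((r ⁻¹ᵁ P₀.basicOpen (f x) : X.Opens) : Set X))
    (fun x => (r ⁻¹ᵁ P₀.basicOpen (f x)).2) fun x _ => Set.mem_iUnion.2 ⟨x, hx x⟩
  obtain ⟨E, ι, hE, hft, hinj, hpre⟩ := exists_ft_through (M := F)
    (ι := Σ x : t, Option (S x.1)) (fun a => U a.1.1) (fun a => hU a.1.1)
    (fun a => a.2.elim (e a.1.1) fun s => s.1)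
  choose e' he' using fun x : t => hpre ⟨x, none⟩
  choose s' hs' using fun (x : t) (s : S x.1) => hpre ⟨x, some s⟩
  have hmem : ∀ z : X, ∃ x : t, z ∈ r ⁻¹ᵁ P₀.basicOpen (f x.1) := fun z => by
    obtain ⟨x, hxt, hz⟩ := Set.mem_iUnion₂.1 (ht (Set.mem_univ z))
    exact ⟨⟨x, hxt⟩, hz⟩
  have hgen : ∀ (x : t) (z : X) (hz : z ∈ r ⁻¹ᵁ D₀.DPl (hU x.1) (e x.1)),
      ∃ hzU : q z ∈ U x.1, Function.Bijective fun c : X.presheaf.stalk z => c • germφ (ι ≫ σ) z hzU (e' x) := fun x z hz => by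
    have hzU : q z ∈ U x.1 := by
      rw [← congrArg (fun k : X ⟶ Y => k z) hrp]
      exact D₀.DPl_le (hU x.1) (e x.1) hz
    refine ⟨hzU, ?_⟩
    rw [germ_sub σ hzU (e' x) (e x.1) (he' x)]
    exact (hr.2 (U x.1) (e x.1) z (D₀.DPl_le _ _ hz) hzU).1.1 (D₀.bijective_germφ (hU x.1) (e x.1) hz)
  refine ⟨E, ι, hE, hft, hinj, fun z => ?_, fun {P p O1 φ} D k hk => ?_⟩
  · obtain ⟨x, hz⟩ := hmem z
    obtain ⟨hzU, hb⟩ := hgen x z (P₀.basicOpen_le _ hz)
    exact ⟨U x.1, hzU, e' x, hb⟩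
  have hkp : k ≫ p = q := hk.1.trans (Category.id_comp q)
  have hkU : ∀ z, p (k z) = q z := fun z => congrArg (fun g : X ⟶ Y => g z) hkp
  have hpreX : ∀ x : t, k ⁻¹ᵁ D.DPl (hU x.1) (e' x) = r ⁻¹ᵁ D₀.DPl (hU x.1) (e x.1) := fun x => by
    ext z
    refine ⟨fun hz => ?_, fun hz => ?_⟩
    · have hzU : q z ∈ U x.1 := (hkU z) ▸ D.DPl_le (hU x.1) (e' x) hz
      have hy : p₀ (r z) ∈ U x.1 := (congrArg (fun g : X ⟶ Y => g z) hrp).symm ▸ hzU
      have hb : Function.Bijective fun c : X.presheaf.stalk z => c • germφ (ι ≫ σ) z hzU (e' x) :=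
        (hk.2 (U x.1) (e' x) z (D.DPl_le _ _ hz) hzU).1.1 (D.bijective_germφ (hU x.1) (e' x) hz)
      rw [germ_sub σ hzU (e' x) (e x.1) (he' x)] at hb
      exact (D₀.mem_DPl_iff (hU x.1) (e x.1) hy).2 ((hr.2 (U x.1) (e x.1) z hy hzU).1.2 hb)
    · obtain ⟨hzU, hb⟩ := hgen x z hz
      have hy : p (k z) ∈ U x.1 := (hkU z).symm ▸ hzU
      exact (D.mem_DPl_iff (hU x.1) (e' x) hy).2 ((hk.2 (U x.1) (e' x) z hy hzU).1.2 hb)
  have key : ∀ x : t, ∀ c ∈ Subring.closure (D₀.coord (hU x.1) (e x.1) '' S x.1),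
      ∃ c' : Γ(P, D.DPl (hU x.1) (e' x)), (k.appLE (D.DPl (hU x.1) (e' x)) (r ⁻¹ᵁ D₀.DPl (hU x.1) (e x.1))
        (hpreX x).ge).hom c' = (r.app (D₀.DPl (hU x.1) (e x.1))).hom c := by
    intro x c hc
    let Xe := r ⁻¹ᵁ D₀.DPl (hU x.1) (e x.1)
    have hXU : Xe ≤ q ⁻¹ᵁ U x.1 := fun z hz => (hgen x z hz).1
    suffices Subring.closure (D₀.coord (hU x.1) (e x.1) '' S x.1) ≤
        ((k.appLE (D.DPl (hU x.1) (e' x)) Xe (hpreX x).ge).hom.range).comap (r.app (D₀.DPl (hU x.1) (e x.1))).hom from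
      this hc
    refine Subring.closure_le.2 ?_
    rintro _ ⟨s, hs, rfl⟩
    refine ⟨D.coord (hU x.1) (e' x) (s' x ⟨s, hs⟩), ?_⟩
    have hgenX : Gen Xe (L.presheaf.map (homOfLE hXU).op ((ι ≫ σ).app (U x.1) (e' x))) := AmpleLib.gen_of_germ fun z hz => by
      erw [TopCat.Presheaf.germ_res_apply L.presheaf (homOfLE hXU) z hz]
      exact (hgen x z hz).2
    refine (show Function.Injective fun a : Γ(X, Xe) => a • L.presheaf.map (homOfLE hXU).op ((ι ≫ σ).app (U x.1) (e' x)) from ?_) ?_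
    · intro a b hab
      have h2 := (hgenX Xe le_rfl).1
      simp only [ParaFLib.res_self] at h2
      exact h2 hab
    · show _ • _ = _ • _
      rw [appLE_coord_smul D hk (hU x.1) (e' x) (s' x ⟨s, hs⟩) (hpreX x).ge hXU, Scheme.Hom.app_eq_appLE,
        show ((ι ≫ σ).app (U x.1)) (e' x) = σ.app (U x.1) (e x.1) from congrArg (σ.app (U x.1)) (he' x),
        show ((ι ≫ σ).app (U x.1)) (s' x ⟨s, hs⟩) = σ.app (U x.1) s from congrArg (σ.app (U x.1)) (hs' x ⟨s, hs⟩)]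
      exact (appLE_coord_smul D₀ hr (hU x.1) (e x.1) s le_rfl hXU).symm
  choose f' hf' using fun x : t => key x (f x.1) (hfS x.1)
  have hV' : ∀ x : t, k ⁻¹ᵁ P.basicOpen (f' x) = r ⁻¹ᵁ P₀.basicOpen (f x.1) := fun x => by
    rw [Scheme.Hom.preimage_basicOpen, Scheme.Hom.preimage_basicOpen, ← hf' x, Scheme.Hom.appLE,
      CommRingCat.comp_apply, Scheme.basicOpen_res, inf_eq_right.2]
    exact (X.basicOpen_le _).trans (hpreX x).le
  refine isImmersion_of_cover k (fun x : t => P.basicOpen (f' x)) (fun z => ?_) fun x => ?_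
  · obtain ⟨x, hz⟩ := hmem z
    exact ⟨x, (hV' x).ge hz⟩
  let O := P.basicOpen (f' x)
  have hO : IsAffineOpen O := (D.isAffineOpen_DPl (hU x.1) (e' x)).basicOpen (f' x)
  haveI : IsAffine (O : Scheme.{u}) := hO
  haveI : IsAffine ((k ⁻¹ᵁ O : X.Opens) : Scheme.{u}) := by rw [hV' x]; exact hV x.1
  let V := r ⁻¹ᵁ P₀.basicOpen (f x.1)
  let R := (k.appLE O V (hV' x).ge).hom.range
  have hR : R = ⊤ := by
    rw [eq_top_iff, ← hG x.1]
    refine Subring.closure_le.2 ?_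
    have hVX : V ≤ r ⁻¹ᵁ D₀.DPl (hU x.1) (e x.1) := r.preimage_mono (P₀.basicOpen_le _)
    have hres : ∀ c, c ∈ Subring.closure (D₀.coord (hU x.1) (e x.1) '' S x.1) →
        (r.appLE (D₀.DPl (hU x.1) (e x.1)) V hVX).hom c ∈ R := by
      intro c hc
      obtain ⟨c', hc'⟩ := key x c hc
      refine ⟨(P.presheaf.map (homOfLE (P.basicOpen_le (f' x))).op).hom c', ?_⟩
      rw [← CommRingCat.comp_apply, Scheme.Hom.map_appLE]
      have e1 := congrArg (X.presheaf.map (homOfLE hVX).op).hom hc'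
      rw [← CommRingCat.comp_apply, ← CommRingCat.comp_apply, Scheme.Hom.appLE_map, Scheme.Hom.app_eq_appLE,
        Scheme.Hom.appLE_map] at e1
      exact e1
    rintro z (⟨c, rfl⟩ | hz)
    · have hOU : O ≤ p ⁻¹ᵁ U x.1 := (P.basicOpen_le _).trans (D.DPl_le _ _)
      refine ⟨(p.appLE (U x.1) O hOU).hom c, ?_⟩
      rw [← CommRingCat.comp_apply, Scheme.Hom.appLE_comp_appLE]
      simp only [hkp]
      rfl
    · obtain ⟨m, a, haS, hga⟩ := ha x.1 z hz
      let φf := (k.appLE (D.DPl (hU x.1) (e' x)) V ((hV' x).ge.trans (k.preimage_mono (P.basicOpen_le _)))).hom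
      have hu : IsUnit ((P.presheaf.map (homOfLE (P.basicOpen_le (f' x))).op).hom (f' x)) :=
        RingedSpace.isUnit_res_basicOpen P.toRingedSpace (f' x)
      obtain ⟨w, hw⟩ := hu
      have hwf : (k.appLE O V (hV' x).ge).hom w.1 = (r.appLE (D₀.DPl (hU x.1) (e x.1)) V hVX).hom (f x.1) := by
        rw [hw, ← CommRingCat.comp_apply, Scheme.Hom.map_appLE]
        have e1 := congrArg (X.presheaf.map (homOfLE hVX).op).hom (hf' x)
        rw [← CommRingCat.comp_apply, ← CommRingCat.comp_apply, Scheme.Hom.appLE_map, Scheme.Hom.app_eq_appLE,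
          Scheme.Hom.appLE_map] at e1
        exact e1
      have hz' : z = (r.appLE (D₀.DPl (hU x.1) (e x.1)) V hVX).hom a * (k.appLE O V (hV' x).ge).hom (w⁻¹).1 ^ m := by
        rw [← hga, ← hwf, mul_assoc, ← mul_pow, ← map_mul, Units.mul_inv, map_one, one_pow, mul_one]
      rw [hz']
      exact Subring.mul_mem _ (hres a haS) (Subring.pow_mem R (show (k.appLE O V (hV' x).ge).hom (w⁻¹).1 ∈ R from ⟨_, rfl⟩) m)
  haveI : IsClosedImmersion (k ∣_ O) := IsClosedImmersion.of_surjective_of_isAffine _ (by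
    rw [morphismRestrict_appTop]
    show Function.Surjective ((X.presheaf.map (eqToHom (image_morphismRestrict_preimage k O ⊤)).op).hom ∘
      (k.app (O.ι ''ᵁ ⊤)).hom)
    refine Function.Surjective.comp (ConcreteCategory.bijective_of_isIso
      (X.presheaf.map (eqToHom (image_morphismRestrict_preimage k O ⊤)).op)).2 ?_
    rw [O.ι_image_top]
    intro b
    obtain ⟨a, ha⟩ : (X.presheaf.map (homOfLE (hV' x).ge).op).hom b ∈ R := by rw [hR]; trivial
    refine ⟨a, ?_⟩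
    have e1 := congrArg (X.presheaf.map (homOfLE (hV' x).le).op).hom ha
    rw [← CommRingCat.comp_apply, Scheme.Hom.appLE_map, ← Scheme.Hom.app_eq_appLE, ← CommRingCat.comp_apply,
      ← Functor.map_comp, show (homOfLE (hV' x).ge).op ≫ (homOfLE (hV' x).le).op = 𝟙 _ from Subsingleton.elim _ _,
      X.presheaf.map_id] at e1
    exact e1)
  infer_instance

/-- An immersion into the bundle of a submodule gives one into the bundle of the module. -/
theorem isImmersion_of_sub {E F : Y.Modules} {ι : E ⟶ F} {σ : F ⟶ (Scheme.Modules.pushforward q).obj L}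
    {P P' : Scheme.{u}} {p : P ⟶ Y} {p' : P' ⟶ Y} {O1 : P.Modules} {O1' : P'.Modules}
    {φ : F ⟶ (Scheme.Modules.pushforward p).obj O1} {φ' : E ⟶ (Scheme.Modules.pushforward p').obj O1'}
    (D : PData p F O1 φ) (D' : PData p' E O1' φ') (hL : PicF.IsInvertible L) (hG : Gens (ι ≫ σ))
    {k : X ⟶ P} {k' : X ⟶ P'} (hk : Compat φ σ (𝟙 X) k) (hk' : Compat φ' (ι ≫ σ) (𝟙 X) k') [IsImmersion k'] :
    IsImmersion k := by
  refine isImmersion_of_cover k (fun i : Σ U : Y.affineOpens, Γ(E, U.1) => D.DPl i.1.2 (ι.app i.1.1 i.2))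
    (fun x => ?_) fun i => ?_
  · obtain ⟨_, ⟨U, hU, rfl⟩, hxU, -⟩ :=
      Y.isBasis_affineOpens.exists_subset_of_mem_open (Set.mem_univ (q x)) isOpen_univ
    obtain ⟨e, he⟩ := hG.affine D'.hE hL x U hU hxU
    have hy : p (k x) ∈ U := (congrArg (fun f => f x) (hk.1.trans (Category.id_comp q))).symm ▸ hxU
    exact ⟨⟨⟨U, hU⟩, e⟩, (D.mem_DPl_iff hU _ hy).2 ((hk.2 U _ x hy hxU).1.2 he)⟩
  · obtain ⟨⟨U, hU⟩, e⟩ := i
    let O := D.DPl hU (ι.app U e)
    obtain ⟨π, -, hπk⟩ := D'.exists_proj hU e D hk' hk (ι.app U e) (ι.app U).hom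
      (fun a f => Scheme.Modules.Hom.app_smul ι a f) rfl (fun x hx h => h) (fun x hx f lam h => h)
    show IsImmersion (k ∣_ O)
    haveI : IsImmersion ((k ∣_ O) ≫ π) := by rw [hπk]; infer_instance
    exact IsImmersion.of_comp (k ∣_ O) π

end Groth.Agent.ProjBundleLib
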