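import Mathlib
import Groth.Prelude.Def_GrTwist

/-! Degree-zero fractions on a basic open of a degree-one element. -/

set_option autoImplicit false
set_option linter.style.haveILetI false
set_option backward.isDefEq.respectTransparency false

universe u

open CategoryTheory AlgebraicGeometry TopologicalSpace Opposite HomogeneousLocalization

noncomputable section

namespace Groth.Agent.ProjBundleLib

variable {A σ : Type u} [CommRing A] [SetLike σ A] [AddSubgroupClass σ A] {𝒜 : ℕ → σ} [GradedRing 𝒜]

/-- The fraction `a / g` in the degree-zero localisation. -/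
def awayFrac (g a : 𝒜 1) : Away 𝒜 g.1 := Away.mk 𝒜 g.2 1 a.1 (by simpa using a.2)

/-- The function `a / g` on `D_+(g)`. -/
def frac1 (g a : 𝒜 1) : Γ(Proj 𝒜, Proj.basicOpen 𝒜 g.1) := Proj.awayToSection 𝒜 g.1 (awayFrac g a)

theorem frac1_val (g a : 𝒜 1) (x : Proj.basicOpen 𝒜 g.1) :
    (((frac1 g a : GrTwist.O (𝒜 := 𝒜) (op (Proj.basicOpen 𝒜 g.1))).1 x).val : GrTwist.Loc 𝒜 x.1) =
      Localization.mk a.1 ⟨g.1, x.2⟩ := by
  refine (ProjectiveSpectrum.Proj.awayToSection_apply (𝒜 := 𝒜) g.1 (awayFrac g a) x).trans ?_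
  rw [awayFrac, Away.val_mk, Localization.mk_eq_mk', IsLocalization.map_mk', ← Localization.mk_eq_mk']
  simp only [pow_one, RingHom.id_apply]

theorem bijective_awayToSection (g : 𝒜 1) : Function.Bijective (Proj.awayToSection 𝒜 g.1) :=
  ConcreteCategory.bijective_of_isIso (Proj.basicOpenIsoAway 𝒜 g.1 g.2 one_pos).hom

theorem closure_awayFrac (hgen : Subring.closure ((𝒜 0 : Set A) ∪ (𝒜 1 : Set A)) = ⊤) (g : 𝒜 1) :
    Subring.closure (Set.range (awayFrac g)) = ⊤ := by
  classical
  set R := Subring.closure (Set.range (awayFrac g))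
  have key : ∀ (a : A) (n : ℕ) (h : (DirectSum.decompose 𝒜 a n : A) ∈ 𝒜 (n • 1)),
      Away.mk 𝒜 g.2 n (DirectSum.decompose 𝒜 a n : A) h ∈ R := by
    intro a
    have ha : a ∈ Subring.closure ((𝒜 0 : Set A) ∪ (𝒜 1 : Set A)) := hgen ▸ Subring.mem_top a
    have hadd : ∀ (n : ℕ) (a b : A) (ha : a ∈ 𝒜 (n • 1)) (hb : b ∈ 𝒜 (n • 1)),
        Away.mk 𝒜 g.2 n (a + b) (add_mem ha hb) = Away.mk 𝒜 g.2 n a ha + Away.mk 𝒜 g.2 n b hb := by
      intro n a b ha hb
      refine val_injective _ ?_
      rw [val_add, Away.val_mk, Away.val_mk, Away.val_mk, Localization.add_mk, Localization.mk_eq_mk_iff,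
        Localization.r_iff_exists]
      exact ⟨1, by simp; ring⟩
    induction ha using Subring.closure_induction with
    | mem z hz =>
      intro n h
      rcases hz with hz | hz
      · by_cases hn : n = 0
        · subst hn
          have e : Away.mk 𝒜 g.2 0 (DirectSum.decompose 𝒜 z 0 : A) h =
              awayFrac g ⟨z * g.1, by simpa using SetLike.mul_mem_graded hz g.2⟩ := by
            refine val_injective _ ?_
            simp only [awayFrac, Away.val_mk, DirectSum.decompose_of_mem_same 𝒜 hz, pow_zero, pow_one]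
            rw [Localization.mk_eq_mk_iff, Localization.r_iff_exists]
            exact ⟨1, by simp; ring⟩
          rw [e]; exact Subring.subset_closure ⟨_, rfl⟩
        · convert zero_mem R
          refine val_injective _ ?_
          rw [Away.val_mk, DirectSum.decompose_of_mem_ne 𝒜 hz (Ne.symm hn), Localization.mk_zero, val_zero]
      · by_cases hn : n = 1
        · subst hn
          have e : Away.mk 𝒜 g.2 1 (DirectSum.decompose 𝒜 z 1 : A) h = awayFrac g ⟨z, hz⟩ := by
            refine val_injective _ ?_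
            simp only [awayFrac, Away.val_mk, DirectSum.decompose_of_mem_same 𝒜 hz]
          rw [e]; exact Subring.subset_closure ⟨_, rfl⟩
        · convert zero_mem R
          refine val_injective _ ?_
          rw [Away.val_mk, DirectSum.decompose_of_mem_ne 𝒜 hz (Ne.symm hn), Localization.mk_zero, val_zero]
    | zero =>
      intro n h
      convert zero_mem R
      refine val_injective _ ?_
      simp [Away.val_mk, Localization.mk_zero]
    | one =>
      intro n h
      by_cases hn : n = 0
      · subst hn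
        convert one_mem R
        refine val_injective _ ?_
        rw [Away.val_mk, DirectSum.decompose_of_mem_same 𝒜 SetLike.GradedOne.one_mem, val_one]
        simp only [pow_zero]
        exact Localization.mk_self (1 : Submonoid.powers g.1)
      · convert zero_mem R
        refine val_injective _ ?_
        rw [Away.val_mk, DirectSum.decompose_of_mem_ne 𝒜 SetLike.GradedOne.one_mem (Ne.symm hn),
          Localization.mk_zero, val_zero]
    | add a b _ _ iha ihb =>
      intro n h
      have e : (DirectSum.decompose 𝒜 (a + b) n : A) =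
          (DirectSum.decompose 𝒜 a n : A) + (DirectSum.decompose 𝒜 b n : A) := by simp
      simp only [e]
      rw [hadd n _ _ (by simpa using SetLike.coe_mem _) (by simpa using SetLike.coe_mem _)]
      exact add_mem (iha n _) (ihb n _)
    | neg a _ iha =>
      intro n h
      convert neg_mem (iha n (by simpa using SetLike.coe_mem _)) using 1
      refine val_injective _ ?_
      rw [val_neg, Away.val_mk, Away.val_mk, Localization.neg_mk, DirectSum.decompose_neg]
      rfl
    | mul a b _ _ iha ihb =>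
      intro n h
      let c : ℕ × ℕ → Away 𝒜 g.1 := fun ij =>
        Away.mk 𝒜 g.2 ij.1 (DirectSum.decompose 𝒜 a ij.1 : A) (by simpa using SetLike.coe_mem _) *
          Away.mk 𝒜 g.2 ij.2 (DirectSum.decompose 𝒜 b ij.2 : A) (by simpa using SetLike.coe_mem _)
      have e : Away.mk 𝒜 g.2 n (DirectSum.decompose 𝒜 (a * b) n : A) h =
          ∑ ij ∈ Finset.HasAntidiagonal.antidiagonal n, c ij := by
        refine val_injective _ ?_
        rw [show (∑ ij ∈ Finset.HasAntidiagonal.antidiagonal n, c ij).val = ∑ ij ∈ Finset.HasAntidiagonal.antidiagonal n, (c ij).val from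
          map_sum (algebraMap (Away 𝒜 g.1) (Localization.Away g.1)) _ _]
        have hc : ∀ ij ∈ Finset.HasAntidiagonal.antidiagonal n, (c ij).val =
            Localization.mk ((DirectSum.decompose 𝒜 a ij.1 : A) * (DirectSum.decompose 𝒜 b ij.2 : A))
              ⟨g.1 ^ n, pow_mem (Submonoid.mem_powers g.1) n⟩ := fun ij hij => by
          rw [val_mul, Away.val_mk, Away.val_mk, Localization.mk_mul]
          refine congrArg (Localization.mk _) (Subtype.ext ?_)
          show g.1 ^ ij.1 * g.1 ^ ij.2 = g.1 ^ n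
          rw [← pow_add, Finset.HasAntidiagonal.mem_antidiagonal.1 hij]
        rw [Finset.sum_congr rfl hc, Away.val_mk, ← Localization.mk_sum]
        refine congrArg (fun z => Localization.mk z _) ?_
        rw [DirectSum.decompose_mul, DirectSum.coe_mul_apply_eq_sum_antidiagonal]
      rw [e]
      exact sum_mem fun ij _ => mul_mem (iha _ _) (ihb _ _)
  refine eq_top_iff.2 fun x _ => ?_
  obtain ⟨n, a, ha, rfl⟩ := Away.mk_surjective 𝒜 g.2 x
  have e := key a n (by simpa using SetLike.coe_mem _)
  convert e using 2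
  exact (DirectSum.decompose_of_mem_same 𝒜 (by simpa using ha)).symm

/-- The functions `a / g` generate the ring of `D_+(g)`. -/
theorem closure_frac1 (hgen : Subring.closure ((𝒜 0 : Set A) ∪ (𝒜 1 : Set A)) = ⊤) (g : 𝒜 1) :
    Subring.closure (Set.range (frac1 g)) = ⊤ := by
  refine eq_top_iff.2 fun y _ => ?_
  obtain ⟨x, rfl⟩ := (bijective_awayToSection g).2 y
  have hx : x ∈ Subring.closure (Set.range (awayFrac g)) := by rw [closure_awayFrac hgen g]; trivial
  have := (Subring.mem_map (f := (Proj.awayToSection 𝒜 g.1).hom)).2 ⟨x, hx, rfl⟩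
  rwa [RingHom.map_closure, ← Set.range_comp] at this

/-- A ring map making `g` invertible gives one on `D_+(g)`. -/
theorem exists_hom (g : 𝒜 1) {R : Type u} [CommRing R] (χ : A →+* R) (hu : IsUnit (χ g.1)) :
    ∃ θ : Γ(Proj 𝒜, Proj.basicOpen 𝒜 g.1) →+* R, ∀ a : 𝒜 1, θ (frac1 g a) * χ g.1 = χ a.1 := by
  let e := RingEquiv.ofBijective (Proj.awayToSection 𝒜 g.1).hom (bijective_awayToSection g)
  let l : Localization.Away g.1 →+* R := IsLocalization.Away.lift g.1 hu
  refine ⟨(l.comp (algebraMap (Away 𝒜 g.1) (Localization.Away g.1))).comp e.symm.toRingHom, fun a => ?_⟩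
  show l ((e.symm (e (awayFrac g a))).val) * χ g.1 = χ a.1
  rw [e.symm_apply_apply, awayFrac, Away.val_mk,
    show χ g.1 = l (algebraMap A _ g.1) from (IsLocalization.Away.lift_eq g.1 hu g.1).symm, ← map_mul,
    show χ a.1 = l (algebraMap A _ a.1) from (IsLocalization.Away.lift_eq g.1 hu a.1).symm]
  refine congrArg l ?_
  simp only [pow_one, Localization.mk_eq_mk']
  exact IsLocalization.mk'_spec _ _ _

/-- `a / g` is invertible exactly on `D_+(a)`. -/
theorem basicOpen_frac1 (g a : 𝒜 1) :
    (Proj 𝒜).basicOpen (frac1 g a) = Proj.basicOpen 𝒜 g.1 ⊓ Proj.basicOpen 𝒜 a.1 := by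
  have e0 : awayFrac g a = Away.isLocalizationElem g.2 a.2 := by
    refine val_injective _ ?_
    simp [awayFrac, Away.isLocalizationElem]
  have h1 : (Proj.basicOpen 𝒜 g.1).ι ⁻¹ᵁ (Proj 𝒜).basicOpen (frac1 g a) =
      (Proj.basicOpen 𝒜 g.1).ι ⁻¹ᵁ Proj.basicOpen 𝒜 a.1 := by
    rw [frac1, ← Scheme.Opens.toSpecΓ_preimage_basicOpen]
    have h2 := Proj.awayι_preimage_basicOpen (𝒜 := 𝒜) g.2 one_pos a.2 one_pos
    rw [← e0] at h2
    have h3 : (Proj.basicOpenIsoSpec 𝒜 g.1 g.2 one_pos).hom ⁻¹ᵁ
        (Proj.awayι 𝒜 g.1 g.2 one_pos ⁻¹ᵁ Proj.basicOpen 𝒜 a.1) =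
        (Proj.basicOpen 𝒜 g.1).ι ⁻¹ᵁ Proj.basicOpen 𝒜 a.1 := by
      rw [← Scheme.Hom.comp_preimage]
      simp [Proj.awayι]
    rw [← h3, h2, Proj.basicOpenIsoSpec_hom]
    rfl
  have h4 := congrArg ((Proj.basicOpen 𝒜 g.1).ι ''ᵁ ·) h1
  simp only [Scheme.Hom.image_preimage_eq_opensRange_inf, Scheme.Opens.opensRange_ι] at h4
  rw [← h4]
  exact (inf_eq_right.2 ((Proj 𝒜).basicOpen_le _)).symm

end Groth.Agent.ProjBundleLib
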