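import Groth.Agent.RelSpecLib.OfAffine
import Groth.Agent.RelSpecLib.Gen
import Groth.Prelude.Def_RelProj4

/-! The image of a graded morphism of quasi-coherent graded algebras, over the affine opens. -/

set_option autoImplicit false
set_option linter.style.haveILetI false
set_option backward.isDefEq.respectTransparency false

universe u

open CategoryTheory CategoryTheory.Limits AlgebraicGeometry TopologicalSpace Opposite
open scoped HomogeneousIdeal

noncomputable section

namespace Groth.Agent.ProjBundleLib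

section ring

variable {A B : Type u} [CommRing A] [CommRing B] (𝒜 : ℕ → AddSubgroup A) [GradedRing 𝒜] (ψ : A →+* B)

/-- The image of a grading. -/
def mapGrading (n : ℕ) : AddSubgroup B := (𝒜 n).map ψ.toAddMonoidHom

/-- The image of a grading by a surjection with homogeneous kernel is a grading. -/
@[instance_reducible] def gradedRingMap (hs : Function.Surjective ψ)
    (hk : ∀ a, ψ a = 0 → ∀ n, ψ (DirectSum.decompose 𝒜 a n : A) = 0) : GradedRing (mapGrading 𝒜 ψ) :=
  haveI : SetLike.GradedMonoid (mapGrading 𝒜 ψ) :=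
    { one_mem := ⟨1, SetLike.GradedOne.one_mem, map_one ψ⟩
      mul_mem := by
        rintro i j _ _ ⟨a, ha, rfl⟩ ⟨b, hb, rfl⟩
        exact ⟨a * b, SetLike.mul_mem_graded ha hb, map_mul ψ a b⟩ }
  have h : DirectSum.IsInternal (mapGrading 𝒜 ψ) := by
    classical
    let π : (DirectSum ℕ fun n => 𝒜 n) →+ DirectSum ℕ fun n => mapGrading 𝒜 ψ n :=
      DirectSum.map fun n => ψ.toAddMonoidHom.addSubgroupMap (𝒜 n)
    have hπs : Function.Surjective π :=
      (DirectSum.map_surjective _).2 fun n => AddMonoidHom.addSubgroupMap_surjective _ _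
    have hco : ∀ x, DirectSum.coeAddMonoidHom (mapGrading 𝒜 ψ) (π x) =
        ψ (DirectSum.coeAddMonoidHom 𝒜 x) := by
      intro x
      induction x using DirectSum.induction_on with
      | zero => simp
      | of n a =>
        rw [show π (DirectSum.of _ n a) = DirectSum.of _ n _ from DirectSum.map_of _ _ _]
        simp
        rfl
      | add a b ha hb => rw [map_add, map_add, ha, hb, map_add, map_add]
    refine ⟨(injective_iff_map_eq_zero _).2 fun y hy => ?_, fun b => ?_⟩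
    · obtain ⟨x, rfl⟩ := hπs y
      rw [hco] at hy
      refine DFinsupp.ext fun n => Subtype.ext ?_
      have h1 := hk _ hy n
      rw [show DirectSum.decompose 𝒜 (DirectSum.coeAddMonoidHom 𝒜 x) = x from
        (DirectSum.decompose 𝒜).apply_symm_apply x] at h1
      exact (congrArg Subtype.val (DirectSum.map_apply _ n x)).trans h1
    · obtain ⟨a, rfl⟩ := hs b
      refine ⟨π (DirectSum.decompose 𝒜 a), (hco _).trans (congrArg ψ ?_)⟩
      exact (DirectSum.decompose 𝒜).symm_apply_apply a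
  { (inferInstance : SetLike.GradedMonoid (mapGrading 𝒜 ψ)), h.chooseDecomposition with }

/-- A quotient of a localisation. -/
theorem isLocalization_quotientMap (c : A) (res : A →+* B) (hloc : @IsLocalization.Away A _ c B _ res.toAlgebra)
    (I : Ideal A) (J : Ideal B) (h : I ≤ J.comap res)
    (kill : ∀ a, res a ∈ J → ∃ k : ℕ, c ^ k * a ∈ I) :
    @IsLocalization.Away (A ⧸ I) _ (Ideal.Quotient.mk I c) (B ⧸ J) _ (Ideal.quotientMap J res h).toAlgebra := by
  letI := res.toAlgebra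
  haveI := hloc
  letI := (Ideal.quotientMap J res h).toAlgebra
  have hm : ∀ a, algebraMap (A ⧸ I) (B ⧸ J) (Ideal.Quotient.mk I a) = Ideal.Quotient.mk J (res a) :=
    fun a => rfl
  refine IsLocalization.Away.mk _ ?_ ?_ ?_
  · rw [hm]
    exact (IsLocalization.Away.algebraMap_isUnit (S := B) c).map (Ideal.Quotient.mk J)
  · intro s
    obtain ⟨s, rfl⟩ := Ideal.Quotient.mk_surjective s
    obtain ⟨n, a, ha⟩ := IsLocalization.Away.surj c s
    refine ⟨n, Ideal.Quotient.mk I a, ?_⟩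
    rw [hm, hm, ← map_pow, ← map_mul]
    exact congrArg (Ideal.Quotient.mk J) ha
  · intro a b hab
    obtain ⟨a, rfl⟩ := Ideal.Quotient.mk_surjective a
    obtain ⟨b, rfl⟩ := Ideal.Quotient.mk_surjective b
    rw [hm, hm, Ideal.Quotient.eq, ← map_sub] at hab
    obtain ⟨k, hk⟩ := kill _ hab
    refine ⟨k, ?_⟩
    rw [← map_pow, ← map_mul, ← map_mul, Ideal.Quotient.eq, ← mul_sub]
    exact hk

end ring

variable {X S : Scheme.{u}} {g : X ⟶ S}

/-- A section of a quasi-coherent algebra killed by a power of another section near every point of a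
quasi-compact open is killed by a power of it. -/
theorem exists_pow_mul_eq_zero (B : RelSpec.QCAlg X) {K : X.Opens} (hK : IsCompact (K : Set X))
    (x y : B.presheaf.obj (op K))
    (h : ∀ z ∈ K, ∃ (W : X.Opens) (hW : W ≤ K), z ∈ W ∧ ∃ k : ℕ,
      (B.presheaf.map (homOfLE hW).op).hom (y ^ k * x) = 0) : ∃ k : ℕ, y ^ k * x = 0 := by
  classical
  choose W hW hzW k hk using fun z : K => h z.1 z.2
  obtain ⟨t, ht⟩ := hK.elim_finite_subcover (fun z : K => (W z : Set X)) (fun z => (W z).2)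
    fun z hz => Set.mem_iUnion.2 ⟨⟨z, hz⟩, hzW ⟨z, hz⟩⟩
  refine ⟨t.sup k, (TopCat.Sheaf.eq_of_locally_eq' (⟨B.presheaf, B.isSheaf⟩ : TopCat.Sheaf CommRingCat X)
    (fun z : {z // z ∈ t} => W z.1) K (fun z => homOfLE (hW z.1))
    (fun p hp => ?_) _ _ fun z => ?_)⟩
  · obtain ⟨i, hi, hpi⟩ := Set.mem_iUnion₂.1 (ht hp)
    exact Opens.mem_iSup.2 ⟨⟨i, hi⟩, hpi⟩
  · rw [map_zero, ← Nat.sub_add_cancel (Finset.le_sup (f := k) z.2), pow_add, mul_assoc, map_mul,
      hk z.1, mul_zero]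

variable {𝒯 : RelProj.QCGrAlg S} {ℬ : RelProj.QCGrAlg X} (u : RelProj.QGrHom g 𝒯 ℬ)

/-- The kernel over an open. -/
def kerAt (U : S.Opens) : Ideal (𝒯.presheaf.obj (op U)) := RingHom.ker (u.app U).hom

theorem kerAt_le {U V : S.Opens} (h : V ≤ U) :
    kerAt u U ≤ (kerAt u V).comap (𝒯.presheaf.map (homOfLE h).op).hom := by
  intro a ha
  show (u.app V).hom ((𝒯.presheaf.map (homOfLE h).op).hom a) = 0
  rw [← CommRingCat.comp_apply, ← u.naturality h, CommRingCat.comp_apply,
    show (u.app U).hom a = 0 from ha, map_zero]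

theorem kerAt_homogeneous {U : S.Opens} (hU : IsAffineOpen U) {a : 𝒯.presheaf.obj (op U)}
    (ha : a ∈ kerAt u U) (n : ℕ) : (DirectSum.decompose (𝒯.deg U hU) a n : 𝒯.presheaf.obj (op U)) ∈ kerAt u U := by
  classical
  show (u.app U).hom _ = 0
  refine TopCat.Sheaf.eq_of_locally_eq' (⟨ℬ.presheaf, ℬ.isSheaf⟩ : TopCat.Sheaf CommRingCat X)
    (fun W : {W : X.affineOpens // (W : X.Opens) ≤ g ⁻¹ᵁ U} => (W.1 : X.Opens)) (g ⁻¹ᵁ U)
    (fun W => homOfLE W.2) (fun p hp => ?_) _ _ fun W => ?_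
  · obtain ⟨_, ⟨W, hW, rfl⟩, hpW, hWK⟩ :=
      X.isBasis_affineOpens.exists_subset_of_mem_open hp (g ⁻¹ᵁ U).2
    exact Opens.mem_iSup.2 ⟨⟨⟨W, hW⟩, hWK⟩, hpW⟩
  · rw [map_zero]
    have h : u.gradedAt U hU W.1 W.1.2 W.2 (DirectSum.decompose (𝒯.deg U hU) a n : 𝒯.presheaf.obj (op U)) =
        (DirectSum.decompose (ℬ.deg W.1 W.1.2) (u.gradedAt U hU W.1 W.1.2 W.2 a) n :
          ℬ.presheaf.obj (op (W.1 : X.Opens))) := GradedRingHom.map_directSumDecompose _ _ _
    refine Eq.trans h ?_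
    have h0 : u.gradedAt U hU W.1 W.1.2 W.2 a = 0 := by
      show (ℬ.presheaf.map (homOfLE W.2).op).hom ((u.app U).hom a) = 0
      rw [show (u.app U).hom a = 0 from ha, map_zero]
    rw [h0]
    simp

theorem exists_str_pow_mul_mem [QuasiCompact g] {U : S.Opens} (hU : IsAffineOpen U) (r : Γ(S, U))
    {a : 𝒯.presheaf.obj (op U)}
    (ha : (𝒯.presheaf.map (homOfLE (S.basicOpen_le r)).op).hom a ∈ kerAt u (S.basicOpen r)) :
    ∃ k : ℕ, (𝒯.str.app (op U)).hom r ^ k * a ∈ kerAt u U := by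
  obtain ⟨k, hk⟩ := exists_pow_mul_eq_zero ℬ.toQCAlg (g.isCompact_preimage hU.isCompact)
    ((u.app U).hom a) ((ℬ.str.app (op (g ⁻¹ᵁ U))).hom ((g.app U).hom r)) fun z hz => by
      obtain ⟨_, ⟨W, hW, rfl⟩, hzW, hWK⟩ :=
        X.isBasis_affineOpens.exists_subset_of_mem_open hz (g ⁻¹ᵁ U).2
      refine ⟨W, hWK, hzW, ?_⟩
      let c := (X.presheaf.map (homOfLE (show W ≤ g ⁻¹ᵁ U from hWK)).op).hom ((g.app U).hom r)
      have hle : X.basicOpen c ≤ g ⁻¹ᵁ S.basicOpen r := by
        rw [g.preimage_basicOpen, Scheme.basicOpen_res]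
        exact inf_le_right
      letI := (ℬ.presheaf.map (homOfLE (X.basicOpen_le c)).op).hom.toAlgebra
      haveI := ℬ.isQC W hW c
      have h0 : algebraMap _ (ℬ.presheaf.obj (op (X.basicOpen c)))
          ((ℬ.presheaf.map (homOfLE (show W ≤ g ⁻¹ᵁ U from hWK)).op).hom ((u.app U).hom a)) = 0 := by
        have e1 := congrArg (ℬ.presheaf.map (homOfLE hle).op).hom
          (show (u.app (S.basicOpen r)).hom _ = 0 from ha)
        rw [← CommRingCat.comp_apply (𝒯.presheaf.map _) (u.app _), ← u.naturality (S.basicOpen_le r),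
          CommRingCat.comp_apply, map_zero, RelSpecLib.res_res] at e1
        show (ℬ.presheaf.map (homOfLE (X.basicOpen_le c)).op).hom _ = 0
        rw [RelSpecLib.res_res]
        exact e1
      obtain ⟨⟨_, k, rfl⟩, hk⟩ := (IsLocalization.map_eq_zero_iff
        (Submonoid.powers ((ℬ.str.app (op W)).hom c)) _ _).1 h0
      refine ⟨k, ?_⟩
      rw [map_mul, map_pow]
      refine Eq.trans ?_ hk
      congr 2
      exact congr(($(ℬ.str.naturality (homOfLE (show W ≤ g ⁻¹ᵁ U from hWK)).op)).hom ((g.app U).hom r)).symm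
  refine ⟨k, ?_⟩
  show (u.app U).hom _ = 0
  rw [map_mul, map_pow, ← CommRingCat.comp_apply (𝒯.str.app _), u.str_app U, CommRingCat.comp_apply]
  exact hk

variable [QuasiCompact g]

/-- The images over the affine opens. -/
def imgData : RelSpecLib.AffData S where
  F :=
    { obj := fun U => CommRingCat.of (𝒯.presheaf.obj (op U.unop.1) ⧸ kerAt u U.unop.1)
      map := fun {U V} i => CommRingCat.ofHom (Ideal.quotientMap _ _
        (kerAt_le u (Scheme.AffineZariskiSite.toOpens_mono i.unop.le)))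
      map_id := fun U => CommRingCat.hom_ext (Ideal.Quotient.ringHom_ext (RingHom.ext fun a => by
        show Ideal.Quotient.mk _ ((𝒯.presheaf.map _).hom a) = _
        rw [show (homOfLE _).op = 𝟙 (op U.unop.1) from Subsingleton.elim _ _, 𝒯.presheaf.map_id]
        rfl))
      map_comp := fun {U V W} i k => CommRingCat.hom_ext (Ideal.Quotient.ringHom_ext (RingHom.ext fun a => by
        show Ideal.Quotient.mk _ ((𝒯.presheaf.map _).hom a) =
          Ideal.Quotient.mk _ ((𝒯.presheaf.map _).hom ((𝒯.presheaf.map _).hom a))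
        rw [RelSpecLib.res_res])) }
  α :=
    { app := fun U => 𝒯.str.app (op U.unop.1) ≫ CommRingCat.ofHom (Ideal.Quotient.mk _)
      naturality := fun U V i => CommRingCat.hom_ext (RingHom.ext fun r =>
        congrArg (Ideal.Quotient.mk (kerAt u V.unop.1))
          congr(($(𝒯.str.naturality ((Scheme.AffineZariskiSite.toOpensFunctor S).op.map i))).hom r)) }
  loc U r := isLocalization_quotientMap ((𝒯.str.app (op U.1)).hom r)
    (𝒯.presheaf.map (homOfLE (S.basicOpen_le r)).op).hom (𝒯.isQC U.1 U.2 r) _ _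
    (kerAt_le u (S.basicOpen_le r))
    fun _ ha => exists_str_pow_mul_mem u U.2 r ha

/-- The class of a section. -/
def imgMk (U : S.Opens) (hU : IsAffineOpen U) :
    𝒯.presheaf.obj (op U) →+* (imgData u).F.obj (op (⟨U, hU⟩ : S.AffineZariskiSite)) :=
  Ideal.Quotient.mk (kerAt u U)

theorem imgMk_eq_zero_iff (U : S.Opens) (hU : IsAffineOpen U) (a : 𝒯.presheaf.obj (op U)) :
    imgMk u U hU a = 0 ↔ a ∈ kerAt u U := Ideal.Quotient.eq_zero_iff_mem

theorem imgMk_surjective (U : S.Opens) (hU : IsAffineOpen U) : Function.Surjective (imgMk u U hU) :=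
  Ideal.Quotient.mk_surjective

/-- The quotient map onto the image, over an affine open. -/
def imgQ (U : S.Opens) (hU : IsAffineOpen U) :
    𝒯.presheaf.obj (op U) →+* (imgData u).alg.presheaf.obj (op U) :=
  (inv ((imgData u).aff ⟨U, hU⟩)).hom.comp (imgMk u U hU)

theorem aff_imgQ (U : S.Opens) (hU : IsAffineOpen U) (a : 𝒯.presheaf.obj (op U)) :
    ((imgData u).aff ⟨U, hU⟩).hom (imgQ u U hU a) = imgMk u U hU a :=
  ConcreteCategory.congr_hom (IsIso.inv_hom_id ((imgData u).aff ⟨U, hU⟩)) _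

theorem aff_injective (U : S.Opens) (hU : IsAffineOpen U) :
    Function.Injective ((imgData u).aff ⟨U, hU⟩).hom :=
  (ConcreteCategory.bijective_of_isIso ((imgData u).aff ⟨U, hU⟩)).1

theorem imgQ_surjective (U : S.Opens) (hU : IsAffineOpen U) : Function.Surjective (imgQ u U hU) :=
  (ConcreteCategory.bijective_of_isIso (inv ((imgData u).aff ⟨U, hU⟩))).2.comp (imgMk_surjective u U hU)

theorem imgQ_eq_zero_iff (U : S.Opens) (hU : IsAffineOpen U) (a : 𝒯.presheaf.obj (op U)) :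
    imgQ u U hU a = 0 ↔ a ∈ kerAt u U := by
  rw [← imgMk_eq_zero_iff u U hU, ← aff_imgQ u U hU, map_eq_zero_iff _ (aff_injective u U hU)]

theorem imgQ_res_basicOpen {U V : S.Opens} (hU : IsAffineOpen U) (hV : IsAffineOpen V) (r : Γ(S, U))
    (hr : S.basicOpen r = V) (hVU : V ≤ U) (a : 𝒯.presheaf.obj (op U)) :
    ((imgData u).alg.presheaf.map (homOfLE hVU).op).hom (imgQ u U hU a) =
      imgQ u V hV ((𝒯.presheaf.map (homOfLE hVU).op).hom a) := by
  let U' : S.AffineZariskiSite := ⟨U, hU⟩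
  let V' : S.AffineZariskiSite := ⟨V, hV⟩
  let i : V' ⟶ U' := homOfLE (show ∃ f : Γ(S, U'.toOpens), S.basicOpen f = V'.toOpens from ⟨r, hr⟩)
  refine aff_injective u V hV ?_
  rw [aff_imgQ]
  refine (congr(($((imgData u).affNat.naturality i.op)).hom (imgQ u U hU a))).trans ?_
  exact congrArg ((imgData u).F.map i.op).hom (aff_imgQ u U hU a)

theorem imgQ_res {U V : S.Opens} (hU : IsAffineOpen U) (hV : IsAffineOpen V) (hVU : V ≤ U)
    (a : 𝒯.presheaf.obj (op U)) :
    ((imgData u).alg.presheaf.map (homOfLE hVU).op).hom (imgQ u U hU a) =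
      imgQ u V hV ((𝒯.presheaf.map (homOfLE hVU).op).hom a) := by
  choose f r hfr hz using fun z : V => exists_basicOpen_le_affine_inter hV hU z.1 ⟨z.2, hVU z.2⟩
  refine TopCat.Sheaf.eq_of_locally_eq' (⟨(imgData u).alg.presheaf, (imgData u).alg.isSheaf⟩ : TopCat.Sheaf CommRingCat S)
    (fun z : V => S.basicOpen (f z)) V (fun z => homOfLE (S.basicOpen_le (f z)))
    (fun z hzV => Opens.mem_iSup.2 ⟨⟨z, hzV⟩, hz ⟨z, hzV⟩⟩) _ _ fun z => ?_
  rw [imgQ_res_basicOpen u hV (hV.basicOpen (f z)) (f z) rfl, RelSpecLib.res_res, RelSpecLib.res_res]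
  exact imgQ_res_basicOpen u hU (hV.basicOpen (f z)) (r z) (hfr z).symm _ a

/-- The image, as a graded algebra. -/
def imgAlg : RelProj.QCGrAlg S where
  toQCAlg := (imgData u).alg
  deg U hU := mapGrading (𝒯.deg U hU) (imgQ u U hU)
  graded U hU := gradedRingMap (𝒯.deg U hU) (imgQ u U hU) (imgQ_surjective u U hU) fun a ha n =>
    (imgQ_eq_zero_iff u U hU _).2 (kerAt_homogeneous u hU ((imgQ_eq_zero_iff u U hU a).1 ha) n)
  map_mem := by
    rintro U V hU hV i d _ ⟨a, ha, rfl⟩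
    exact ⟨_, 𝒯.map_mem hU hV i ha, (imgQ_res u hU hV i a).symm⟩
  str_mem U hU r := ⟨(𝒯.str.app (op U)).hom r, 𝒯.str_mem U hU r, imgQ_str u U hU r⟩
where
  imgQ_str (u : RelProj.QGrHom g 𝒯 ℬ) (U : S.Opens) (hU : IsAffineOpen U) (r : Γ(S, U)) :
      imgQ u U hU ((𝒯.str.app (op U)).hom r) = ((imgData u).alg.str.app (op U)).hom r := by
    refine aff_injective u U hU ?_
    rw [aff_imgQ]
    exact congr(($((imgData u).str_aff ⟨U, hU⟩)).hom r).symm

/-- The quotient map, as a map of graded rings. -/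
def imgHom (U : S.Opens) (hU : IsAffineOpen U) : 𝒯.deg U hU →+*ᵍ (imgAlg u).deg U hU :=
  { imgQ u U hU with map_mem := fun {_ a} ha => ⟨a, ha, rfl⟩ }

theorem imgHom_surjective (U : S.Opens) (hU : IsAffineOpen U) : Function.Surjective (imgHom u U hU) :=
  imgQ_surjective u U hU

theorem imgHom_eq_zero_iff (U : S.Opens) (hU : IsAffineOpen U) (a : 𝒯.presheaf.obj (op U)) :
    imgHom u U hU a = 0 ↔ a ∈ kerAt u U := imgQ_eq_zero_iff u U hU a

theorem imgHom_res {U V : S.Opens} (hU : IsAffineOpen U) (hV : IsAffineOpen V) (hVU : V ≤ U)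
    (a : 𝒯.presheaf.obj (op U)) :
    (imgAlg u).res hU hV hVU (imgHom u U hU a) = imgHom u V hV (𝒯.res hU hV hVU a) :=
  imgQ_res u hU hV hVU a

theorem imgHom_str (U : S.Opens) (hU : IsAffineOpen U) (r : Γ(S, U)) :
    imgHom u U hU ((𝒯.str.app (op U)).hom r) = ((imgAlg u).str.app (op U)).hom r :=
  imgAlg.imgQ_str u U hU r

theorem imgHom_irrelevant (U : S.Opens) (hU : IsAffineOpen U) :
    ((imgAlg u).deg U hU)₊ ≤ ((𝒯.deg U hU)₊).map (imgHom u U hU) := by
  rw [HomogeneousIdeal.irrelevant_le]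
  rintro n hn _ ⟨a, ha, rfl⟩
  exact Ideal.mem_map_of_mem _ (HomogeneousIdeal.mem_irrelevant_of_mem _ hn ha)

theorem isGenDegOne_imgAlg (h : 𝒯.IsGenDegOne) : (imgAlg u).IsGenDegOne := by
  intro U hU
  refine eq_top_iff.2 fun b _ => ?_
  obtain ⟨a, rfl⟩ := imgQ_surjective u U hU b
  have ha : a ∈ Subring.closure ((𝒯.deg U hU 0 : Set (𝒯.presheaf.obj (op U))) ∪ (𝒯.deg U hU 1 : Set _)) := by
    rw [h U hU]; trivial
  have h2 := (Subring.mem_map (f := imgQ u U hU)).2 ⟨a, ha, rfl⟩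
  rw [RingHom.map_closure] at h2
  refine Subring.closure_mono ?_ h2
  rintro _ ⟨c, hc | hc, rfl⟩
  · exact Or.inl ⟨c, hc, rfl⟩
  · exact Or.inr ⟨c, hc, rfl⟩

theorem isFTDeg_imgAlg {d : ℕ} (h : 𝒯.IsFTDeg d) : (imgAlg u).IsFTDeg d := by
  classical
  intro U hU
  obtain ⟨T, hT, hgen⟩ := h U hU
  refine ⟨T.image (imgQ u U hU), fun b hb => ?_, ?_⟩
  · obtain ⟨a, ha, rfl⟩ := Finset.mem_image.1 hb
    exact ⟨a, hT ha, rfl⟩
  · rintro _ ⟨a, ha, rfl⟩
    obtain ⟨c, hc⟩ := hgen a ha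
    refine ⟨fun b => ∑ t ∈ T.filter (fun t => imgQ u U hU t = b), c t, ?_⟩
    show imgQ u U hU a = _
    rw [hc, map_sum, ← Finset.sum_fiberwise_of_maps_to (fun t ht => Finset.mem_image_of_mem (imgQ u U hU) ht)]
    refine Finset.sum_congr rfl fun b _ => ?_
    rw [map_sum, Finset.sum_mul]
    refine Finset.sum_congr rfl fun t ht => ?_
    rw [map_mul, imgAlg.imgQ_str u U hU, (Finset.mem_filter.1 ht).2]
    rfl

end Groth.Agent.ProjBundleLib
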