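import Groth.Agent.ProjBundleLib.Canon

/-! Invertible modules are very ample for quasi-compact open immersions. -/

set_option autoImplicit false
set_option linter.style.haveILetI false
set_option backward.isDefEq.respectTransparency false

universe u

open CategoryTheory CategoryTheory.Limits AlgebraicGeometry TopologicalSpace Opposite
open Groth.Agent.ParaFLib Groth.Agent.PullbackMod

noncomputable section

namespace Groth.Agent.ProjBundleLib

variable {X Y : Scheme.{u}} {L : X.Modules}

theorem isRelVeryAmple_of_isOpenImmersion (q : X ⟶ Y) [IsOpenImmersion q] [QuasiCompact q]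
    (hL : PicF.IsInvertible L) : RelProj.IsRelVeryAmple q L := by
  haveI := InvExt.isQCoh_of_isInvertible hL
  obtain ⟨P, p, O1, φ, ⟨D⟩⟩ := exists_bundle (QCohLib.isQCoh_pushforward L q)
  have hG : Gens (𝟙 ((Scheme.Modules.pushforward q).obj L)) := fun x => by
    obtain ⟨W, ε, hxW, hε⟩ := exists_gen_nhd hL x
    have hle : q ⁻¹ᵁ (q ''ᵁ W) ≤ W := (q.preimage_image_eq W).le
    refine ⟨q ''ᵁ W, ⟨x, hxW, rfl⟩, L.presheaf.map (homOfLE hle).op ε, ?_⟩
    have h1 := hε.bijective_germ x hxW
    show Function.Bijective fun c : X.presheaf.stalk x =>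
      c • L.presheaf.germ (q ⁻¹ᵁ (q ''ᵁ W)) x ⟨x, hxW, rfl⟩ (L.presheaf.map (homOfLE hle).op ε)
    rw [TopCat.Presheaf.germ_res_apply L.presheaf (homOfLE hle) x]
    exact h1
  obtain ⟨r, hr, -⟩ := D.existsUnique_compat_of_gens hL hG
  obtain ⟨hrq, τ, -⟩ := D.exists_iso_of_compat
    (((Scheme.Modules.pullbackPushforwardAdjunction q).homEquiv _ _).symm (𝟙 ((Scheme.Modules.pushforward q).obj L))) (r := r)
    (by simpa only [sigma, Equiv.apply_symm_apply] using hr)
  haveI : IsImmersion (r ≫ p) := by rw [hrq]; infer_instance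
  haveI := IsImmersion.of_comp r p
  exact isRelVeryAmple_of_pdata D r hrq τ.symm

end Groth.Agent.ProjBundleLib
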