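import Groth.Agent.ProjBundleLib.FTSub
import Groth.Agent.ProjTwistLib.Ample
import Groth.Prelude.Def_Twist2
import Groth.Prelude.Def_LCI2
import Mathlib.AlgebraicGeometry.Modules.Tilde

/-! `O(1)` on `Proj` of an algebra generated in degree one is very ample in the bundle sense. -/

set_option autoImplicit false
set_option linter.style.haveILetI false
set_option backward.isDefEq.respectTransparency false

universe u

open CategoryTheory CategoryTheory.Limits AlgebraicGeometry TopologicalSpace Opposite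
open Groth.Agent.ParaFLib Groth.Agent.PullbackMod Groth.Agent.ProjTwistLib Groth.Agent.ProjTwist

noncomputable section

namespace Groth.Agent.ProjBundleLib

variable (R : CommRingCat.{u}) {A : Type u} [CommRing A] [Algebra R A] (𝒜 : ℕ → Submodule R A) [GradedAlgebra 𝒜]

/-- The free module on the forms of degree one. -/
abbrev formsTilde : (Spec R).Modules := tilde (ModuleCat.of R (𝒜 1 →₀ R))

/-- A form of degree one, as a global section. -/
abbrev formSec (a : 𝒜 1) : Γ(Twist.twist 𝒜 1, ⊤) := Twist.globalOf 𝒜 a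

/-- A map from the free module on given sections. -/
theorem exists_sigma (g : Proj 𝒜 ⟶ Spec R) :
    ∃ (σ : formsTilde R 𝒜 ⟶ (Scheme.Modules.pushforward g).obj (Twist.twist 𝒜 1))
      (e : 𝒜 1 → Γ(formsTilde R 𝒜, ⊤)), ∀ a, σ.app ⊤ (e a) = formSec R 𝒜 a := by
  classical
  let N := (Scheme.Modules.pushforward g).obj (Twist.twist 𝒜 1)
  let t : 𝒜 1 → Γ(N, ⊤) := fun a => formSec R 𝒜 a
  let ψ : ModuleCat.of R (𝒜 1 →₀ R) ⟶ (moduleSpecΓFunctor (R := R)).obj N :=
    ModuleCat.ofHom (Y := Γ(N, ⊤)) (Finsupp.linearCombination R t)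
  let σ : formsTilde R 𝒜 ⟶ N := (tilde.adjunction.homEquiv _ _).symm ψ
  refine ⟨σ, fun a => (tilde.toOpen (ModuleCat.of R (𝒜 1 →₀ R)) ⊤).hom (Finsupp.single a (1 : R)), fun a => ?_⟩
  have h : (tilde.adjunction.homEquiv (ModuleCat.of R (𝒜 1 →₀ R)) N) σ = ψ := Equiv.apply_symm_apply _ _
  rw [Adjunction.homEquiv_unit] at h
  have h2 := congr(($h).hom (Finsupp.single a (1 : R)))
  refine Eq.trans h2 ?_
  show Finsupp.linearCombination R t (Finsupp.single a 1) = _
  rw [Finsupp.linearCombination_single, one_smul]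

/-- `O(1)` is very ample for `Proj` of an algebra generated in degree one. -/
theorem isRelVeryAmple_twist_one (hgen : Subring.closure ((𝒜 0 : Set A) ∪ (𝒜 1 : Set A)) = ⊤)
    (hcov : ∀ x : Proj 𝒜, ∃ a : 𝒜 1, x ∈ Proj.basicOpen 𝒜 a.1) (g : Proj 𝒜 ⟶ Spec R) :
    RelProj.IsRelVeryAmple g (Twist.twist 𝒜 1) := by
  classical
  haveI hE : Coh.IsQCoh (formsTilde R 𝒜) :=
    inferInstanceAs ((tilde (ModuleCat.of R (𝒜 1 →₀ R))).IsQuasicoherent)
  obtain ⟨σ, e, he⟩ := exists_sigma R 𝒜 g
  have hgenL : ∀ a : 𝒜 1, Gen (Proj.basicOpen 𝒜 a.1)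
      ((Twist.twist 𝒜 1).presheaf.map (homOfLE (le_top : Proj.basicOpen 𝒜 a.1 ≤ ⊤)).op (formSec R 𝒜 a)) :=
    fun a => gen_globalOf a le_rfl
  have hL : PicF.IsInvertible (Twist.twist 𝒜 1) := AmpleLib.isInvertible_of_gen fun x => by
    obtain ⟨a, ha⟩ := hcov x
    exact ⟨_, _, ha, hgenL a⟩
  have hb : ∀ (a : 𝒜 1) (z : Proj 𝒜), z ∈ Proj.basicOpen 𝒜 a.1 ↔
      Function.Bijective fun c : (Proj 𝒜).presheaf.stalk z => c • germφ σ z (W := ⊤) trivial (e a) := fun a z => by
    have hg : germφ σ z (W := ⊤) trivial (e a) = (Twist.twist 𝒜 1).presheaf.germ ⊤ z trivial (formSec R 𝒜 a) :=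
      congrArg ((Twist.twist 𝒜 1).presheaf.germ ⊤ z trivial) (he a)
    rw [hg]
    refine ⟨fun hz => ?_, fun h => ?_⟩
    · have h1 := (hgenL a).bijective_germ z hz
      rw [TopCat.Presheaf.germ_res_apply] at h1
      exact h1
    · obtain ⟨b, hb⟩ := hcov z
      obtain ⟨c, hc⟩ := ((hgenL b) (Proj.basicOpen 𝒜 b.1) le_rfl).2
        ((Twist.twist 𝒜 1).presheaf.map (homOfLE (le_top : Proj.basicOpen 𝒜 b.1 ≤ ⊤)).op (formSec R 𝒜 a))
      simp only [ParaFLib.res_self] at hc
      have hu : IsUnit ((Proj 𝒜).presheaf.germ _ z hb c) := by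
        rw [← AmpleLib.bijective_smul_iff ((hgenL b).bijective_germ z hb)]
        have h1 := congrArg ((Twist.twist 𝒜 1).presheaf.germ _ z hb) hc
        rw [germ_smul' z hb] at h1
        rw [h1]
        erw [TopCat.Presheaf.germ_res_apply]
        exact h
      have hzc : z ∈ (Proj 𝒜).basicOpen c := (Scheme.mem_basicOpen _ c z hb).2 hu
      have hgc := ((hgenL b).res ((Proj 𝒜).basicOpen_le c)).smul
        (RingedSpace.isUnit_res_basicOpen (Proj 𝒜).toRingedSpace c)
      erw [← (Twist.twist 𝒜 1).map_smul, hc, ParaFLib.res_res] at hgc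
      exact notMem_of_gen a (hasUnit_of_mem b hb) hzc hgc
  have hG : Gens σ := fun x => by
    obtain ⟨a, ha⟩ := hcov x
    exact ⟨⊤, trivial, e a, (hb a x).1 ha⟩
  obtain ⟨P, p, O1, φ, ⟨D⟩⟩ := exists_bundle hE
  obtain ⟨k, hk, -⟩ := D.existsUnique_compat_of_gens hL hG
  have hU : IsAffineOpen (⊤ : (Spec R).Opens) := isAffineOpen_top _
  have hpre : ∀ a : 𝒜 1, k ⁻¹ᵁ D.DPl hU (e a) = Proj.basicOpen 𝒜 a.1 := fun a => by
    ext z
    refine ⟨fun hz => ?_, fun hz => ?_⟩
    · exact (hb a z).2 ((hk.2 ⊤ (e a) z trivial trivial).1.1 (D.bijective_germφ hU (e a) hz))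
    · exact (D.mem_DPl_iff hU (e a) trivial).2 ((hk.2 ⊤ (e a) z trivial trivial).1.2 ((hb a z).1 hz))
  haveI : IsImmersion k := by
    refine isImmersion_of_cover k (fun a : 𝒜 1 => D.DPl hU (e a)) (fun z => ?_) fun a => ?_
    · obtain ⟨a, ha⟩ := hcov z
      exact ⟨a, (hpre a).ge ha⟩
    let O := D.DPl hU (e a)
    have hO : IsAffineOpen O := D.isAffineOpen_DPl hU (e a)
    haveI : IsAffine (O : Scheme.{u}) := hO
    haveI : IsAffine ((k ⁻¹ᵁ O : (Proj 𝒜).Opens) : Scheme.{u}) := by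
      rw [hpre a]; exact Proj.isAffineOpen_basicOpen 𝒜 a.1 a.2 one_pos
    have hsurj : Function.Surjective (k.appLE O (Proj.basicOpen 𝒜 a.1) (hpre a).ge).hom := by
      rw [← RingHom.range_eq_top, eq_top_iff, ← closure_frac1 (𝒜 := 𝒜) hgen a]
      refine Subring.closure_le.2 ?_
      rintro _ ⟨b, rfl⟩
      refine ⟨D.coord hU (e a) (e b), ?_⟩
      have hinj : Function.Injective fun c : Γ(Proj 𝒜, Proj.basicOpen 𝒜 a.1) => c •
          (Twist.twist 𝒜 1).presheaf.map (homOfLE (le_top : Proj.basicOpen 𝒜 a.1 ≤ ⊤)).op (formSec R 𝒜 a) := by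
        intro c c' hcc
        have h2 := (hgenL a _ le_rfl).1
        simp only [ParaFLib.res_self] at h2
        exact h2 hcc
      refine hinj ?_
      have hVU : Proj.basicOpen 𝒜 a.1 ≤ g ⁻¹ᵁ ⊤ := fun _ _ => trivial
      show _ • _ = _ • _
      have e1 : ∀ c : Γ(Proj 𝒜, Proj.basicOpen 𝒜 a.1), c • (Twist.twist 𝒜 1).presheaf.map
          (homOfLE (le_top : Proj.basicOpen 𝒜 a.1 ≤ ⊤)).op (formSec R 𝒜 a) =
          c • (Twist.twist 𝒜 1).presheaf.map (homOfLE hVU).op (σ.app ⊤ (e a)) := fun c => by rw [he a]; rfl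
      rw [e1]
      refine (ProjBundleLib.appLE_coord_smul D hk hU (e a) (e b) (hpre a).ge hVU).trans ?_
      rw [he b]
      refine sect_ext fun z => ?_
      erw [valAt_smul]
      show Localization.mk b.1 _ = ((frac1 a b : Twist.O (𝒜 := 𝒜) (op _)).1 z).val * Localization.mk a.1 _
      rw [frac1_val a b z, Localization.mk_mul, Localization.mk_eq_mk_iff, Localization.r_iff_exists]
      exact ⟨1, by simp [mul_comm]⟩
    haveI : IsClosedImmersion (k ∣_ O) := IsClosedImmersion.of_surjective_of_isAffine _ (by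
      rw [morphismRestrict_appTop]
      show Function.Surjective (((Proj 𝒜).presheaf.map (eqToHom (image_morphismRestrict_preimage k O ⊤)).op).hom ∘
        (k.app (O.ι ''ᵁ ⊤)).hom)
      refine Function.Surjective.comp (ConcreteCategory.bijective_of_isIso
        ((Proj 𝒜).presheaf.map (eqToHom (image_morphismRestrict_preimage k O ⊤)).op)).2 ?_
      rw [O.ι_image_top]
      intro b
      obtain ⟨c, hc⟩ := hsurj (((Proj 𝒜).presheaf.map (homOfLE (hpre a).ge).op).hom b)
      refine ⟨c, ?_⟩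
      have e1 := congrArg ((Proj 𝒜).presheaf.map (homOfLE (hpre a).le).op).hom hc
      rw [← CommRingCat.comp_apply, Scheme.Hom.appLE_map, ← Scheme.Hom.app_eq_appLE, ← CommRingCat.comp_apply,
        ← Functor.map_comp, show (homOfLE (hpre a).ge).op ≫ (homOfLE (hpre a).le).op = 𝟙 _ from Subsingleton.elim _ _,
        (Proj 𝒜).presheaf.map_id] at e1
      exact e1)
    infer_instance
  obtain ⟨hkq, τ, -⟩ := D.exists_iso_of_compat
    (((Scheme.Modules.pullbackPushforwardAdjunction g).homEquiv _ _).symm σ) (r := k)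
    (by simpa only [sigma, Equiv.apply_symm_apply] using hk)
  exact isRelVeryAmple_of_pdata D k hkq τ.symm

/-- `O(1)` on projective space over a scheme is very ample. -/
theorem isRelVeryAmple_twistOver (n : ℕ) (S : Scheme.{u}) :
    RelProj.IsRelVeryAmple (CohB1.ProjSpaceOver.toBase n S) (Twist.twistOver n S 1) := by
  refine isRelVeryAmple_baseChange (IsPullback.of_hasPullback _ _) ?_
  refine isRelVeryAmple_twist_one (CommRingCat.of (ULift.{u} ℤ)) (CohB1.polyGrading n (ULift.{u} ℤ)) ?_ (fun x => ?_) _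
  · rw [eq_top_iff]
    intro P _
    induction P using MvPolynomial.induction_on with
    | C r => exact Subring.subset_closure (Or.inl (MvPolynomial.isHomogeneous_C _ r))
    | add p q hp hq => exact add_mem (hp trivial) (hq trivial)
    | mul_X p i hp => exact mul_mem (hp trivial) (Subring.subset_closure (Or.inr (MvPolynomial.isHomogeneous_X _ i)))
  · by_contra hx
    push_neg at hx
    refine x.not_irrelevant_le ?_
    intro P hP
    replace hP : GradedRing.proj (CohB1.polyGrading n (ULift.{u} ℤ)) 0 P = 0 :=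
      (HomogeneousIdeal.mem_irrelevant_iff _ P).1 hP
    show P ∈ x.asHomogeneousIdeal.toIdeal
    have h0 : MvPolynomial.coeff 0 P = 0 := by
      have := congrArg (MvPolynomial.coeff 0) hP
      rw [show (GradedRing.proj (CohB1.polyGrading n (ULift.{u} ℤ)) 0 P) = MvPolynomial.homogeneousComponent 0 P from
        MvPolynomial.decomposition.decompose'_apply P 0] at this
      simpa [MvPolynomial.coeff_homogeneousComponent] using this
    have hXi : ∀ i : Fin (n + 1), (MvPolynomial.X i : MvPolynomial (Fin (n + 1)) (ULift.{u} ℤ)) ∈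
        x.asHomogeneousIdeal.toIdeal := fun i => by
      by_contra h
      exact hx ⟨MvPolynomial.X i, MvPolynomial.isHomogeneous_X _ i⟩ h
    rw [MvPolynomial.as_sum P]
    refine Ideal.sum_mem _ fun s hs => ?_
    have hs0 : s ≠ 0 := fun h => MvPolynomial.mem_support_iff.1 hs (h ▸ h0)
    obtain ⟨i, hi⟩ := Finsupp.ne_iff.1 hs0
    rw [MvPolynomial.monomial_eq, Finsupp.prod]
    refine Ideal.mul_mem_left _ _ ?_
    rw [← Finset.mul_prod_erase _ _ (Finsupp.mem_support_iff.2 hi)]
    exact Ideal.mul_mem_right _ _ (Ideal.pow_mem_of_mem _ (hXi i) _ (Nat.pos_of_ne_zero hi))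

/-- The projective-space form of very ampleness implies the bundle form. -/
theorem isRelVeryAmple_of_pn {X S : Scheme.{u}} {f : X ⟶ S} {L : X.Modules}
    (h : RelAmple.IsRelVeryAmplePn f L) : RelProj.IsRelVeryAmple f L := by
  obtain ⟨n, i, hi, rfl, ⟨e⟩⟩ := h
  exact isRelVeryAmple_of_iso e (isRelVeryAmple_precomp i (isRelVeryAmple_twistOver n S))

/-- Very ampleness in the projective-space form over a cover implies the bundle form. -/
theorem isRelVeryAmple_of_pn_cover {X S : Scheme.{u}} {f : X ⟶ S} [QuasiCompact f] {L : X.Modules}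
    (hL : PicF.IsInvertible L) {ι : Type u} (V : ι → S.Opens) (hV : (⨆ j, V j) = ⊤)
    (h : ∀ j, RelAmple.IsRelVeryAmplePn (f ∣_ V j) (L.restrict (f ⁻¹ᵁ V j).ι)) :
    RelProj.IsRelVeryAmple f L :=
  (isRelVeryAmple_iff_of_cover hL V hV).2 fun j => isRelVeryAmple_of_pn (h j)

end Groth.Agent.ProjBundleLib
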