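import Groth.Agent.ProjBundleLib.QMapCanon
import Groth.Agent.ProjBundleLib.GenDegOne
import Groth.Agent.RelProjLib.RLocAmple
import Groth.Agent.RelProjLib.RLpsiLimImm
import Groth.Agent.RelProjLib.OfHom

/-! Very ampleness from the morphism into a relative `Proj` generated in degree one. -/

set_option autoImplicit false
set_option linter.style.haveILetI false
set_option linter.unusedSectionVars false
set_option backward.isDefEq.respectTransparency false

universe u

open CategoryTheory CategoryTheory.Limits AlgebraicGeometry TopologicalSpace Opposite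
open Groth.Agent.ParaFLib Groth.Agent.RelSpecLib Groth.Agent.RelProjLib

noncomputable section

namespace Groth.Agent.ProjBundleLib

variable {X Y : Scheme.{u}} {L : X.Modules} [Coh.IsQCoh L] {T : RelProj.QCGrAlg X} {jL : L ⟶ T.toModule}
  (hjL : RelProj.IsGrSymAlg L T jL) (hL : PicF.IsInvertible L)

include hjL hL in
/-- The module is the degree-one part of its symmetric algebra, over every open. -/
theorem bijOn_jsec (O : X.Opens) :
    Function.Injective (jsec T.toQCAlg jL (U := O)) ∧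
      ∀ a : T.presheaf.obj (op O), HomSec a 1 → ∃ l, jsec T.toQCAlg jL l = a := by
  classical
  have hex : ∀ x : O, ∃ (V : X.Opens) (_ : IsAffineOpen V) (e : Γ(L, V)), x.1 ∈ V ∧ V ≤ O ∧ Gen V e := fun x =>
    exists_triv x.1 hL x.2
  choose V hV e hxV hVO he using hex
  let F : TopCat.Sheaf Ab.{u} X.carrier := ⟨L.presheaf, L.isSheaf⟩
  have inj : ∀ (O : X.Opens) (l l' : Γ(L, O)), jsec T.toQCAlg jL l = jsec T.toQCAlg jL l' → l = l' := by
    intro O l l' h
    have hex : ∀ x : O, ∃ (V : X.Opens) (_ : IsAffineOpen V) (e : Γ(L, V)), x.1 ∈ V ∧ V ≤ O ∧ Gen V e := fun x =>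
      exists_triv x.1 hL x.2
    choose V hV e hxV hVO he using hex
    refine TopCat.Sheaf.eq_of_locally_eq' ⟨L.presheaf, L.isSheaf⟩ V O (fun x => homOfLE (hVO x))
      (fun y hy => Opens.mem_iSup.2 ⟨⟨y, hy⟩, hxV _⟩) _ _ fun x => ?_
    obtain ⟨c, hc⟩ := (he x (V x) le_rfl).2 (L.presheaf.map (homOfLE (hVO x)).op l)
    obtain ⟨c', hc'⟩ := (he x (V x) le_rfl).2 (L.presheaf.map (homOfLE (hVO x)).op l')
    simp only [ParaFLib.res_self] at hc hc'
    have h2 := congrArg (T.presheaf.map (homOfLE (hVO x)).op).hom h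
    erw [res_jsec, res_jsec] at h2
    rw [← hc, ← hc', jsec_smul, jsec_smul] at h2
    have hcc : c = c' := str_mul_pow_injective (hV x) hjL (he x) 1 (by simpa [gen₁] using h2)
    show L.presheaf.map (homOfLE (hVO x)).op l = L.presheaf.map (homOfLE (hVO x)).op l'
    rw [← hc, ← hc', hcc]
  refine ⟨fun l l' => inj O l l', fun a ha => ?_⟩
  choose c hc _ using fun x : O => existsUnique_coeff (hV x) hjL (he x) (ha (V x) (hV x) (hVO x))
  let b : ∀ x : O, Γ(L, V x) := fun x => c x • e x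
  have hb' : ∀ x, jsec T.toQCAlg jL (b x) = rz a (V x) (hVO x) := fun x => by
    rw [jsec_smul, ← hc x, pow_one]
    rfl
  have hb : TopCat.Presheaf.IsCompatible F.obj V b := fun x y => by
    refine inj _ _ _ ?_
    show jsec T.toQCAlg jL (L.presheaf.map (homOfLE inf_le_left).op (b x)) =
      jsec T.toQCAlg jL (L.presheaf.map (homOfLE inf_le_right).op (b y))
    rw [← res_jsec, ← res_jsec, hb' x, hb' y]
    exact (rz_res a (hVO x) inf_le_left).trans (rz_res a (hVO y) inf_le_right).symm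
  obtain ⟨l, hl, -⟩ := F.existsUnique_gluing' V O (fun x => homOfLE (hVO x))
    (fun y hy => Opens.mem_iSup.2 ⟨⟨y, hy⟩, hxV _⟩) b hb
  refine ⟨l, TopCat.Sheaf.eq_of_locally_eq' ⟨T.presheaf, T.isSheaf⟩ V O (fun x => homOfLE (hVO x))
    (fun y hy => Opens.mem_iSup.2 ⟨⟨y, hy⟩, hxV _⟩) _ _ fun x => ?_⟩
  show (T.presheaf.map (homOfLE (hVO x)).op).hom (jsec T.toQCAlg jL l) = rz a (V x) (hVO x)
  rw [← hb' x]
  exact (res_jsec T.toQCAlg jL (hVO x) l).trans (congrArg (jsec T.toQCAlg jL) (hl x))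

variable {f : X ⟶ Y} {𝒜 : RelProj.QCGrAlg Y} (u : RelProj.QGrHom f 𝒜 T)

include hjL hL in
/-- An immersion by a graded algebra generated in degree one gives very ampleness. -/
theorem isRelVeryAmple_of_qmap (h1 : 𝒜.IsGenDegOne)
    {PL : Scheme.{u}} {pL : PL ⟶ X}
    {chartL : ∀ (U : X.Opens) (hU : IsAffineOpen U), (((pL ⁻¹ᵁ U : PL.Opens) : Scheme.{u}) ≅ Proj (T.deg U hU))}
    (hPL : RelProj.IsRelProj T pL chartL)
    (hsurj : ∀ x : X, ∃ (U : Y.Opens) (hU : IsAffineOpen U) (e : 𝒜.presheaf.obj (op U)) (_ : e ∈ 𝒜.deg U hU 1)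
      (hx : f x ∈ U), x ∈ nv ((u.app U).hom e) 1)
    {P : Scheme.{u}} {p : P ⟶ Y}
    {chart : ∀ (U : Y.Opens) (hU : IsAffineOpen U), (((p ⁻¹ᵁ U : P.Opens) : Scheme.{u}) ≅ Proj (𝒜.deg U hU))}
    (hP : RelProj.IsRelProj 𝒜 p chart)
    (r : ((RelProj.domQ u pL chartL : PL.Opens) : Scheme.{u}) ⟶ P)
    (hr : RelProj.IsProjQMapOn u p chart pL chartL (RelProj.domQ u pL chartL) r)
    [IsImmersion r] : RelProj.IsRelVeryAmple f L := by
  classical
  obtain ⟨M, u₁, hM, -, hu1, husurj, -⟩ := exists_degOne 𝒜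
  obtain ⟨𝒯, j, hj⟩ := exists_isGrSymAlg hM
  obtain ⟨Q, pQ, chartQ, hQ⟩ := RelProjLib.exists_relProj 𝒯
  obtain ⟨O1, lam, hO1⟩ := S8284.result 𝒯 pQ chartQ hQ 1
  obtain ⟨φ, hφ⟩ := exists_φ_val hM hj hQ hO1
  let D : PData pQ M O1 φ := ⟨hM, 𝒯, j, hj, chartQ, hQ, lam, hO1, hφ⟩
  obtain ⟨v, hvg, hv⟩ := exists_symHom hM hj u₁ hu1
  have hs : ∀ (U : Y.Opens) (hU : IsAffineOpen U) (n : ℕ), 0 < n → ∀ b ∈ 𝒜.deg U hU n,
      ∃ a ∈ 𝒯.deg U hU n, RelProj.gradedHomAt v hvg U hU a = b := fun U hU n hn b hb => by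
    refine exists_preimage_pos (v.hom.app (op U)).hom (h1 U hU) (fun b hb => ?_) n hn b hb
    obtain ⟨x, hx⟩ := husurj U hU b hb
    exact ⟨(j.app U) x, hj.2 U hU x, (congr(($hv).app U x)).trans hx⟩
  -- the map of modules
  let ev : ∀ (U : Y.Opens), Γ(M, U) →+ T.presheaf.obj (op (f ⁻¹ᵁ U)) := fun U =>
    (u.app U).hom.toAddMonoidHom.comp (u₁.app U).hom
  have hev : ∀ (U : Y.Opens) (hU : IsAffineOpen U) (e : Γ(M, U)), HomSec (ev U e) 1 := fun U hU e W hW h =>
    u.map_mem U hU W hW h (hu1 U hU e)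
  choose g hg using fun (U : Y.AffineZariskiSite) (e : Γ(M, U.1)) =>
    (bijOn_jsec hjL hL (f ⁻¹ᵁ U.1)).2 _ (hev U.1 U.2 e)
  have hginj := fun (O : X.Opens) => (bijOn_jsec hjL hL O).1
  have hnat : ∀ {U V : Y.Opens} (i : V ≤ U) (a : 𝒜.presheaf.obj (op U)),
      (T.presheaf.map (homOfLE (f.preimage_mono i)).op).hom ((u.app U).hom a) =
        (u.app V).hom ((𝒜.presheaf.map (homOfLE i).op).hom a) := fun i a =>
    congr(($(u.naturality i)).hom a)
  have hu₁nat : ∀ {U V : Y.Opens} (i : V ≤ U) (e : Γ(M, U)),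
      (𝒜.presheaf.map (homOfLE i).op).hom ((u₁.app U) e) = (u₁.app V) (M.presheaf.map (homOfLE i).op e) :=
    fun i e => res_jsec 𝒜.toQCAlg u₁ i e
  obtain ⟨σ, hσ⟩ := exists_hom_of_affine (E := M) (N := (Scheme.Modules.pushforward f).obj L)
    (fun U => AddMonoidHom.mk' (g U) fun a b => hginj _ (by
      show jsec T.toQCAlg jL (g U (a + b)) = (jL.app (f ⁻¹ᵁ U.1)) (g U a + g U b)
      rw [map_add, hg U (a + b), map_add]
      exact congrArg₂ (· + ·) (hg U a).symm (hg U b).symm))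
    (fun U hU r e => hginj _ (by
      show jsec T.toQCAlg jL (L.presheaf.map (homOfLE (f.preimage_mono (Y.basicOpen_le r))).op (g ⟨U, hU⟩ e)) =
        jsec T.toQCAlg jL (g ⟨Y.basicOpen r, hU.basicOpen r⟩ _)
      rw [← res_jsec, hg, hg]
      refine (hnat (Y.basicOpen_le r) _).trans ?_
      exact congrArg (u.app _).hom (hu₁nat (Y.basicOpen_le r) e)))
    (fun U a e => hginj _ (by
      show jsec T.toQCAlg jL (g U (a • e)) = jsec T.toQCAlg jL (f.app U.1 a • g U e)
      rw [jsec_smul, hg, hg]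
      show (u.app U.1).hom (jsec 𝒜.toQCAlg u₁ (a • e)) = _ * (u.app U.1).hom (jsec 𝒜.toQCAlg u₁ e)
      rw [jsec_smul, map_mul]
      congr 1
      exact congr(($(u.str_app U.1)).hom a)))
  -- the composite graded map
  let u' : RelProj.QGrHom f 𝒯 T :=
    { app := fun U => v.hom.app (op U) ≫ u.app U
      naturality := fun {U V} i => by
        rw [Category.assoc, u.naturality i, ← Category.assoc, ← v.hom.naturality (homOfLE i).op, Category.assoc]
      str_app := fun U => by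
        rw [← Category.assoc, ← u.str_app U]
        exact congrArg (· ≫ u.app U) (congrArg (fun t => t.app (op U)) v.comm)
      map_mem := fun U hU U' hU' hle _ _ hx => u.map_mem U hU U' hU' hle (hvg U hU _ _ hx) }
  have haff : ∀ (U : Y.Opens), IsAffineOpen U → ∀ x : Γ(M, U),
      (u'.app U).hom ((j.app U) x) = (jL.app (f ⁻¹ᵁ U)) (σ.app U x) := fun U hU x => by
    rw [hσ U hU x]
    refine Eq.trans ?_ (hg ⟨U, hU⟩ x).symm
    show (u.app U).hom ((v.hom.app (op U)).hom ((j.app U) x)) = (u.app U).hom ((u₁.app U) x)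
    exact congrArg (u.app U).hom (congr(($hv).app U x))
  have hu' : ∀ (U : Y.Opens) (x : Γ(M, U)), (u'.app U).hom ((j.app U) x) = (jL.app (f ⁻¹ᵁ U)) (σ.app U x) := by
    intro U x
    have hex : ∀ y : U, ∃ (W : Y.Opens) (_ : IsAffineOpen W), y.1 ∈ W ∧ W ≤ U := fun y => by
      obtain ⟨_, ⟨W, hW, rfl⟩, hyW, hle⟩ := Y.isBasis_affineOpens.exists_subset_of_mem_open y.2 U.2
      exact ⟨W, hW, hyW, hle⟩
    choose W hW hyW hle using hex
    refine TopCat.Sheaf.eq_of_locally_eq' ⟨T.presheaf, T.isSheaf⟩ (fun y => f ⁻¹ᵁ W y) (f ⁻¹ᵁ U)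
      (fun y => homOfLE (f.preimage_mono (hle y))) (fun z hz => Opens.mem_iSup.2 ⟨⟨f z, hz⟩, hyW _⟩) _ _ fun y => ?_
    show (T.presheaf.map (homOfLE (f.preimage_mono (hle y))).op).hom ((u'.app U).hom (jsec 𝒯.toQCAlg j x)) =
      (T.presheaf.map (homOfLE (f.preimage_mono (hle y))).op).hom (jsec T.toQCAlg jL (σ.app U x))
    rw [res_jsec]
    refine Eq.trans (congr(($(u'.naturality (hle y))).hom (jsec 𝒯.toQCAlg j x))) ?_
    show (u'.app (W y)).hom ((𝒯.presheaf.map (homOfLE (hle y)).op).hom (jsec 𝒯.toQCAlg j x)) = _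
    rw [res_jsec]
    refine (haff (W y) (hW y) _).trans (congrArg (jsec T.toQCAlg jL) ?_)
    exact ConcreteCategory.congr_hom (σ.mapPresheaf.naturality (homOfLE (hle y)).op) x
  have hG : Gens σ := fun x => by
    obtain ⟨U, hU, e, he1, hx, hxe⟩ := hsurj x
    obtain ⟨e', rfl⟩ := husurj U hU e he1
    refine ⟨U, hx, e', ?_⟩
    obtain ⟨V, hV, ε, hxV, hVU, hε⟩ := exists_triv x hL (O := f ⁻¹ᵁ U) hx
    obtain ⟨c, hc⟩ := (hε V le_rfl).2 (L.presheaf.map (homOfLE hVU).op (σ.app U e'))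
    simp only [ParaFLib.res_self] at hc
    have hsec : jsec T.toQCAlg jL (σ.app U e') = (u.app U).hom ((u₁.app U) e') :=
      (haff U hU e').symm.trans (congrArg (u.app U).hom (congr(($hv).app U e')))
    have hcoef : (T.str.app (op V)).hom c * (gen₁ hV hjL ε).1 ^ 1 = rz ((u.app U).hom ((u₁.app U) e')) V hVU := by
      rw [pow_one]
      refine (jsec_smul T.toQCAlg jL c ε).symm.trans ?_
      rw [hc, ← res_jsec, hsec]
    have hxc := (mem_nv_iff ((u.app U).hom ((u₁.app U) e')) 1 hjL hV hVU hε hcoef hxV).1 hxe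
    have hgerm : germφ σ x hx e' = X.presheaf.germ V x hxV c • L.presheaf.germ V x hxV ε := by
      show L.presheaf.germ (f ⁻¹ᵁ U) x hx (σ.app U e') = _
      rw [← germ_smul' x hxV, hc, TopCat.Presheaf.germ_res_apply]
    rw [hgerm]
    exact (AmpleLib.bijective_smul_iff (hε.bijective_germ x hxV) _).2 ((X.mem_basicOpen c x hxV).1 hxc)
  obtain ⟨k, hk, -⟩ := D.existsUnique_compat_of_gens hL hG
  haveI hiso : IsIso pL := Groth.Agent.S12143.result L hL inferInstance T jL hjL pL chartL hPL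
  obtain ⟨rA, hrA, -⟩ := QMap.existsUnique_on u' pQ chartQ pL chartL hQ hPL
  obtain ⟨htop, hrk⟩ := eq_compat hL hjL hPL hj u' hu' hQ hO1 hφ hM hG hk rA hrA
  obtain ⟨vh, b, hvh, hb, hbr⟩ := RelProjLib.Colim.exists_factor v hvg u u' (fun U => rfl) hQ hP pL hPL rA hrA r hr
  haveI : IsClosedImmersion vh := QMap.of_charts_on hvg hQ hP hvh @IsClosedImmersion fun U hU d hd a ha => by
    refine IsClosedImmersion.spec_of_surjective _ fun z => ?_
    obtain ⟨m, c, hc, rfl⟩ := HomogeneousLocalization.Away.mk_surjective _ ((RelProj.gradedHomAt v hvg U hU).map_mem ha) z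
    obtain ⟨c', hc', he⟩ := hs U hU ((m + 1) • d) (by rw [smul_eq_mul]; positivity)
      (c * RelProj.gradedHomAt v hvg U hU a) (by
        rw [succ_nsmul]
        exact SetLike.mul_mem_graded hc ((RelProj.gradedHomAt v hvg U hU).map_mem ha))
    refine ⟨HomogeneousLocalization.Away.mk _ ha (m + 1) c' hc', HomogeneousLocalization.val_injective _ ?_⟩
    show (HomogeneousLocalization.Away.map (RelProj.gradedHomAt v hvg U hU) a
      (HomogeneousLocalization.Away.mk _ ha (m + 1) c' hc')).val = _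
    rw [HomogeneousLocalization.Away.map_mk, HomogeneousLocalization.Away.val_mk, HomogeneousLocalization.Away.val_mk,
      he, Localization.mk_eq_mk_iff, Localization.r_iff_exists]
    refine ⟨1, ?_⟩
    simp only [OneMemClass.coe_one, one_mul]
    show RelProj.gradedHomAt v hvg U hU a ^ m * (c * RelProj.gradedHomAt v hvg U hU a) =
      RelProj.gradedHomAt v hvg U hU a ^ (m + 1) * c
    ring
  haveI : IsImmersion (RelProjLib.Colim.inclDom v hvg u u' (fun U => rfl) pL (chartL := chartL)) := inferInstance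
  haveI : IsImmersion b := by
    haveI : IsImmersion (b ≫ (RelProj.domQ (RelProj.QGrHom.ofHom v hvg) p chart).ι) := by rw [hb]; infer_instance
    exact IsImmersion.of_comp b (RelProj.domQ (RelProj.QGrHom.ofHom v hvg) p chart).ι
  haveI : IsImmersion rA := by rw [← hbr]; infer_instance
  haveI := isIso_ι_of_eq_top htop
  haveI : IsImmersion k := by
    have : k = inv pL ≫ inv (RelProj.domQ u' pL chartL).ι ≫ rA := by
      rw [hrk, IsIso.inv_hom_id_assoc, IsIso.inv_hom_id_assoc]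
    rw [this]
    infer_instance
  obtain ⟨hrq, τ, -⟩ := D.exists_iso_of_compat
    (((Scheme.Modules.pullbackPushforwardAdjunction f).homEquiv _ _).symm σ) (r := k)
    (by simpa only [sigma, Equiv.apply_symm_apply] using hk)
  exact isRelVeryAmple_of_pdata D k hrq τ.symm

end Groth.Agent.ProjBundleLib
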