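import Groth.Agent.ProjBundleLib.QMapCanon
import Groth.Agent.ProjBundleLib.GenDegOne
import Groth.Agent.RelProjLib.RLocAmple
import Groth.Agent.RelProjLib.RLpsiLimImm
import Groth.Agent.RelProjLib.OfHom

import Groth.Agent.ProjBundleLib.QMapVA

/-! Degree-one parts of graded maps to the symmetric algebra of an invertible module. -/

set_option autoImplicit false
set_option linter.style.haveILetI false
set_option linter.unusedSectionVars false
set_option backward.isDefEq.respectTransparency false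

universe u

open CategoryTheory CategoryTheory.Limits AlgebraicGeometry TopologicalSpace Opposite
open Groth.Agent.ParaFLib Groth.Agent.RelSpecLib Groth.Agent.RelProjLib

noncomputable section

namespace Groth.Agent.ProjBundleLib

variable {X Y : Scheme.{u}} {L : X.Modules} [Coh.IsQCoh L] {T : RelProj.QCGrAlg X} {jL : L ⟶ T.toModule}
  (hjL : RelProj.IsGrSymAlg L T jL) (hL : PicF.IsInvertible L) {f : X ⟶ Y} {E : Y.Modules}
  {𝒜 : RelProj.QCGrAlg Y} {jE : E ⟶ 𝒜.toModule} (hjE : RelProj.IsGrSymAlg E 𝒜 jE) (u : RelProj.QGrHom f 𝒜 T)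

include hjL hL hjE in
/-- The degree-one component of a graded map to the symmetric algebra of an invertible module. -/
theorem exists_gens_sigma : ∃ σ : E ⟶ (Scheme.Modules.pushforward f).obj L,
    ∀ (U : Y.Opens) (x : Γ(E, U)), (u.app U).hom ((jE.app U) x) = (jL.app (f ⁻¹ᵁ U)) (σ.app U x) := by
  classical
  let u₁ := jE
  let ev : ∀ (U : Y.Opens), Γ(E, U) →+ T.presheaf.obj (op (f ⁻¹ᵁ U)) := fun U =>
    (u.app U).hom.toAddMonoidHom.comp (u₁.app U).hom
  have hev : ∀ (U : Y.Opens) (hU : IsAffineOpen U) (e : Γ(E, U)), HomSec (ev U e) 1 := fun U hU e W hW h =>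
    u.map_mem U hU W hW h (hjE.2 U hU e)
  choose g hg using fun (U : Y.AffineZariskiSite) (e : Γ(E, U.1)) =>
    (bijOn_jsec hjL hL (f ⁻¹ᵁ U.1)).2 _ (hev U.1 U.2 e)
  have hginj := fun (O : X.Opens) => (bijOn_jsec hjL hL O).1
  have hnat : ∀ {U V : Y.Opens} (i : V ≤ U) (a : 𝒜.presheaf.obj (op U)),
      (T.presheaf.map (homOfLE (f.preimage_mono i)).op).hom ((u.app U).hom a) =
        (u.app V).hom ((𝒜.presheaf.map (homOfLE i).op).hom a) := fun i a =>
    congr(($(u.naturality i)).hom a)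
  have hu₁nat : ∀ {U V : Y.Opens} (i : V ≤ U) (e : Γ(E, U)),
      (𝒜.presheaf.map (homOfLE i).op).hom ((u₁.app U) e) = (u₁.app V) (E.presheaf.map (homOfLE i).op e) :=
    fun i e => res_jsec 𝒜.toQCAlg jE i e
  obtain ⟨σ, hσ⟩ := exists_hom_of_affine (E := E) (N := (Scheme.Modules.pushforward f).obj L)
    (fun U => AddMonoidHom.mk' (g U) fun a b => hginj _ (by
      show jsec T.toQCAlg jL (g U (a + b)) = (jL.app (f ⁻¹ᵁ U.1)) (g U a + g U b)
      rw [map_add, hg U (a + b), map_add]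
      exact congrArg₂ (· + ·) (hg U a).symm (hg U b).symm))
    (fun U hU r e => hginj _ (by
      show jsec T.toQCAlg jL (L.presheaf.map (homOfLE (f.preimage_mono (Y.basicOpen_le r))).op (g ⟨U, hU⟩ e)) =
        jsec T.toQCAlg jL (g ⟨Y.basicOpen r, hU.basicOpen r⟩ _)
      rw [← res_jsec, hg, hg]
      refine (hnat (Y.basicOpen_le r) _).trans ?_
      exact congrArg (u.app _).hom (hu₁nat (Y.basicOpen_le r) e)))
    (fun U a e => hginj _ (by
      show jsec T.toQCAlg jL (g U (a • e)) = jsec T.toQCAlg jL (f.app U.1 a • g U e)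
      rw [jsec_smul, hg, hg]
      show (u.app U.1).hom (jsec 𝒜.toQCAlg jE (a • e)) = _ * (u.app U.1).hom (jsec 𝒜.toQCAlg jE e)
      rw [jsec_smul, map_mul]
      congr 1
      exact congr(($(u.str_app U.1)).hom a)))
  have haff : ∀ (U : Y.Opens), IsAffineOpen U → ∀ x : Γ(E, U),
      (u.app U).hom ((jE.app U) x) = (jL.app (f ⁻¹ᵁ U)) (σ.app U x) := fun U hU x => by
    rw [hσ U hU x]
    exact (hg ⟨U, hU⟩ x).symm
  refine ⟨σ, fun U x => ?_⟩
  have hex : ∀ y : U, ∃ (W : Y.Opens) (_ : IsAffineOpen W), y.1 ∈ W ∧ W ≤ U := fun y => by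
    obtain ⟨_, ⟨W, hW, rfl⟩, hyW, hle⟩ := Y.isBasis_affineOpens.exists_subset_of_mem_open y.2 U.2
    exact ⟨W, hW, hyW, hle⟩
  choose W hW hyW hle using hex
  refine TopCat.Sheaf.eq_of_locally_eq' ⟨T.presheaf, T.isSheaf⟩ (fun y => f ⁻¹ᵁ W y) (f ⁻¹ᵁ U)
    (fun y => homOfLE (f.preimage_mono (hle y))) (fun z hz => Opens.mem_iSup.2 ⟨⟨f z, hz⟩, hyW _⟩) _ _ fun y => ?_
  show (T.presheaf.map (homOfLE (f.preimage_mono (hle y))).op).hom ((u.app U).hom (jsec 𝒜.toQCAlg jE x)) =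
    (T.presheaf.map (homOfLE (f.preimage_mono (hle y))).op).hom (jsec T.toQCAlg jL (σ.app U x))
  rw [res_jsec]
  refine Eq.trans (congr(($(u.naturality (hle y))).hom (jsec 𝒜.toQCAlg jE x))) ?_
  show (u.app (W y)).hom ((𝒜.presheaf.map (homOfLE (hle y)).op).hom (jsec 𝒜.toQCAlg jE x)) = _
  rw [res_jsec]
  refine (haff (W y) (hW y) _).trans (congrArg (jsec T.toQCAlg jL) ?_)
  exact ConcreteCategory.congr_hom (σ.mapPresheaf.naturality (homOfLE (hle y)).op) x

variable {σ : E ⟶ (Scheme.Modules.pushforward f).obj L}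
  (hu : ∀ (U : Y.Opens) (x : Γ(E, U)), (u.app U).hom ((jE.app U) x) = (jL.app (f ⁻¹ᵁ U)) (σ.app U x))

include hjL hL hu in
/-- Generation of the degree-one part gives generators. -/
theorem gens_of_span (hspan : ∀ x : X, ∃ (U : Y.Opens) (hU : IsAffineOpen U) (e : Γ(E, U)) (V : X.Opens) (hV : IsAffineOpen V)
      (hVU : V ≤ f ⁻¹ᵁ U), x ∈ V ∧ ((T.deg V hV 1 : AddSubgroup (T.presheaf.obj (op V))) : Set (T.presheaf.obj (op V))) ⊆
        (Ideal.span {(u.appLE U V hVU).hom ((jE.app U) e)} : Set (T.presheaf.obj (op V)))) : Gens σ := fun x => by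
  obtain ⟨U, hU, e', V₀, hV₀, hVU₀, hxV₀, hs⟩ := hspan x
  have hx : f x ∈ U := hVU₀ hxV₀
  have hxe : x ∈ nv ((u.app U).hom ((jE.app U) e')) 1 := Opens.mem_iSup.2 ⟨⟨⟨V₀, hV₀⟩, hVU₀, hs⟩, hxV₀⟩
  refine ⟨U, hx, e', ?_⟩
  obtain ⟨V, hV, ε, hxV, hVU, hε⟩ := exists_triv x hL (O := f ⁻¹ᵁ U) hx
  obtain ⟨c, hc⟩ := (hε V le_rfl).2 (L.presheaf.map (homOfLE hVU).op (σ.app U e'))
  simp only [ParaFLib.res_self] at hc
  have hsec : jsec T.toQCAlg jL (σ.app U e') = (u.app U).hom ((jE.app U) e') :=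
    (hu U e').symm
  have hcoef : (T.str.app (op V)).hom c * (gen₁ hV hjL ε).1 ^ 1 = rz ((u.app U).hom ((jE.app U) e')) V hVU := by
    rw [pow_one]
    refine (jsec_smul T.toQCAlg jL c ε).symm.trans ?_
    rw [hc, ← res_jsec, hsec]
  have hxc := (mem_nv_iff ((u.app U).hom ((jE.app U) e')) 1 hjL hV hVU hε hcoef hxV).1 hxe
  have hgerm : germφ σ x hx e' = X.presheaf.germ V x hxV c • L.presheaf.germ V x hxV ε := by
    show L.presheaf.germ (f ⁻¹ᵁ U) x hx (σ.app U e') = _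
    rw [← germ_smul' x hxV, hc, TopCat.Presheaf.germ_res_apply]
  rw [hgerm]
  exact (AmpleLib.bijective_smul_iff (hε.bijective_germ x hxV) _).2 ((X.mem_basicOpen c x hxV).1 hxc)

include hjL hL hjE hu in
/-- Generators generate the degree-one part locally. -/
theorem span_of_gens (hE : Coh.IsQCoh E) (hG : Gens σ) (x : X) :
    ∃ (U : Y.Opens) (hU : IsAffineOpen U) (e : Γ(E, U)) (V : X.Opens) (hV : IsAffineOpen V)
      (hVU : V ≤ f ⁻¹ᵁ U), x ∈ V ∧ ((T.deg V hV 1 : AddSubgroup (T.presheaf.obj (op V))) : Set (T.presheaf.obj (op V))) ⊆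
        (Ideal.span {(u.appLE U V hVU).hom ((jE.app U) e)} : Set (T.presheaf.obj (op V))) := by
  obtain ⟨_, ⟨U, hU, rfl⟩, hxU, -⟩ :=
    Y.isBasis_affineOpens.exists_subset_of_mem_open (Set.mem_univ (f x)) isOpen_univ
  obtain ⟨e, he⟩ := hG.affine hE hL x U hU hxU
  obtain ⟨W₀, ε₀, hxW₀, hε₀⟩ := Groth.Agent.ParaFLib.exists_gen_nhd hL x
  obtain ⟨_, ⟨W, hW, rfl⟩, hxW, hWle⟩ :=
    X.isBasis_affineOpens.exists_subset_of_mem_open (show x ∈ f ⁻¹ᵁ U ⊓ W₀ from ⟨hxU, hxW₀⟩) (f ⁻¹ᵁ U ⊓ W₀).2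
  have hWU : W ≤ f ⁻¹ᵁ U := hWle.trans (fun _ h => h.1)
  have hW0 : W ≤ W₀ := hWle.trans (fun _ h => h.2)
  have hε := hε₀.res hW0
  obtain ⟨d, hd⟩ := (Groth.Agent.RelSpecLib.bijective_smul_of_gen hε).2 (L.presheaf.map (homOfLE hWU).op (σ.app U e))
  have hud : IsUnit (X.presheaf.germ W x hxW d) := by
    rw [← Groth.Agent.AmpleLib.bijective_smul_iff (hε.bijective_germ x hxW)]
    have h1 : germφ σ x hxU e = X.presheaf.germ W x hxW d •
        L.presheaf.germ W x hxW (L.presheaf.map (homOfLE hW0).op ε₀) := by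
      refine Eq.trans ?_ (Groth.Agent.ParaFLib.germ_smul' x hxW _ _)
      refine Eq.trans ?_ (congrArg (L.presheaf.germ W x hxW) hd.symm)
      exact (TopCat.Presheaf.germ_res_apply L.presheaf (homOfLE hWU) x hxW _).symm
    rw [← h1]
    exact he
  let Q := X.basicOpen d
  have hQ : IsAffineOpen Q := hW.basicOpen d
  have hQW : Q ≤ W := X.basicOpen_le d
  have hgen := (hε.res hQW).smul (RingedSpace.isUnit_res_basicOpen X.toRingedSpace d)
  refine ⟨U, hU, e, Q, hQ, hQW.trans hWU, (Scheme.mem_basicOpen _ d x hxW).2 hud, fun a ha => ?_⟩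
  obtain ⟨c, hc, -⟩ := Groth.Agent.RelSpecLib.existsUnique_coeff hQ hjL hgen ha
  rw [← hc, pow_one]
  refine Ideal.mul_mem_left _ _ (Ideal.subset_span ?_)
  show _ = (T.presheaf.map (homOfLE (hQW.trans hWU)).op).hom ((u.app U).hom ((jE.app U) e))
  rw [hu]
  refine Eq.trans ?_ (Groth.Agent.RelSpecLib.res_jsec T.toQCAlg jL (hQW.trans hWU) (σ.app U e)).symm
  refine congrArg (Groth.Agent.RelSpecLib.jsec T.toQCAlg jL) ?_
  rw [← Groth.Agent.ParaFLib.res_res hWU hQW, ← hd]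
  exact (L.map_smul (homOfLE hQW) d _).symm

end Groth.Agent.ProjBundleLib
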