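import Groth.Agent.ProjBundleLib.Quot
import Groth.Agent.ProjBundleLib.GrSym
import Groth.Agent.ProjTwistLib.Lift
import Groth.Agent.BCLib.TensorQCoh
import Groth.Agent.ProjBundleLib.VeryAmple
import Groth.Agent.PullbackMod.Sections
import Groth.Agent.AmpleLib.Pullback

/-! Morphisms given by tensor products of invertible quotients. -/

set_option autoImplicit false
set_option linter.style.haveILetI false
set_option backward.isDefEq.respectTransparency false

universe u

open CategoryTheory CategoryTheory.Limits AlgebraicGeometry TopologicalSpace Opposite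
open Groth.Agent.ParaFLib Groth.Agent.RelSpecLib Groth.Agent.PullbackMod Groth.Agent.DCohLib

noncomputable section

namespace Groth.Agent.ProjBundleLib

variable {Y P X : Scheme.{u}} {p : P ⟶ Y} {E : Y.Modules} {O1 : P.Modules}
  {φ : E ⟶ (Scheme.Modules.pushforward p).obj O1} {g : X ⟶ Y} {L L' : X.Modules} {E' : Y.Modules}

/-- An immersion may be checked on opens covering the image. -/
theorem isImmersion_of_cover {A B : Scheme.{u}} (f : A ⟶ B) {ι : Type u} (O : ι → B.Opens)
    (hO : ∀ a, ∃ i, f a ∈ O i) (h : ∀ i, IsImmersion (f ∣_ O i)) : IsImmersion f := by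
  let W := ⨆ i, O i
  have hW : Set.range f ⊆ Set.range W.ι := by
    rw [Scheme.Opens.range_ι]
    rintro _ ⟨a, rfl⟩
    exact Opens.mem_iSup.2 (hO a)
  let f' := IsOpenImmersion.lift W.ι f hW
  have hf : f' ≫ W.ι = f := IsOpenImmersion.lift_fac _ _ _
  haveI : IsImmersion f' := by
    refine (IsZariskiLocalAtTarget.iff_of_iSup_eq_top (P := @IsImmersion) (fun i => W.ι ⁻¹ᵁ O i) ?_).2 fun i => ?_
    · rw [← Scheme.Hom.preimage_iSup, ← le_rfl.antisymm (le_refl W)]
      exact Scheme.Opens.ι_preimage_self W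
    · haveI : IsImmersion ((f' ≫ W.ι) ∣_ O i) := by rw [hf]; exact h i
      haveI : IsImmersion ((f' ∣_ W.ι ⁻¹ᵁ O i) ≫ (W.ι ∣_ O i)) := by rw [← morphismRestrict_comp]; infer_instance
      exact IsImmersion.of_comp (f' ∣_ W.ι ⁻¹ᵁ O i) (W.ι ∣_ O i)
  rw [← hf]
  infer_instance

/-- The tensor product of two quotients. -/
def tensQ (σ : E ⟶ (Scheme.Modules.pushforward g).obj L) (σ' : E' ⟶ (Scheme.Modules.pushforward g).obj L') :
    tmod E E' ⟶ (Scheme.Modules.pushforward g).obj (tmod L L') :=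
  ProjTwistLib.Pairing.lift
    { f := fun U =>
        { toFun := fun e =>
            { toFun := fun e' => (pairS L L' (U := g ⁻¹ᵁ U) (σ.app U e) (σ'.app U e') : Γ(tmod L L', g ⁻¹ᵁ U))
              map_zero' := by
                show pairS L L' _ (σ'.app U 0) = 0
                rw [map_zero]
                refine add_self_eq_zero' ?_
                exact (pairS_add_right _ _ _).symm.trans (by rw [add_zero])
              map_add' := fun a b => by
                show pairS L L' _ (σ'.app U (a + b)) = pairS L L' _ _ + pairS L L' _ _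
                rw [map_add]
                exact pairS_add_right _ _ _ }
          map_zero' := AddMonoidHom.ext fun e' => by
            show pairS L L' (σ.app U 0) _ = 0
            rw [map_zero]
            refine add_self_eq_zero' ?_
            exact (pairS_add_left _ _ _).symm.trans (by rw [add_zero])
          map_add' := fun a b => AddMonoidHom.ext fun e' => by
            show pairS L L' (σ.app U (a + b)) _ = pairS L L' _ _ + pairS L L' _ _
            rw [map_add]
            exact pairS_add_left _ _ _ }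
      smul_left := fun U a e e' => by
        show pairS L L' (σ.app U (a • e)) _ = _
        erw [Scheme.Modules.Hom.app_smul σ a e]
        exact pairS_smul_left (g.app U a) _ _
      smul_right := fun U a e e' => by
        show pairS L L' _ (σ'.app U (a • e')) = _
        erw [Scheme.Modules.Hom.app_smul σ' a e']
        exact pairS_smul_right (g.app U a) _ _
      fres := fun {U V} h e e' => by
        show pairS L L' (σ.app V _) (σ'.app V _) = _
        erw [ConcreteCategory.congr_hom (σ.mapPresheaf.naturality (homOfLE h).op) e,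
          ConcreteCategory.congr_hom (σ'.mapPresheaf.naturality (homOfLE h).op) e']
        exact (res_pairS (g.preimage_mono h) _ _).symm }
where
  add_self_eq_zero' {G : Type u} [AddCommGroup G] {a : G} (h : a + a = a) : a = 0 := by simpa using h

theorem germφ_tensQ (σ : E ⟶ (Scheme.Modules.pushforward g).obj L) (σ' : E' ⟶ (Scheme.Modules.pushforward g).obj L')
    {W : Y.Opens} (x : X) (hx : g x ∈ W) (e : Γ(E, W)) (e' : Γ(E', W)) :
    germφ (tensQ σ σ') x hx (pairS E E' e e') =
      stalkTensor x L L' (germφ σ x hx e ⊗ₜ germφ σ' x hx e') := by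
  rw [germφ, tensQ, ProjTwistLib.Pairing.lift_pairS]
  exact AmpleLib.germ_pairS _ _ x hx

theorem Gens.tensQ {σ : E ⟶ (Scheme.Modules.pushforward g).obj L} {σ' : E' ⟶ (Scheme.Modules.pushforward g).obj L'}
    (h : Gens σ) (h' : Gens σ') : Gens (ProjBundleLib.tensQ σ σ') := fun x => by
  obtain ⟨W, hx, e, he⟩ := h x
  obtain ⟨W', hx', e', he'⟩ := h' x
  refine ⟨W ⊓ W', ⟨hx, hx'⟩,
    pairS E E' (E.presheaf.map (homOfLE inf_le_left).op e) (E'.presheaf.map (homOfLE inf_le_right).op e'), ?_⟩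
  rw [germφ_tensQ, germφ_res, germφ_res]
  exact AmpleLib.bijective_stalkTensor he he'

theorem bijective_of_stalkTensor {x : X} (hL : PicF.IsInvertible L) (hL' : PicF.IsInvertible L')
    {a : L.presheaf.stalk x} {b : L'.presheaf.stalk x}
    (h : Function.Bijective fun r : X.presheaf.stalk x => r • stalkTensor x L L' (a ⊗ₜ b)) :
    (Function.Bijective fun r : X.presheaf.stalk x => r • a) ∧
      Function.Bijective fun r : X.presheaf.stalk x => r • b := by
  obtain ⟨ε, hε⟩ := exists_stalk_gen hL x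
  obtain ⟨ε', hε'⟩ := exists_stalk_gen hL' x
  obtain ⟨i, rfl⟩ := hε.2 a
  obtain ⟨i', rfl⟩ := hε'.2 b
  have he : stalkTensor x L L' ((i • ε) ⊗ₜ (i' • ε')) = (i * i') • stalkTensor x L L' (ε ⊗ₜ ε') := by
    rw [TensorProduct.smul_tmul_smul, LinearEquiv.map_smul]
  rw [he, AmpleLib.bijective_smul_iff (AmpleLib.bijective_stalkTensor hε hε'), IsUnit.mul_iff] at h
  exact ⟨(AmpleLib.bijective_smul_iff hε i).2 h.1, (AmpleLib.bijective_smul_iff hε' i').2 h.2⟩

namespace PData

variable (D : PData p E O1 φ) {U : Y.Opens} (hU : IsAffineOpen U) (e₀ : Γ(E, U))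

theorem coord_unique {e : Γ(E, U)} {c : Γ(P, D.DPl hU e₀)} (h : D.sec hU e₀ e = c • D.sec hU e₀ e₀) :
    D.coord hU e₀ e = c := by
  have h4 := D.gen_sec hU e₀ _ le_rfl
  simp only [res_self] at h4
  exact h4.1 ((D.sec_eq hU e₀ e).symm.trans h)

theorem coord_self : D.coord hU e₀ e₀ = 1 := D.coord_unique hU e₀ (one_smul _ _).symm

theorem coord_add (e e' : Γ(E, U)) : D.coord hU e₀ (e + e') = D.coord hU e₀ e + D.coord hU e₀ e' :=
  D.coord_unique hU e₀ (by
    rw [add_smul, ← D.sec_eq hU e₀ e, ← D.sec_eq hU e₀ e']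
    exact (congrArg _ (map_add (φ.app U).hom e e')).trans (map_add _ _ _))

theorem coord_smul (r : Γ(Y, U)) (e : Γ(E, U)) :
    D.coord hU e₀ (r • e) = p.appLE U (D.DPl hU e₀) (D.DPl_le hU e₀) r * D.coord hU e₀ e :=
  D.coord_unique hU e₀ (by
    rw [mul_smul, ← D.sec_eq hU e₀ e]
    unfold sec
    erw [Scheme.Modules.Hom.app_smul φ r e]
    exact O1.map_smul (homOfLE (D.DPl_le hU e₀)) (p.app U r) _)

include D in
/-- The projection from a standard open of another bundle. -/
theorem exists_proj {P'' : Scheme.{u}} {p'' : P'' ⟶ Y} {E'' : Y.Modules} {O1'' : P''.Modules}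
    {φ'' : E'' ⟶ (Scheme.Modules.pushforward p'').obj O1''} (D'' : PData p'' E'' O1'' φ'')
    {L'' : X.Modules} {σ : E ⟶ (Scheme.Modules.pushforward g).obj L}
    {σ'' : E'' ⟶ (Scheme.Modules.pushforward g).obj L''} {r : X ⟶ P} {r'' : X ⟶ P''}
    (hr : Compat φ σ (𝟙 X) r) (hr'' : Compat φ'' σ'' (𝟙 X) r'') (te : Γ(E'', U))
    (μ : Γ(E, U) →+ Γ(E'', U)) (hμs : ∀ (a : Γ(Y, U)) (f : Γ(E, U)), μ (a • f) = a • μ f) (hμ : μ e₀ = te)
    (hgen : ∀ (x : X) (hx : g x ∈ U),
      (Function.Bijective fun c : X.presheaf.stalk x => c • germφ σ'' x hx te) →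
        Function.Bijective fun c : X.presheaf.stalk x => c • germφ σ x hx e₀)
    (hrel : ∀ (x : X) (hx : g x ∈ U) (f : Γ(E, U)) (lam : X.presheaf.stalk x),
      lam • germφ σ x hx e₀ = germφ σ x hx f → lam • germφ σ'' x hx te = germφ σ'' x hx (μ f)) :
    ∃ π : (D''.DPl hU te : Scheme.{u}) ⟶ P, π ≫ p = (D''.DPl hU te).ι ≫ p'' ∧
      (r'' ∣_ D''.DPl hU te) ≫ π = (r'' ⁻¹ᵁ D''.DPl hU te).ι ≫ r := by
  let O := D''.DPl hU te
  let V := r'' ⁻¹ᵁ O
  have hO : O ≤ p'' ⁻¹ᵁ U := D''.DPl_le hU te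
  let c : Γ(E, U) →+ Γ(P'', O) :=
    { toFun := fun f => D''.coord hU te (μ f)
      map_zero' := by
        have h := D''.coord_add hU te 0 0
        rw [add_zero] at h
        rw [map_zero]
        simpa using h
      map_add' := fun a b => by rw [map_add, coord_add] }
  obtain ⟨θ, hθ⟩ := D.exists_hom hU e₀ (p''.appLE U O hO).hom c
    (fun a f => by show D''.coord hU te _ = _; rw [hμs, coord_smul]; rfl)
    (by show D''.coord hU te _ = _; rw [hμ, coord_self])
  let A : Γ(P, D.DPl hU e₀) ⟶ Γ(P'', O) := CommRingCat.ofHom θ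
  refine ⟨O.toSpecΓ ≫ Spec.map A ≫ (D.isAffineOpen_DPl hU e₀).fromSpec, ?_, ?_⟩
  · rw [Category.assoc, Category.assoc,
      ← IsAffineOpen.SpecMap_appLE_fromSpec p hU (D.isAffineOpen_DPl hU e₀) (D.DPl_le hU e₀), ← Spec.map_comp_assoc,
      ι_comp_eq p'' hU hO]
    congr 3
    refine CommRingCat.hom_ext (RingHom.ext fun a => ?_)
    show θ (p.appLE U _ (D.DPl_le hU e₀) a) = p''.appLE U O hO a
    have h1 : p.appLE U _ (D.DPl_le hU e₀) a = D.coord hU e₀ (a • e₀) := by
      rw [coord_smul, coord_self, mul_one]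
    rw [h1, hθ]
    show D''.coord hU te (μ (a • e₀)) = _
    rw [hμs, hμ, coord_smul, coord_self, mul_one]
  · have hp : ∀ x, p'' (r'' x) = g x := fun x => congrArg (fun f => f x) (hr''.1.trans (Category.id_comp g))
    have hp' : ∀ x, p (r x) = g x := fun x => congrArg (fun f => f x) (hr.1.trans (Category.id_comp g))
    have hV : ∀ x ∈ V, ∃ hx : g x ∈ U, (Function.Bijective fun c : X.presheaf.stalk x => c • germφ σ x hx e₀) ∧
        (Function.Bijective fun c : X.presheaf.stalk x => c • germφ σ'' x hx te) ∧ r x ∈ D.DPl hU e₀ := fun x hx => by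
      have hxU : g x ∈ U := hp x ▸ hO hx
      have hb : Function.Bijective fun c : X.presheaf.stalk x => c • germφ σ'' x hxU te :=
        (hr''.2 U te x (hO hx) hxU).1.1 (D''.bijective_germφ hU te hx)
      have hb' := hgen x hxU hb
      have hyU : p (r x) ∈ U := (hp' x).symm ▸ hxU
      exact ⟨hxU, hb', hb, (D.mem_DPl_iff hU e₀ hyU).2 ((hr.2 U e₀ x hyU hxU).1.2 hb')⟩
    have hle : V ≤ r ⁻¹ᵁ D.DPl hU e₀ := fun x hx => (hV x hx).2.2.2
    rw [ι_comp_eq r (D.isAffineOpen_DPl hU e₀) hle, ← reassoc_of% (Scheme.Opens.toSpecΓ_naturality r'' O), ← Spec.map_comp_assoc]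
    congr 3
    refine CommRingCat.hom_ext (RingHom.eq_of_eqOn_set_dense (D.closure_coord hU e₀) (Set.eqOn_range.2 (funext fun f => ?_)))
    show r''.app O (θ (D.coord hU e₀ f)) = r.appLE (D.DPl hU e₀) V hle (D.coord hU e₀ f)
    rw [hθ]
    refine TopCat.Presheaf.section_ext X.sheaf V _ _ fun x hx => ?_
    obtain ⟨hxU, hb', hb, hrx⟩ := hV x hx
    obtain ⟨lam, hlam⟩ := hb'.2 (germφ σ x hxU f)
    have e1 := (hr''.2 U te x (hO hx) hxU).2 (μ f) _ lam hb (D''.germφ_eq hU te (μ f) hx).symm (hrel x hxU f lam hlam)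
    have e2 := (hr.2 U e₀ x (D.DPl_le hU e₀ hrx) hxU).2 f _ lam hb' (D.germφ_eq hU e₀ f hrx).symm hlam
    rw [germ_stalkMap_congr r hle x hx] at e2
    rw [germ_stalkMap_congr r'' (le_refl V) x hx, Scheme.Hom.appLE_eq_app] at e1
    exact e1.trans e2.symm

end PData

/-- The Segre morphism restricted to an immersed scheme. -/
theorem isImmersion_of_tensQ (D : PData p E O1 φ) {P' : Scheme.{u}} {p' : P' ⟶ Y} {O1' : P'.Modules}
    {φ' : E' ⟶ (Scheme.Modules.pushforward p').obj O1'} (D' : PData p' E' O1' φ')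
    {P'' : Scheme.{u}} {p'' : P'' ⟶ Y} {O1'' : P''.Modules}
    {φ'' : tmod E E' ⟶ (Scheme.Modules.pushforward p'').obj O1''} (D'' : PData p'' (tmod E E') O1'' φ'')
    (hL : PicF.IsInvertible L) (hL' : PicF.IsInvertible L') {σ : E ⟶ (Scheme.Modules.pushforward g).obj L}
    {σ' : E' ⟶ (Scheme.Modules.pushforward g).obj L'} (hσ : Gens σ) (hσ' : Gens σ') {r : X ⟶ P} {r' : X ⟶ P'}
    {r'' : X ⟶ P''} (hr : Compat φ σ (𝟙 X) r) (hr' : Compat φ' σ' (𝟙 X) r')
    (hr'' : Compat φ'' (tensQ σ σ') (𝟙 X) r'') (w : r ≫ p = r' ≫ p') [IsImmersion (pullback.lift r r' w)] :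
    IsImmersion r'' := by
  refine isImmersion_of_cover r'' (fun q : Σ U : Y.affineOpens, Γ(E, U.1) × Γ(E', U.1) =>
    D''.DPl q.1.2 (pairS E E' q.2.1 q.2.2)) (fun x => ?_) fun q => ?_
  · obtain ⟨_, ⟨U, hU, rfl⟩, hxU, -⟩ :=
      Y.isBasis_affineOpens.exists_subset_of_mem_open (Set.mem_univ (g x)) isOpen_univ
    obtain ⟨e, he⟩ := hσ.affine D.hE hL x U hU hxU
    obtain ⟨e', he'⟩ := hσ'.affine D'.hE hL' x U hU hxU
    have hp : p'' (r'' x) = g x := congrArg (fun f => f x) (hr''.1.trans (Category.id_comp g))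
    have hy : p'' (r'' x) ∈ U := hp.symm ▸ hxU
    refine ⟨⟨⟨U, hU⟩, e, e'⟩, (D''.mem_DPl_iff hU _ hy).2 ((hr''.2 U (pairS E E' e e') x hy hxU).1.2 ?_)⟩
    show Function.Bijective fun c : X.presheaf.stalk x => c • germφ (tensQ σ σ') x hxU _
    rw [germφ_tensQ]
    exact AmpleLib.bijective_stalkTensor he he'
  · obtain ⟨⟨U, hU⟩, e, e'⟩ := q
    let te := pairS E E' e e'
    let O := D''.DPl hU te
    have hgen : ∀ (x : X) (hx : g x ∈ U), (Function.Bijective fun c : X.presheaf.stalk x => c • germφ (tensQ σ σ') x hx te) →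
        (Function.Bijective fun c : X.presheaf.stalk x => c • germφ σ x hx e) ∧
          Function.Bijective fun c : X.presheaf.stalk x => c • germφ σ' x hx e' := fun x hx h => by
      rw [germφ_tensQ] at h
      exact bijective_of_stalkTensor hL hL' h
    obtain ⟨π, hπ, hπr⟩ := D.exists_proj hU e D'' hr hr'' te
      { toFun := fun f => pairS E E' f e'
        map_zero' := by
          have h := pairS_add_left (M := E) (N := E') (0 : Γ(E, U)) 0 e'
          rw [add_zero] at h
          simpa using h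
        map_add' := fun a b => pairS_add_left a b e' }
      (fun a f => pairS_smul_left a f e') rfl (fun x hx h => (hgen x hx h).1)
      (fun x hx f lam h => by
        show _ • _ = germφ (tensQ σ σ') x hx (pairS E E' f e')
        rw [germφ_tensQ, germφ_tensQ, ← h, ← TensorProduct.smul_tmul', LinearEquiv.map_smul])
    obtain ⟨π', hπ', hπr'⟩ := D'.exists_proj hU e' D'' hr' hr'' te
      { toFun := fun f => pairS E E' e f
        map_zero' := by
          have h := pairS_add_right (M := E) (N := E') e (0 : Γ(E', U)) 0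
          rw [add_zero] at h
          simpa using h
        map_add' := fun a b => pairS_add_right e a b }
      (fun a f => pairS_smul_right a e f) rfl (fun x hx h => (hgen x hx h).2)
      (fun x hx f lam h => by
        show _ • _ = germφ (tensQ σ σ') x hx (pairS E E' e f)
        rw [germφ_tensQ, germφ_tensQ, ← h, TensorProduct.tmul_smul, LinearEquiv.map_smul])
    show IsImmersion (r'' ∣_ O)
    haveI : IsImmersion ((r'' ∣_ O) ≫ pullback.lift π π' (hπ.trans hπ'.symm)) := by
      have he : (r'' ∣_ O) ≫ pullback.lift π π' (hπ.trans hπ'.symm) = (r'' ⁻¹ᵁ O).ι ≫ pullback.lift r r' w := by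
        apply pullback.hom_ext
        · simp only [Category.assoc, pullback.lift_fst]; exact hπr
        · simp only [Category.assoc, pullback.lift_snd]; exact hπr'
      rw [he]
      infer_instance
    exact IsImmersion.of_comp (r'' ∣_ O) (pullback.lift π π' (hπ.trans hπ'.symm))

/-- Two morphisms to bundles jointly immersing give a very ample tensor product. -/
theorem isRelVeryAmple_tensor (D : PData p E O1 φ) {P' : Scheme.{u}} {p' : P' ⟶ Y} {O1' : P'.Modules}
    {φ' : E' ⟶ (Scheme.Modules.pushforward p').obj O1'} (D' : PData p' E' O1' φ')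
    {r : X ⟶ P} {r' : X ⟶ P'} (hr : r ≫ p = g) (hr' : r' ≫ p' = g)
    [IsImmersion (pullback.lift r r' (hr.trans hr'.symm))] (e : L ≅ (Scheme.Modules.pullback r).obj O1)
    (e' : L' ≅ (Scheme.Modules.pullback r').obj O1') : RelProj.IsRelVeryAmple g (CohB1.tensorMod L L') := by
  haveI := D.hE
  haveI := D'.hE
  obtain ⟨P'', p'', O1'', φ'', ⟨D''⟩⟩ := exists_bundle (BCLib.isQCoh_tmod E E')
  have hL := AmpleLib.isInvertible_pullback r D.isInvertible_O1
  have hL' := AmpleLib.isInvertible_pullback r' D'.isInvertible_O1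
  have hG := (D.gens_taut hr).tensQ (D'.gens_taut hr')
  obtain ⟨r'', h'', -⟩ := D''.existsUnique_compat_of_gens (AmpleLib.isInvertible_tensor hL hL') hG
  haveI := isImmersion_of_tensQ D D' D'' hL hL' (D.gens_taut hr) (D'.gens_taut hr')
    (D.compat_taut hr) (D'.compat_taut hr') h'' (hr.trans hr'.symm)
  obtain ⟨hr2, τ, -⟩ := D''.exists_iso_of_compat
    (((Scheme.Modules.pullbackPushforwardAdjunction g).homEquiv _ _).symm (tensQ (D.taut hr) (D'.taut hr'))) (r := r'')
    (by simpa only [sigma, Equiv.apply_symm_apply] using h'')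
  exact isRelVeryAmple_of_pdata D'' r'' hr2 (AmpleLib.tIso e e' ≪≫ τ.symm)

end Groth.Agent.ProjBundleLib

namespace Groth.Agent.ProjBundleLib

variable {X Y : Scheme.{u}} {q : X ⟶ Y} {L L' : X.Modules}

/-- Tensoring with a quotient of an inverse image keeps relative very ampleness. -/
theorem isRelVeryAmple_tensor_of_epi (hva : RelProj.IsRelVeryAmple q L) (hL' : PicF.IsInvertible L')
    {E' : Y.Modules} (hE' : Coh.IsQCoh E') (s : (Scheme.Modules.pullback q).obj E' ⟶ L') [Epi s] :
    RelProj.IsRelVeryAmple q (CohB1.tensorMod L L') := by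
  obtain ⟨E, P, p, O1, φ, D, i, hi, hip, ⟨e⟩⟩ := exists_pdata hva
  obtain ⟨P', p', O1', φ', ⟨D'⟩⟩ := exists_bundle hE'
  obtain ⟨r', ⟨hr', τ, -⟩, -⟩ := D'.existsUnique_factor hL' s
  haveI : IsImmersion (pullback.lift i r' (hip.trans hr'.symm) ≫ pullback.fst p p') := by
    rw [pullback.lift_fst]; exact hi
  haveI := IsImmersion.of_comp (pullback.lift i r' (hip.trans hr'.symm)) (pullback.fst p p')
  exact isRelVeryAmple_tensor D D' hip hr' e τ.symm

theorem isRelVeryAmple_of_iso {M : X.Modules} (e : M ≅ L) (hva : RelProj.IsRelVeryAmple q L) :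
    RelProj.IsRelVeryAmple q M := by
  obtain ⟨E, P, p, O1, φ, D, i, hi, hip, ⟨e'⟩⟩ := exists_pdata hva
  exact isRelVeryAmple_of_pdata D i hip (e ≪≫ e')

theorem isRelVeryAmple_tensor_va (hL' : PicF.IsInvertible L') (hva : RelProj.IsRelVeryAmple q L)
    (hva' : RelProj.IsRelVeryAmple q L') : RelProj.IsRelVeryAmple q (CohB1.tensorMod L L') := by
  obtain ⟨E', hE', s, hs⟩ := exists_epi_of_isRelVeryAmple hva'
  exact isRelVeryAmple_tensor_of_epi hva hL' hE' s

theorem isRelVeryAmple_tensorPow (hL : PicF.IsInvertible L) (hva : RelProj.IsRelVeryAmple q L) :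
    ∀ n, RelProj.IsRelVeryAmple q (CohB1.tensorPow L (n + 1))
  | 0 => isRelVeryAmple_of_iso (AmpleLib.powOne L) hva
  | n + 1 => isRelVeryAmple_tensor_va hL (isRelVeryAmple_tensorPow hL hva n) hva

/-- An invertible module is very ample for the identity. -/
theorem isRelVeryAmple_id (hL : PicF.IsInvertible L) : RelProj.IsRelVeryAmple (𝟙 X) L := by
  obtain ⟨P, p, O1, φ, ⟨D⟩⟩ := exists_bundle (InvExt.isQCoh_of_isInvertible hL)
  obtain ⟨r, ⟨hr, τ, -⟩, -⟩ := D.existsUnique_factor hL ((Scheme.Modules.pullbackId X).hom.app L)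
  haveI : IsImmersion (r ≫ p) := by rw [hr]; infer_instance
  haveI := IsImmersion.of_comp r p
  exact isRelVeryAmple_of_pdata D r hr τ.symm

theorem isRelVeryAmple_tensor_pullback (hva : RelProj.IsRelVeryAmple q L) {K : Y.Modules} (hK : PicF.IsInvertible K) :
    RelProj.IsRelVeryAmple q (CohB1.tensorMod L ((Scheme.Modules.pullback q).obj K)) :=
  isRelVeryAmple_tensor_of_epi hva (AmpleLib.isInvertible_pullback q hK) (InvExt.isQCoh_of_isInvertible hK) (𝟙 _)

/-- Base change. -/
theorem isRelVeryAmple_baseChange {X' Y' : Scheme.{u}} {g : Y' ⟶ Y} {g' : X' ⟶ X} {f' : X' ⟶ Y'}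
    (hsq : IsPullback g' f' q g) (hva : RelProj.IsRelVeryAmple q L) :
    RelProj.IsRelVeryAmple f' ((Scheme.Modules.pullback g').obj L) := by
  obtain ⟨E, P, p, O1, φ, D, i, hi, hip, ⟨e⟩⟩ := exists_pdata hva
  haveI := D.hE
  obtain ⟨P', p', O1', φ', ⟨D'⟩⟩ := exists_bundle (PullbackMod.isQCoh_pullback g E)
  obtain ⟨k, hk, -⟩ := D.existsUnique_compat_of_gens D'.isInvertible_O1 (D'.gens.down g D.hE)
  obtain ⟨hkp, τ, -⟩ := D.exists_iso_of_compat
    (((Scheme.Modules.pullbackPushforwardAdjunction (p' ≫ g)).homEquiv E _).symm (down g φ')) (r := k)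
    (by simpa only [sigma, Equiv.apply_symm_apply] using hk)
  obtain ⟨i', ⟨h1, h2⟩, -⟩ := exists_lift g D' hk D (g' ≫ i) f' (by rw [Category.assoc, hip, hsq.w])
  have hP : IsPullback k p' p g := by
    choose c hc huniq using fun s : PullbackCone p g => exists_lift g D' hk D s.fst s.snd s.condition
    exact IsPullback.of_isLimit' ⟨hkp⟩ (PullbackCone.IsLimit.mk hkp c (fun s => (hc s).1) (fun s => (hc s).2)
      fun s m a b => huniq s m ⟨a, b⟩)
  have hsq' : IsPullback g' i' i k := IsPullback.of_bot (by rw [hip, h2]; exact hsq) h1.symm hP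
  haveI : IsImmersion i' := MorphismProperty.of_isPullback hsq' hi
  exact isRelVeryAmple_of_pdata D' i' h2
    ((Scheme.Modules.pullback g').mapIso e ≪≫ ((Scheme.Modules.pullbackComp g' i).app O1) ≪≫
      (Scheme.Modules.pullbackCongr h1.symm).app O1 ≪≫ ((Scheme.Modules.pullbackComp i' k).app O1).symm ≪≫
      (Scheme.Modules.pullback i').mapIso τ)

/-- Very ampleness for a composite gives it for the first morphism. -/
theorem isRelVeryAmple_of_comp {Z : Scheme.{u}} (f : X ⟶ Y) (g : Y ⟶ Z)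
    (hva : RelProj.IsRelVeryAmple (f ≫ g) L) : RelProj.IsRelVeryAmple f L := by
  obtain ⟨E, P, p, O1, φ, D, i, hi, hip, ⟨e⟩⟩ := exists_pdata hva
  haveI := D.hE
  obtain ⟨P', p', O1', φ', ⟨D'⟩⟩ := exists_bundle (PullbackMod.isQCoh_pullback g E)
  obtain ⟨k, hk, -⟩ := D.existsUnique_compat_of_gens D'.isInvertible_O1 (D'.gens.down g D.hE)
  obtain ⟨hkp, τ, -⟩ := D.exists_iso_of_compat
    (((Scheme.Modules.pullbackPushforwardAdjunction (p' ≫ g)).homEquiv E _).symm (down g φ')) (r := k)
    (by simpa only [sigma, Equiv.apply_symm_apply] using hk)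
  obtain ⟨i', ⟨h1, h2⟩, -⟩ := exists_lift g D' hk D i f hip
  haveI : IsImmersion (i' ≫ k) := by rw [h1]; exact hi
  haveI := IsImmersion.of_comp i' k
  exact isRelVeryAmple_of_pdata D' i' h2
    (e ≪≫ (Scheme.Modules.pullbackCongr h1.symm).app O1 ≪≫ ((Scheme.Modules.pullbackComp i' k).app O1).symm ≪≫
      (Scheme.Modules.pullback i').mapIso τ)

/-- Very ampleness only depends on the immersion up to an open subscheme. -/
theorem isRelVeryAmple_precomp {X' : Scheme.{u}} (f : X' ⟶ X) [IsImmersion f] (hva : RelProj.IsRelVeryAmple q L) :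
    RelProj.IsRelVeryAmple (f ≫ q) ((Scheme.Modules.pullback f).obj L) := by
  obtain ⟨E, P, p, O1, φ, D, i, hi, hip, ⟨e⟩⟩ := exists_pdata hva
  exact isRelVeryAmple_of_pdata D (f ≫ i) (by rw [Category.assoc, hip])
    ((Scheme.Modules.pullback f).mapIso e ≪≫ (Scheme.Modules.pullbackComp f i).app O1)

/-- External tensor products. -/
theorem isRelVeryAmple_external {Z₁ Z₂ : Scheme.{u}} {f₁ : Z₁ ⟶ Y} {f₂ : Z₂ ⟶ Y} {a : X ⟶ Z₁} {b : X ⟶ Z₂}
    (hsq : IsPullback a b f₁ f₂) (hq : a ≫ f₁ = q) {L₁ : Z₁.Modules} {L₂ : Z₂.Modules}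
    (h₁ : RelProj.IsRelVeryAmple f₁ L₁) (h₂ : RelProj.IsRelVeryAmple f₂ L₂) :
    RelProj.IsRelVeryAmple q
      (CohB1.tensorMod ((Scheme.Modules.pullback a).obj L₁) ((Scheme.Modules.pullback b).obj L₂)) := by
  obtain ⟨E, P, p, O1, φ, D, i, hi, hip, ⟨e⟩⟩ := exists_pdata h₁
  obtain ⟨E', P', p', O1', φ', D', i', hi', hip', ⟨e'⟩⟩ := exists_pdata h₂
  have hr : (a ≫ i) ≫ p = q := by rw [Category.assoc, hip, hq]
  have hr' : (b ≫ i') ≫ p' = q := by rw [Category.assoc, hip', ← hsq.w, hq]
  haveI : IsImmersion (pullback.lift (a ≫ i) (b ≫ i') (hr.trans hr'.symm)) := by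
    have : pullback.lift (a ≫ i) (b ≫ i') (hr.trans hr'.symm) = hsq.isoPullback.hom ≫
        pullback.map f₁ f₂ p p' i i' (𝟙 Y) (by simp [hip]) (by simp [hip']) := by
      apply pullback.hom_ext <;> simp
    rw [this]
    haveI : IsImmersion (pullback.map f₁ f₂ p p' i i' (𝟙 Y) (by simp [hip]) (by simp [hip'])) :=
      MorphismProperty.pullbackMap hi hi' hip.symm hip'.symm
    infer_instance
  exact isRelVeryAmple_tensor D D' hr hr'
    ((Scheme.Modules.pullback a).mapIso e ≪≫ (Scheme.Modules.pullbackComp a i).app O1)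
    ((Scheme.Modules.pullback b).mapIso e' ≪≫ (Scheme.Modules.pullbackComp b i').app O1')

end Groth.Agent.ProjBundleLib
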