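import Groth.Agent.ProjBundleLib.Rel

/-! The universal property of the projective bundle. -/

set_option autoImplicit false
set_option linter.style.haveILetI false
set_option backward.isDefEq.respectTransparency false

universe u

open CategoryTheory CategoryTheory.Limits AlgebraicGeometry TopologicalSpace Opposite
open Groth.Agent.ParaFLib Groth.Agent.RelSpecLib Groth.Agent.PullbackMod

noncomputable section

namespace Groth.Agent.ProjBundleLib

variable {Y P X : Scheme.{u}} {p : P ⟶ Y} {E : Y.Modules} {O1 : P.Modules}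
  {φ : E ⟶ (Scheme.Modules.pushforward p).obj O1} {g : X ⟶ Y} {L : X.Modules}

/-- Every section of an inverse image is, in the stalk, a combination of sections of the module. -/
theorem stalk_induction (hE : Coh.IsQCoh E) {x : X} {U : Y.Opens} (hU : IsAffineOpen U) (hx : g x ∈ U)
    (motive : ((Scheme.Modules.pullback g).obj E).presheaf.stalk x → Prop) (h0 : motive 0)
    (hadd : ∀ a b, motive a → motive b → motive (a + b))
    (hsmul : ∀ (c : X.presheaf.stalk x) (e : Γ(E, U)),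
      motive (c • pullStalk g E x (E.presheaf.germ U (g x) hx e))) :
    ∀ z, motive z := by
  haveI := hE
  letI : Algebra (Y.presheaf.stalk (g x)) (X.presheaf.stalk x) := (g.stalkMap x).hom.toAlgebra
  letI := Module.compHom (((Scheme.Modules.pullback g).obj E).presheaf.stalk x) (g.stalkMap x).hom
  haveI : IsScalarTower (Y.presheaf.stalk (g x)) (X.presheaf.stalk x)
      (((Scheme.Modules.pullback g).obj E).presheaf.stalk x) := .of_algebraMap_smul fun _ _ => rfl
  have hbc : IsBaseChange (X.presheaf.stalk x) (pullStalkL g E x) := isBaseChange_pullStalkL g E x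
  have hsurj : ∀ m : E.presheaf.stalk (g x), ∃ (a : Y.presheaf.stalk (g x)) (e : Γ(E, U)),
      m = a • E.presheaf.germ U (g x) hx e := fun m => by
    obtain ⟨W, hW, m, rfl⟩ := TopCat.Presheaf.exists_germ_eq E.presheaf m
    obtain ⟨W', h, hh, r, e', hy, he⟩ := exists_mult ‹_› hU hx hW m
    refine ⟨Y.presheaf.germ W' (g x) hy r, e', ?_⟩
    rw [← TopCat.Presheaf.germ_res_apply E.presheaf (homOfLE h) (g x) hy m, he,
      germ_smul' (g x) hy, TopCat.Presheaf.germ_res_apply E.presheaf (homOfLE hh) (g x) hy e']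
  have hall : ∀ (z) (c : X.presheaf.stalk x), motive (c • z) := fun z => by
    induction z using hbc.inductionOn with
    | zero => intro c; rw [smul_zero]; exact h0
    | tmul m =>
      intro c
      obtain ⟨a, e, rfl⟩ := hsurj m
      show motive (c • pullStalk g E x _)
      rw [pullStalk_smul, ← mul_smul]
      exact hsmul _ e
    | smul s z ih => intro c; rw [← mul_smul]; exact ih _
    | add z z' ih ih' => intro c; rw [smul_add]; exact hadd _ _ (ih c) (ih' c)
  exact fun z => (one_smul (X.presheaf.stalk x) z) ▸ hall z 1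

/-- The quotient as a map into the direct image. -/
abbrev sigma (s : (Scheme.Modules.pullback g).obj E ⟶ L) : E ⟶ (Scheme.Modules.pushforward g).obj L :=
  (Scheme.Modules.pullbackPushforwardAdjunction g).homEquiv E L s

theorem stalkLin_germσ (s : (Scheme.Modules.pullback g).obj E ⟶ L) {W : Y.Opens} (x : X) (hx : g x ∈ W)
    (e : Γ(E, W)) :
    stalkLin s x (pullStalk g E x (E.presheaf.germ W (g x) hx e)) = germφ (sigma s) x hx e := by
  have := stalkLin_adjunct g (sigma s) x hx e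
  rwa [Equiv.symm_apply_apply] at this

theorem toSpecΓ_map_injective (W : X.Opens) {R : CommRingCat.{u}} {a b : R ⟶ Γ(X, W)}
    (h : W.toSpecΓ ≫ Spec.map a = W.toSpecΓ ≫ Spec.map b) : a = b := by
  have h' := congrArg (fun k => (Scheme.ΓSpecIso R).inv ≫ Scheme.Hom.appTop k) h
  simp only [Scheme.Hom.comp_appTop, ← Scheme.ΓSpecIso_inv_naturality_assoc, Scheme.Opens.toSpecΓ_appTop,
    Iso.inv_hom_id_assoc, cancel_mono] at h'
  exact h'

theorem ι_appLE_top (V : X.Opens) (h : (⊤ : (V : Scheme.{u}).Opens) ≤ V.ι ⁻¹ᵁ V) :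
    V.ι.appLE V ⊤ h = V.topIso.inv := by
  simp [Scheme.Opens.ι_appLE]
  rfl

theorem exists_gen_at (hE : Coh.IsQCoh E) (hL : PicF.IsInvertible L) (s : (Scheme.Modules.pullback g).obj E ⟶ L)
    [Epi s] (x : X) (U : Y.Opens) (hU : IsAffineOpen U) (hx : g x ∈ U) :
    ∃ e : Γ(E, U), Function.Bijective fun c : X.presheaf.stalk x => c • germφ (sigma s) x hx e := by
  obtain ⟨ε, hε⟩ := exists_stalk_gen hL x
  by_contra hne
  push Not at hne
  have h1 : ∀ z, ∃ a ∈ IsLocalRing.maximalIdeal (X.presheaf.stalk x), stalkLin s x z = a • ε := by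
    refine stalk_induction hE hU hx _ ⟨0, Ideal.zero_mem _, by simp⟩ ?_ ?_
    · rintro a b ⟨i, hi, ha⟩ ⟨i', hi', hb⟩
      exact ⟨i + i', Ideal.add_mem _ hi hi', by rw [map_add, ha, hb, add_smul]⟩
    · intro c e
      obtain ⟨a, ha⟩ := hε.2 (germφ (sigma s) x hx e)
      refine ⟨c * a, Ideal.mul_mem_left _ _ ?_, ?_⟩
      · rw [IsLocalRing.mem_maximalIdeal]
        intro hu
        refine hne e ?_
        rw [← ha]
        exact (AmpleLib.bijective_smul_iff hε a).2 hu
      · rw [LinearMap.map_smul, stalkLin_germσ, ← ha, mul_smul]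
  obtain ⟨z, hz⟩ := (PullbackMod.epi_iff_stalk s).1 ‹_› x ε
  obtain ⟨a, ha, hza⟩ := h1 z
  rw [hz] at hza
  have : a = 1 := hε.1 (hza.symm.trans (one_smul _ ε).symm)
  rw [this] at ha
  exact (IsLocalRing.mem_maximalIdeal _).1 ha isUnit_one

variable (D : PData p E O1 φ)

include D in
/-- Locally there is a compatible morphism. -/
theorem exists_local (hL : PicF.IsInvertible L) (s : (Scheme.Modules.pullback g).obj E ⟶ L) [Epi s] (x : X) :
    ∃ (V : X.Opens) (k : (V : Scheme.{u}) ⟶ P), x ∈ V ∧ Compat φ (sigma s) V.ι k := by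
  obtain ⟨_, ⟨U, hU, rfl⟩, hxU, -⟩ :=
    Y.isBasis_affineOpens.exists_subset_of_mem_open (Set.mem_univ (g x)) isOpen_univ
  obtain ⟨e₀, he₀⟩ := exists_gen_at D.hE hL s x U hU hxU
  obtain ⟨W₀, ε, hxW₀, hε⟩ := exists_gen_nhd hL x
  let W₁ := W₀ ⊓ g ⁻¹ᵁ U
  have hε1 := hε.res (inf_le_left : W₁ ≤ W₀)
  let t₀ := L.presheaf.map (homOfLE (inf_le_right : W₁ ≤ g ⁻¹ᵁ U)).op ((sigma s).app U e₀)
  obtain ⟨a, ha⟩ := (hε1 W₁ le_rfl).2 t₀
  replace ha : a • L.presheaf.map (homOfLE (inf_le_left : W₁ ≤ W₀)).op ε = t₀ :=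
    (congrArg (a • ·) (ParaFLib.res_self le_rfl _)).symm.trans ha
  have hxW₁ : x ∈ W₁ := ⟨hxW₀, hxU⟩
  have hgerm : germφ (sigma s) x hxU e₀ =
      X.presheaf.germ W₁ x hxW₁ a • L.presheaf.germ W₁ x hxW₁ (L.presheaf.map (homOfLE inf_le_left).op ε) := by
    rw [← germ_smul' x hxW₁, ha]
    exact (TopCat.Presheaf.germ_res_apply L.presheaf (homOfLE (inf_le_right : W₁ ≤ g ⁻¹ᵁ U)) x hxW₁ _).symm
  rw [hgerm, AmpleLib.bijective_smul_iff (hε1.bijective_germ x hxW₁)] at he₀
  let V := X.basicOpen a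
  have hxV : x ∈ V := (Scheme.mem_basicOpen _ a x hxW₁).2 he₀
  have hVU : V ≤ g ⁻¹ᵁ U := (X.basicOpen_le a).trans inf_le_right
  let s₀ := L.presheaf.map (homOfLE hVU).op ((sigma s).app U e₀)
  have hs₀ : Gen V s₀ := by
    have h1 := (hε1.res (X.basicOpen_le a)).smul (RingedSpace.isUnit_res_basicOpen X.toRingedSpace a)
    erw [← L.map_smul, ha, ParaFLib.res_res] at h1
    exact h1
  have hcoef : ∀ e : Γ(E, U), ∃! c : Γ(X, V), c • s₀ = L.presheaf.map (homOfLE hVU).op ((sigma s).app U e) := fun e => by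
    have h := hs₀ V le_rfl
    simp only [res_self] at h
    exact ⟨(h.2 _).choose, (h.2 _).choose_spec, fun y hy => h.1 (hy.trans (h.2 _).choose_spec.symm)⟩
  choose c hc huniq using hcoef
  let C : Γ(E, U) →+ Γ(X, V) :=
    { toFun := c
      map_zero' := (huniq 0 0 (by
        show (0 : Γ(X, V)) • s₀ = _
        rw [zero_smul, map_zero]; exact (map_zero _).symm)).symm
      map_add' := fun e e' => (huniq (e + e') (c e + c e') (by
        show (c e + c e') • s₀ = _
        rw [add_smul, hc e, hc e', ← map_add]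
        exact congrArg _ (map_add _ _ _).symm)).symm }
  let ρ := (g.appLE U V hVU).hom
  have hlin : ∀ r e, C (r • e) = ρ r * C e := fun r e => (huniq (r • e) (ρ r * c e) (by
    show (ρ r * c e) • s₀ = _
    rw [mul_smul, hc]
    erw [Scheme.Modules.Hom.app_smul (sigma s) r e]
    exact (L.map_smul (homOfLE hVU) (g.app U r) _).symm)).symm
  have h1 : C e₀ = 1 := (huniq e₀ 1 (one_smul _ _)).symm
  obtain ⟨θ, hθ⟩ := D.exists_hom hU e₀ ρ C hlin h1
  let T := (⊤ : (V : Scheme.{u}).Opens)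
  haveI : IsIso T.ι := inferInstanceAs (IsIso (Scheme.topIso (V : Scheme.{u})).hom)
  let θ' : Γ(P, D.DPl hU e₀) ⟶ Γ((V : Scheme.{u}), ⊤) := CommRingCat.ofHom θ ≫ V.topIso.inv
  obtain ⟨k, hk⟩ : ∃ k : (V : Scheme.{u}) ⟶ P,
      T.ι ≫ k = T.toSpecΓ ≫ Spec.map θ' ≫ (D.isAffineOpen_DPl hU e₀).fromSpec :=
    ⟨inv T.ι ≫ T.toSpecΓ ≫ Spec.map θ' ≫ (D.isAffineOpen_DPl hU e₀).fromSpec, IsIso.hom_inv_id_assoc _ _⟩
  have hrange : ∀ t, k t ∈ D.DPl hU e₀ := fun t => by
    have h2 : (T.ι ≫ k) ⟨t, trivial⟩ ∈ Set.range (D.isAffineOpen_DPl hU e₀).fromSpec.base := by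
      rw [hk]; exact ⟨_, rfl⟩
    rwa [(D.isAffineOpen_DPl hU e₀).range_fromSpec] at h2
  have hT : T ≤ k ⁻¹ᵁ D.DPl hU e₀ := fun t _ => hrange t
  have hpull : k.appLE (D.DPl hU e₀) T hT = θ' := by
    refine toSpecΓ_map_injective T ((cancel_mono (D.isAffineOpen_DPl hU e₀).fromSpec).1 ?_)
    rw [Category.assoc, Category.assoc, ← ι_comp_eq k (D.isAffineOpen_DPl hU e₀) hT, hk]
  have hTV : T ≤ V.ι ⁻¹ᵁ V := fun t _ => t.2
  have hcoord : ∀ (e : Γ(E, U)) (t : V),
      k.stalkMap t (P.presheaf.germ (D.DPl hU e₀) (k t) (hrange t) (D.coord hU e₀ e)) =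
        V.ι.stalkMap t (X.presheaf.germ V (V.ι t) t.2 (c e)) := fun e t => by
    rw [germ_stalkMap_congr k hT t (show t ∈ T from trivial), hpull,
      germ_stalkMap_congr V.ι hTV t (show t ∈ T from trivial)]
    show (V : Scheme.{u}).presheaf.germ T t _ (V.topIso.inv (θ (D.coord hU e₀ e))) = _
    rw [hθ e, ι_appLE_top]
    rfl
  have hkp : k ≫ p = V.ι ≫ g := by
    have hle : D.DPl hU e₀ ≤ p ⁻¹ᵁ U := D.DPl_le hU e₀
    have hq : ∀ r, θ (p.appLE U (D.DPl hU e₀) hle r) = ρ r := fun r => by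
      have h2 : p.appLE U (D.DPl hU e₀) hle r = D.coord hU e₀ (r • e₀) := by
        have h3 : D.sec hU e₀ (r • e₀) = p.appLE U (D.DPl hU e₀) hle r • D.sec hU e₀ e₀ := by
          unfold PData.sec
          erw [Scheme.Modules.Hom.app_smul φ r e₀]
          exact O1.map_smul (homOfLE (D.DPl_le hU e₀)) (p.app U r) _
        have h4 := D.gen_sec hU e₀ _ le_rfl
        simp only [res_self] at h4
        exact h4.1 (h3.symm.trans (D.sec_eq hU e₀ (r • e₀)))
      rw [h2, hθ, hlin, h1, mul_one]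
    rw [← cancel_epi T.ι, ← Category.assoc, hk, Category.assoc, Category.assoc,
      ← IsAffineOpen.SpecMap_appLE_fromSpec p hU (D.isAffineOpen_DPl hU e₀) hle, ← Spec.map_comp_assoc,
      ι_comp_eq (V.ι ≫ g) hU (V := T) (fun t _ => hVU t.2)]
    congr 3
    rw [← Scheme.Hom.appLE_comp_appLE V.ι g U V T hVU hTV, ι_appLE_top]
    refine CommRingCat.hom_ext (RingHom.ext fun r => ?_)
    show V.topIso.inv (θ (p.appLE U _ hle r)) = V.topIso.inv (g.appLE U V hVU r)
    exact congrArg V.topIso.inv (hq r)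
  refine ⟨V, k, hxV, hkp, fun W f₀ t hy hx => ?_⟩
  have hyx : p (k t) = g (V.ι t) := congrArg (fun f => f t) hkp
  have hyU : g (V.ι t) ∈ U := hVU t.2
  have hgen : Function.Bijective fun d : X.presheaf.stalk (V.ι t) => d • germφ (sigma s) (V.ι t) hyU e₀ := by
    have := hs₀.bijective_germ (V.ι t) t.2
    erw [TopCat.Presheaf.germ_res_apply] at this
    exact this
  have hP := D.bijective_germφ hU e₀ (hrange t)
  have hrel : ∀ f : Γ(E, W), ∃ (d : P.presheaf.stalk (k t)) (d' : X.presheaf.stalk (V.ι t)),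
      germφ φ (k t) hy f = d • germφ φ (k t) (D.DPl_le hU e₀ (hrange t)) e₀ ∧
        germφ (sigma s) (V.ι t) hx f = d' • germφ (sigma s) (V.ι t) hyU e₀ ∧
          k.stalkMap t d = V.ι.stalkMap t d' := fun f => by
    obtain ⟨W', h, hh, r, e, hxW', he⟩ := exists_mult D.hE hU hyU hx f
    have hyW' : p (k t) ∈ W' := hyx ▸ hxW'
    refine ⟨P.presheaf.germ (p ⁻¹ᵁ W') (k t) hyW' (p.app W' r) * P.presheaf.germ (D.DPl hU e₀) (k t) (hrange t) (D.coord hU e₀ e),
      X.presheaf.germ (g ⁻¹ᵁ W') (V.ι t) hxW' (g.app W' r) * X.presheaf.germ V (V.ι t) t.2 (c e), ?_, ?_, ?_⟩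
    · rw [← germφ_res h (k t) hyW' f, he, germφ_smul, germφ_res hh (k t) hyW' e, mul_smul,
        ← D.germφ_eq hU e₀ e (hrange t)]
    · rw [← germφ_res h (V.ι t) hxW' f, he, germφ_smul, germφ_res hh (V.ι t) hxW' e, mul_smul]
      refine congrArg (_ • ·) ?_
      unfold germφ
      rw [← TopCat.Presheaf.germ_res_apply L.presheaf (homOfLE hVU) (V.ι t) t.2, ← hc e, germ_smul' (V.ι t) t.2]
      exact congrArg (_ • ·) (TopCat.Presheaf.germ_res_apply L.presheaf (homOfLE hVU) (V.ι t) t.2 _)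
    · rw [map_mul, map_mul, hcoord e t]
      refine congrArg (· * _) ?_
      have hm : ∀ (F : (V : Scheme.{u}) ⟶ Y), F = V.ι ≫ g → ∀ hm : F t ∈ W',
          F.stalkMap t (Y.presheaf.germ W' (F t) hm r) =
            V.ι.stalkMap t (X.presheaf.germ (g ⁻¹ᵁ W') (V.ι t) hxW' (g.app W' r)) := by
        rintro _ rfl hm
        rw [stalkMap_comp']
        exact congrArg (V.ι.stalkMap t) (Scheme.Hom.germ_stalkMap_apply g W' (V.ι t) hxW' r)
      refine Eq.trans ?_ (hm (k ≫ p) hkp hyW')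
      rw [stalkMap_comp']
      exact congrArg (k.stalkMap t) (Scheme.Hom.germ_stalkMap_apply p W' (k t) hyW' r).symm
  obtain ⟨d₀, d₀', hd₀, hd₀', hdd₀⟩ := hrel f₀
  refine ⟨?_, fun f cc cc' hb hcc hcc' => ?_⟩
  · rw [hd₀, hd₀', AmpleLib.bijective_smul_iff hP, AmpleLib.bijective_smul_iff hgen,
      ← isUnit_map_iff (k.stalkMap t).hom d₀, ← isUnit_map_iff (V.ι.stalkMap t).hom d₀']
    rw [hdd₀]
  · obtain ⟨d, d', hd, hd', hdd⟩ := hrel f
    rw [hd₀', AmpleLib.bijective_smul_iff hgen] at hb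
    rw [hd₀, hd, ← mul_smul] at hcc
    rw [hd₀', hd', ← mul_smul] at hcc'
    have e1 := congrArg (k.stalkMap t).hom (hP.1 hcc)
    have e2 := congrArg (V.ι.stalkMap t).hom (hgen.1 hcc')
    rw [map_mul] at e1 e2
    rw [hdd₀, hdd, ← e2] at e1
    exact (hb.map (V.ι.stalkMap t).hom).mul_right_cancel e1

include D in
/-- There is exactly one compatible morphism. -/
theorem existsUnique_compat (hL : PicF.IsInvertible L) (s : (Scheme.Modules.pullback g).obj E ⟶ L) [Epi s] :
    ∃! r : X ⟶ P, Compat φ (sigma s) (𝟙 X) r := by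
  have hσ := exists_gen_at D.hE hL s
  choose V k hxV hk using exists_local D hL s
  let 𝒰 := X.openCoverOfIsOpenCover V (eq_top_iff.2 fun x _ => Opens.mem_iSup.2 ⟨x, hxV x⟩)
  have hcompat : ∀ x x', pullback.fst (𝒰.f x) (𝒰.f x') ≫ k x = pullback.snd (𝒰.f x) (𝒰.f x') ≫ k x' := fun x x' => by
    refine Compat.eq D (fun y U hU hy => hσ y U hU hy) (σ := sigma s) (a := pullback.fst (𝒰.f x) (𝒰.f x') ≫ 𝒰.f x) ?_ ?_
    · exact (hk x).precomp _
    · rw [pullback.condition]
      exact (hk x').precomp _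
  set r := 𝒰.glueMorphisms k hcompat
  have hr : Compat φ (sigma s) (𝟙 X) r := by
    have hrk : ∀ x, (V x).ι ≫ r = k x := fun x => 𝒰.ι_glueMorphisms _ _ x
    refine Compat.of_cover (fun x => (V x).ι) (fun t => ⟨t, ⟨t, hxV t⟩, rfl⟩) fun x => ?_
    rw [Category.comp_id, hrk x]
    exact hk x
  exact ⟨r, hr, fun r' hr' => Compat.eq D (fun y U hU hy => hσ y U hU hy) hr' hr⟩

end Groth.Agent.ProjBundleLib
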